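import Cfsg.Agent.Lib.InvRankP.Defs
import Mathlib.FieldTheory.Finite.Basic
import Mathlib.LinearAlgebra.Matrix.ToLin
import Mathlib.LinearAlgebra.Dual.Lemmas
import Mathlib.Algebra.CharP.Lemmas
import Mathlib.LinearAlgebra.FiniteDimensional.Lemmas

/-!
Tools for the classical families of S2876: exponentials of nilpotent matrices, Siegel elements of a
sesquilinear form, semilinear maps commuting with them.
-/

set_option autoImplicit false
set_option linter.style.haveILetI false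
set_option linter.unusedSectionVars false

namespace Cfsg.Agent.InvRankP.Classical

open Matrix Module

variable {F : Type*} [Field F]

/-! ### field -/

theorem two_ne_zero' (p : ℕ) [Fact p.Prime] [CharP F p] (hp : p ≠ 2) : (2 : F) ≠ 0 := fun e =>
  hp ((Nat.prime_dvd_prime_iff_eq (Fact.out : p.Prime) Nat.prime_two).1
    ((CharP.cast_eq_zero_iff F p 2).1 (by exact_mod_cast e)))

/-- A fixed element outside the prime field. -/
theorem exists_gen (p : ℕ) [Fact p.Prime] [CharP F p] (K : Subfield F) [Finite K]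
    (hK : p < Nat.card K) : ∃ t ∈ K, ∀ j : ℕ, t + (j : F) ≠ 0 := by
  by_contra! h
  have hsurj : Function.Surjective fun i : Fin p => -(((i : ℕ) : K)) := by
    intro t
    obtain ⟨j, hj⟩ := h t t.2
    refine ⟨⟨j % p, Nat.mod_lt _ (Fact.out : p.Prime).pos⟩, Subtype.ext ?_⟩
    show (-((j % p : ℕ) : K) : K).1 = t.1
    rw [Subfield.coe_neg, show (((j % p : ℕ) : K) : F) = ((j % p : ℕ) : F) from map_natCast K.subtype _,
      CharP.cast_eq_mod F p j |>.symm, eq_neg_of_add_eq_zero_left hj]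
  exact absurd (Nat.card_le_card_of_surjective _ hsurj) (by simpa using hK.not_ge)

theorem exists_gen_top (p : ℕ) [Fact p.Prime] [CharP F p] [Fintype F] (hK : p < Fintype.card F) :
    ∃ t : F, ∀ j : ℕ, t + (j : F) ≠ 0 := by
  obtain ⟨t, -, ht⟩ := exists_gen p (⊤ : Subfield F)
    (by rw [Nat.card_congr Subfield.topEquiv.toEquiv, Nat.card_eq_fintype_card]; exact hK)
  exact ⟨t, ht⟩

/-- The field fixed by `σ`. -/
abbrev fixedBy (σ : F ≃+* F) : Subfield F := σ.toRingHom.eqLocusField (RingHom.id F)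

theorem mem_fixedBy {σ : F ≃+* F} {x : F} : x ∈ fixedBy σ ↔ σ x = x := Iff.rfl

theorem exists_fixed_sol [Finite F] (h2 : (2 : F) ≠ 0) (σ : F ≃+* F) {A B C : F} (hA : σ A = A)
    (hB : σ B = B) (hC : σ C = C) (hA0 : A ≠ 0) (hB0 : B ≠ 0) :
    ∃ s t : F, σ s = s ∧ σ t = t ∧ A * s ^ 2 + B * t ^ 2 + C = 0 := by
  have : Fintype (fixedBy σ) := Fintype.ofFinite _
  have hchar : ringChar (fixedBy σ) ≠ 2 := by
    intro e
    have h : ((2 : ℕ) : fixedBy σ) = 0 := by rw [← e, ringChar.Nat.cast_ringChar]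
    have h' := congrArg (fixedBy σ).subtype h
    rw [map_natCast, map_zero] at h'
    exact h2 (by exact_mod_cast h')
  obtain ⟨s, t, hst⟩ := FiniteField.exists_root_sum_quadratic
    (f := Polynomial.C (⟨A, hA⟩ : fixedBy σ) * Polynomial.X ^ 2 + Polynomial.C 0)
    (g := Polynomial.C (⟨B, hB⟩ : fixedBy σ) * Polynomial.X ^ 2 + Polynomial.C ⟨C, hC⟩)
    (by rw [Polynomial.C_0, add_zero, Polynomial.degree_C_mul_X_pow 2 fun e => hA0 (congrArg Subtype.val e)]
        rfl)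
    (by rw [Polynomial.degree_add_eq_left_of_degree_lt, Polynomial.degree_C_mul_X_pow 2
          fun e => hB0 (congrArg Subtype.val e)]
        · rfl
        · rw [Polynomial.degree_C_mul_X_pow 2 fun e => hB0 (congrArg Subtype.val e)]
          exact lt_of_le_of_lt Polynomial.degree_C_le (by norm_num))
    (FiniteField.odd_card_of_char_ne_two hchar)
  refine ⟨(s : F), (t : F), s.2, t.2, ?_⟩
  have e := congrArg (fixedBy σ).subtype hst
  simpa [add_assoc] using e

/-- An element with `σ δ = -δ`. -/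
theorem exists_imag {σ : F ≃+* F} (hσσ : σ * σ = 1) (hσ : σ ≠ 1) : ∃ δ : F, δ ≠ 0 ∧ σ δ = -δ := by
  obtain ⟨a, ha⟩ : ∃ a, σ a ≠ a := by
    by_contra! h
    exact hσ (RingEquiv.ext h)
  refine ⟨a - σ a, sub_ne_zero.2 (Ne.symm ha), ?_⟩
  rw [map_sub, show σ (σ a) = a from DFunLike.congr_fun hσσ a, neg_sub]

theorem invol_apply {σ : F ≃+* F} (hσσ : σ * σ = 1) (a : F) : σ (σ a) = a := DFunLike.congr_fun hσσ a

/-- Hilbert 90 for an involution. -/
theorem exists_ratio {σ : F ≃+* F} (hσσ : σ * σ = 1) (hσ : σ ≠ 1) {ε : F} (hε : ε * σ ε = 1) :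
    ∃ t : F, t ≠ 0 ∧ σ t = ε * t := by
  by_cases h : ε = -1
  · obtain ⟨δ, hδ, hδσ⟩ := exists_imag hσσ hσ
    exact ⟨δ, hδ, by rw [hδσ, h, neg_one_mul]⟩
  · refine ⟨1 + σ ε, fun e => h ?_, ?_⟩
    · have e1 : σ ε = -1 := by linear_combination e
      rw [← invol_apply hσσ ε, e1, map_neg, map_one]
    · rw [map_add, map_one, invol_apply hσσ]
      linear_combination -hε

/-! ### exponentials -/

section exp

variable {ι : Type*} [Fintype ι] [DecidableEq ι]

local notation "M" => Matrix ι ι F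

/-- The exponential of a nilpotent matrix. -/
def ex (N : M) : M := 1 + N + (2 : F)⁻¹ • (N * N)

omit [Fintype ι] [DecidableEq ι] in
theorem half (h2 : (2 : F) ≠ 0) (N : M) :
    (2 : F)⁻¹ • N + (2 : F)⁻¹ • N = N := by
  rw [← add_smul, ← two_mul, mul_inv_cancel₀ h2, one_smul]

theorem ex_zero : ex (0 : M) = 1 := by simp [ex]

set_option linter.unusedSimpArgs false in
theorem ex_mul (h2 : (2 : F) ≠ 0) {A B : M} (hc : A * B = B * A) (h1 : A * A * B = 0)
    (h3 : A * B * B = 0) : ex A * ex B = ex (A + B) := by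
  have hab : (2 : F)⁻¹ • (A * B) + (2 : F)⁻¹ • (A * B) = A * B := half h2 _
  have h4 : A * (B * B) = 0 := by rw [← mul_assoc, h3]
  have h5 : A * A * (B * B) = 0 := by rw [← mul_assoc, h1, zero_mul]
  simp only [ex, add_mul, mul_add, one_mul, mul_one, Matrix.smul_mul, Matrix.mul_smul, smul_add, ← hc,
    h1, h4, h5, smul_zero, add_zero, zero_add]
  conv_lhs => rw [← hab]
  abel

/-- Two commuting nilpotent matrices, independent over the prime field. -/
structure IsPair (A B : M) : Prop where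
  comm : A * B = B * A
  aaa : A * A * A = 0
  aab : A * A * B = 0
  abb : A * B * B = 0
  bbb : B * B * B = 0
  ne : A ≠ 0
  indep : ∀ j : ℕ, B + j • A ≠ 0

theorem ex_pow (h2 : (2 : F) ≠ 0) {A : M} (h : A * A * A = 0) (k : ℕ) : ex A ^ k = ex (k • A) := by
  induction k with
  | zero => rw [pow_zero, zero_smul, ex_zero]
  | succ k ih =>
    have e1 : (k • A) * A = A * (k • A) := by rw [smul_mul_assoc, mul_smul_comm]
    rw [pow_succ, ih, ex_mul h2 e1, add_smul, one_smul]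
    · rw [smul_mul_assoc, mul_smul_comm, smul_mul_assoc, smul_mul_assoc, h, smul_zero, smul_zero]
    · rw [smul_mul_assoc, smul_mul_assoc, h, smul_zero]

theorem ex_pow_char (p : ℕ) [Fact p.Prime] [CharP F p] (hp : p ≠ 2) {A : M} (h : A * A * A = 0) :
    ex A ^ p = 1 := by
  rw [ex_pow (two_ne_zero' p hp) h, ← Nat.cast_smul_eq_nsmul F p A, CharP.cast_eq_zero, zero_smul,
    ex_zero]

theorem det_ex (p : ℕ) [Fact p.Prime] [CharP F p] (hp : p ≠ 2) {A : M} (h : A * A * A = 0) :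
    (ex A).det = 1 := by
  have e : (ex A).det ^ p = 1 := by rw [← Matrix.det_pow, ex_pow_char p hp h, Matrix.det_one]
  refine sub_eq_zero.1 (eq_zero_of_pow_eq_zero (n := p) ?_)
  rw [sub_pow_char, e, one_pow, sub_self]

/-- Only the exponential of zero is scalar. -/
theorem eq_zero_of_ex_scalar [Nonempty ι] (h2 : (2 : F) ≠ 0) {A : M} (h : A * A * A = 0) {c : F}
    (hc : ex A = c • 1) : A = 0 := by
  have e : A + (2 : F)⁻¹ • (A * A) = (c - 1) • (1 : M) := by
    rw [sub_smul, one_smul, ← hc, ex]; abel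
  have e1 : A * A = (c - 1) • A := by
    have := congrArg (fun X => X * A) e
    simpa [add_mul, h] using this
  have hc0 : c - 1 = 0 := by
    by_contra hne
    have e2 : (c - 1) • (A * A) = 0 := by rw [← Matrix.smul_mul, ← e1, h]
    rw [smul_eq_zero, or_iff_right hne] at e2
    rw [e2, eq_comm, smul_eq_zero, or_iff_right hne] at e1
    rw [e1, zero_mul, smul_zero, add_zero, eq_comm, smul_eq_zero, or_iff_right hne] at e
    exact one_ne_zero e
  rw [hc0, zero_smul] at e1 e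
  rw [e1, smul_zero, add_zero] at e
  exact e

/-- The criterion for `TwoFix`. -/
theorem twoFix_of_pair [Nonempty ι] {S : Type*} [Group S] {K : Type*} [Group K] (p : ℕ)
    [Fact p.Prime] [CharP F p] (hp : p ≠ 2) (π : S →* K) (f : S →* M) (hf : Function.Injective f)
    (hker : ∀ s, π s = 1 → ∃ c : F, f s = c • 1) {φ : MulAut K} {A B : M} (hP : IsPair A B)
    {a b : S} (ha : f a = ex A) (hb : f b = ex B) (hφa : φ (π a) = π a) (hφb : φ (π b) = π b) :
    TwoFix p φ := by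
  have h2 := two_ne_zero' (F := F) p hp
  have hap : a ^ p = 1 := hf (by rw [map_pow, ha, ex_pow_char p hp hP.aaa, map_one])
  have hbp : b ^ p = 1 := hf (by rw [map_pow, hb, ex_pow_char p hp hP.bbb, map_one])
  have hba : B * A = A * B := hP.comm.symm
  have bab : B * B * A = 0 := by rw [mul_assoc, hba, ← mul_assoc, hba, hP.abb]
  have baa : B * A * A = 0 := by rw [hba, mul_assoc, hba, ← mul_assoc, hP.aab]
  have aba : A * B * A = 0 := by rw [mul_assoc, hba, ← mul_assoc, hP.aab]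
  have hab : a * b = b * a := hf (by
    rw [map_mul, map_mul, ha, hb, ex_mul h2 hP.comm hP.aab hP.abb, ex_mul h2 hba bab baa, add_comm])
  refine ⟨π a, π b, by rw [← map_pow, hap, map_one], by rw [← map_pow, hbp, map_one],
    by rw [← map_mul, ← map_mul, hab], hφa, hφb, fun e => ?_, fun hz => ?_⟩
  · obtain ⟨c, hc⟩ := hker a e
    exact hP.ne (eq_zero_of_ex_scalar h2 hP.aaa (ha ▸ hc))
  · obtain ⟨k, hk⟩ := Subgroup.mem_zpowers_iff.1 hz
    obtain ⟨m, hm⟩ : ∃ m : ℕ, π a ^ m = π a ^ k := by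
      refine ⟨(k % (p : ℤ)).toNat, ?_⟩
      rw [← zpow_natCast, Int.toNat_of_nonneg (Int.emod_nonneg _ (by exact_mod_cast (Fact.out : p.Prime).ne_zero))]
      conv_rhs => rw [← Int.mul_ediv_add_emod k p]
      rw [_root_.zpow_add, _root_.zpow_mul, zpow_natCast, ← map_pow, hap, map_one, _root_.one_zpow, one_mul]
    obtain ⟨j, hj⟩ : ∃ j : ℕ, j = (p - 1) * m := ⟨_, rfl⟩
    have hpi : π (b * a ^ j) = 1 := by
      rw [map_mul, map_pow, ← hk, ← hm, ← pow_add, hj, show m + (p - 1) * m = p * m by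
        have := (Fact.out : p.Prime).pos
        obtain ⟨r, rfl⟩ : ∃ r, p = r + 1 := ⟨p - 1, by omega⟩
        simp [add_mul, add_comm], pow_mul, ← map_pow, hap, map_one, one_pow]
    obtain ⟨c, hc⟩ := hker _ hpi
    rw [map_mul, map_pow, ha, hb, ex_pow h2 hP.aaa] at hc
    have e1 : B * (j • A) = (j • A) * B := by rw [mul_smul_comm, smul_mul_assoc, hba]
    have e2 : B * B * (j • A) = 0 := by rw [mul_smul_comm, bab, smul_zero]
    have e3 : B * (j • A) * (j • A) = 0 := by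
      simp only [mul_smul_comm, smul_mul_assoc, baa, smul_zero]
    rw [ex_mul h2 e1 e2 e3] at hc
    refine hP.indep j (eq_zero_of_ex_scalar h2 ?_ hc)
    simp only [add_mul, mul_add, mul_smul_comm, smul_mul_assoc, hba, hP.aaa, hP.bbb, bab, baa, aba,
      hP.aab, hP.abb, smul_zero, add_zero]

end exp

/-! ### semilinear maps -/

section semilinear

variable {ι : Type*} [Fintype ι] [DecidableEq ι]

local notation "V" => ι → F

/-- An injective semilinear map. -/
structure Semi (τ : F ≃+* F) (ι : Type*) where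
  /-- The underlying map. -/
  S : (ι → F) → (ι → F)
  map_add : ∀ x y, S (x + y) = S x + S y
  map_smul : ∀ (c : F) x, S (c • x) = τ c • S x
  inj : Function.Injective S

/-- The semilinear map `x ↦ g τ(x)`. -/
def Semi.ofGL (g : GL ι F) (τ : F ≃+* F) : Semi τ ι where
  S x := (g : Matrix ι ι F) *ᵥ (τ ∘ x)
  map_add x y := by
    rw [← Matrix.mulVec_add]
    congr 1
    funext i
    simp
  map_smul c x := by
    rw [← Matrix.mulVec_smul]
    congr 1
    funext i
    simp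
  inj x y e := funext fun i => τ.injective (congrFun (Matrix.mulVec_injective_iff_isUnit.2 g.isUnit e) i)

/-- A scalar multiple. -/
def Semi.scale {τ : F ≃+* F} (T : Semi τ ι) (a : F) (ha : a ≠ 0) : Semi τ ι where
  S x := a • T.S x
  map_add x y := by rw [T.map_add, smul_add]
  map_smul c x := by rw [T.map_smul, smul_comm]
  inj _ _ e := T.inj (smul_right_injective _ ha e)

variable {τ : F ≃+* F} (T : Semi τ ι)

omit [Fintype ι] [DecidableEq ι] in
theorem Semi.map_zero : T.S 0 = 0 := by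
  have := T.map_smul 0 0
  rwa [zero_smul, _root_.map_zero, zero_smul] at this

omit [Fintype ι] [DecidableEq ι] in
theorem Semi.map_sub (x y : V) : T.S (x - y) = T.S x - T.S y := by
  rw [sub_eq_add_neg, T.map_add, ← neg_one_smul F y, T.map_smul, _root_.map_neg, _root_.map_one,
    neg_one_smul, ← sub_eq_add_neg]

/-- `N` commutes with the semilinear map. -/
def Semi.Comm (N : Matrix ι ι F) : Prop := ∀ x, N *ᵥ T.S x = T.S (N *ᵥ x)

theorem Semi.Comm.ex {N : Matrix ι ι F} (h : T.Comm N) : T.Comm (Classical.ex N) := fun x => by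
  simp only [Classical.ex, Matrix.add_mulVec, Matrix.one_mulVec, Matrix.smul_mulVec, T.map_add,
    T.map_smul, ← Matrix.mulVec_mulVec, map_inv₀, map_ofNat, h x, h (N *ᵥ x)]

theorem Semi.Comm.of_scale {a : F} (ha : a ≠ 0) {N : Matrix ι ι F} (h : (T.scale a ha).Comm N) :
    T.Comm N := fun x => smul_right_injective _ ha (by
  have := h x
  rw [show (T.scale a ha).S x = a • T.S x from rfl, Matrix.mulVec_smul] at this
  exact this)

theorem Semi.Comm.add {N N' : Matrix ι ι F} (h : T.Comm N) (h' : T.Comm N') : T.Comm (N + N') :=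
  fun x => by rw [Matrix.add_mulVec, Matrix.add_mulVec, h x, h' x, T.map_add]

theorem conj_eq_of_comm (g : GL ι F) {τ : F ≃+* F} {N : Matrix ι ι F}
    (h : (Semi.ofGL g τ).Comm N) :
    (g : Matrix ι ι F) * N.map τ * ((g⁻¹ : GL ι F) : Matrix ι ι F) = N := by
  refine Matrix.ext_of_mulVec_single fun i => ?_
  obtain ⟨y, hy⟩ : ∃ y : ι → F, (g : Matrix ι ι F) *ᵥ (τ ∘ y) = Pi.single i 1 :=
    ⟨τ.symm ∘ (((g⁻¹ : GL ι F) : Matrix ι ι F) *ᵥ Pi.single i 1), by
      rw [← Function.comp_assoc, show ⇑τ ∘ ⇑τ.symm = id from funext τ.apply_symm_apply,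
        Function.id_comp, Matrix.mulVec_mulVec, ← Units.val_mul, mul_inv_cancel, Units.val_one,
        Matrix.one_mulVec]⟩
  rw [← hy, Matrix.mulVec_mulVec, mul_assoc, ← Units.val_mul, inv_mul_cancel, Units.val_one, mul_one,
    ← Matrix.mulVec_mulVec, ← show (τ : F → F) ∘ (N *ᵥ y) = N.map τ *ᵥ (τ ∘ y) from
      funext fun k => RingHom.map_mulVec τ.toRingHom N y k]
  exact (h y).symm

/-- The linear span of the fixed vectors of a semilinear involution. -/
theorem Semi.exists_fixed_outside (h2 : (2 : F) ≠ 0) (hτ : τ * τ = 1) (hne : τ ≠ 1)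
    (U W : Submodule F V) (hU : ∀ u ∈ U, T.S u ∈ U) (hTT : ∀ u ∈ U, T.S (T.S u) = u) (hUW : ¬U ≤ W) :
    ∃ w ∈ U, w ∉ W ∧ T.S w = w := by
  obtain ⟨δ, hδ, hδτ⟩ := exists_imag hτ hne
  obtain ⟨u, huU, huW⟩ := Set.not_subset.1 hUW
  have hu' : δ • u ∈ U := U.smul_mem δ huU
  by_contra! hall
  have h1 : u + T.S u ∈ W := by
    by_contra hn
    exact hall _ (U.add_mem huU (hU u huU)) hn (by rw [T.map_add, hTT u huU, add_comm])
  have h3 : δ • u + T.S (δ • u) ∈ W := by
    by_contra hn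
    exact hall _ (U.add_mem hu' (hU _ hu')) hn (by rw [T.map_add, hTT _ hu', add_comm])
  rw [T.map_smul, hδτ, neg_smul, ← sub_eq_add_neg, ← smul_sub] at h3
  have h4 : u - T.S u ∈ W := by
    have := W.smul_mem δ⁻¹ h3
    rwa [smul_smul, inv_mul_cancel₀ hδ, one_smul] at this
  have h5 : (2 : F) • u ∈ W := by
    have := W.add_mem h1 h4
    rwa [two_smul, show u + u = u + T.S u + (u - T.S u) by abel]
  exact huW (by simpa [smul_smul, inv_mul_cancel₀ h2] using W.smul_mem (2 : F)⁻¹ h5)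

end semilinear

/-! ### sesquilinear forms -/

/-- A nondegenerate form, linear in the second variable, with `b y x = ε σ (b x y)`. -/
structure Form (F : Type*) [Field F] (ι : Type*) where
  /-- The form. -/
  b : (ι → F) → (ι → F) → F
  /-- The field automorphism. -/
  σ : F ≃+* F
  /-- The sign. -/
  ε : F
  sq : σ * σ = 1
  unit : ε * σ ε = 1
  add_right : ∀ x y z, b x (y + z) = b x y + b x z
  smul_right : ∀ (c : F) x y, b x (c • y) = c * b x y
  swap : ∀ x y, b y x = ε * σ (b x y)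
  nondeg : ∀ x, (∀ y, b x y = 0) → x = 0

namespace Form

variable {ι : Type*} [Fintype ι] [DecidableEq ι] (Φ : Form F ι)

local notation "V" => ι → F

omit [Fintype ι] [DecidableEq ι] in
theorem ε_ne : Φ.ε ≠ 0 := left_ne_zero_of_mul_eq_one Φ.unit

omit [Fintype ι] [DecidableEq ι] in
theorem add_left (x y z : V) : Φ.b (x + y) z = Φ.b x z + Φ.b y z := by
  rw [Φ.swap z (x + y), Φ.add_right, map_add, mul_add, ← Φ.swap, ← Φ.swap]

omit [Fintype ι] [DecidableEq ι] in
theorem smul_left (c : F) (x y : V) : Φ.b (c • x) y = Φ.σ c * Φ.b x y := by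
  rw [Φ.swap y (c • x), Φ.smul_right, map_mul, Φ.swap y x]
  ring

/-- The linear functional `b x`. -/
def lin (x : V) : V →ₗ[F] F where
  toFun := Φ.b x
  map_add' := Φ.add_right x
  map_smul' c y := Φ.smul_right c x y

omit [Fintype ι] [DecidableEq ι] in
theorem lin_apply (x y : V) : Φ.lin x y = Φ.b x y := rfl

omit [Fintype ι] [DecidableEq ι] in
theorem zero_right (x : V) : Φ.b x 0 = 0 := map_zero (Φ.lin x)

omit [Fintype ι] [DecidableEq ι] in
theorem zero_left (x : V) : Φ.b 0 x = 0 := by rw [Φ.swap x 0, Φ.zero_right, map_zero, mul_zero]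

omit [Fintype ι] [DecidableEq ι] in
theorem sub_right (x y z : V) : Φ.b x (y - z) = Φ.b x y - Φ.b x z := map_sub (Φ.lin x) y z

omit [Fintype ι] [DecidableEq ι] in
theorem eq_zero_comm {x y : V} (h : Φ.b x y = 0) : Φ.b y x = 0 := by
  rw [Φ.swap, h, map_zero, mul_zero]

/-- The row of the functional `b x`. -/
def row (x : V) : V := fun i => Φ.b x (Pi.single i 1)

theorem row_dot (x y : V) : Φ.row x ⬝ᵥ y = Φ.b x y := by
  conv_rhs => rw [pi_eq_sum_univ' y, ← Φ.lin_apply, map_sum]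
  simp [dotProduct, row, map_smul, lin_apply, mul_comm]

/-- `N` is skew. -/
def Skew (N : Matrix ι ι F) : Prop := ∀ x y, Φ.b (N *ᵥ x) y + Φ.b x (N *ᵥ y) = 0

omit [DecidableEq ι] in
theorem Skew.add {N N' : Matrix ι ι F} (h : Φ.Skew N) (h' : Φ.Skew N') : Φ.Skew (N + N') :=
  fun x y => by
    rw [Matrix.add_mulVec, Matrix.add_mulVec, Φ.add_left, Φ.add_right]
    linear_combination h x y + h' x y

omit [DecidableEq ι] in
theorem Skew.smul {c : F} (hc : Φ.σ c = c) {N : Matrix ι ι F} (h : Φ.Skew N) : Φ.Skew (c • N) :=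
  fun x y => by
    rw [Matrix.smul_mulVec, Matrix.smul_mulVec, Φ.smul_left, Φ.smul_right, hc]
    linear_combination c * h x y

theorem ex_pres (h2 : (2 : F) ≠ 0) {N : Matrix ι ι F} (h3 : N * N * N = 0) (h : Φ.Skew N)
    (x y : V) : Φ.b (ex N *ᵥ x) (ex N *ᵥ y) = Φ.b x y := by
  have e3 : ∀ z : V, N *ᵥ (N *ᵥ (N *ᵥ z)) = 0 := fun z => by
    rw [Matrix.mulVec_mulVec, Matrix.mulVec_mulVec, h3, Matrix.zero_mulVec]
  have hr : ∀ a : F, Φ.σ ((2 : F)⁻¹ * a) = (2 : F)⁻¹ * Φ.σ a := fun a => by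
    rw [map_mul, map_inv₀, map_ofNat]
  have hσ : Φ.σ (2 : F)⁻¹ = (2 : F)⁻¹ := by rw [map_inv₀, map_ofNat]
  simp only [ex, Matrix.add_mulVec, Matrix.one_mulVec, Matrix.smul_mulVec, ← Matrix.mulVec_mulVec,
    Φ.add_left, Φ.add_right, Φ.smul_left, Φ.smul_right, hσ]
  have a1 := h x y
  have a2 := h (N *ᵥ x) y
  have a3 := h x (N *ᵥ y)
  have a4 := h (N *ᵥ x) (N *ᵥ y)
  have a5 := h (N *ᵥ (N *ᵥ x)) (N *ᵥ y)
  rw [e3, Φ.zero_left, zero_add] at a5
  have a6 := h (N *ᵥ x) (N *ᵥ (N *ᵥ y))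
  rw [e3, Φ.zero_right, add_zero] at a6
  have hh : (2 : F)⁻¹ + (2 : F)⁻¹ = 1 := by rw [← two_mul, mul_inv_cancel₀ h2]
  linear_combination a1 + (2 : F)⁻¹ * a2 + (2 : F)⁻¹ * a3 + (2 : F)⁻¹ * a4
    + (2 : F)⁻¹ * (2 : F)⁻¹ * a6 - Φ.b (N *ᵥ x) (N *ᵥ y) * hh

/-- The Siegel element. -/
def sie (v w : V) : Matrix ι ι F :=
  Matrix.vecMulVec w (Φ.row v) - Φ.σ Φ.ε • Matrix.vecMulVec v (Φ.row w)

theorem sie_mulVec (v w x : V) :
    Φ.sie v w *ᵥ x = Φ.b v x • w - (Φ.σ Φ.ε * Φ.b w x) • v := by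
  funext i
  simp only [sie, Matrix.sub_mulVec, Matrix.smul_mulVec, Matrix.vecMulVec_mulVec, Φ.row_dot,
    Pi.sub_apply, Pi.smul_apply, MulOpposite.smul_eq_mul_unop, MulOpposite.unop_op, smul_eq_mul]
  ring

theorem ext_mulVec {N N' : Matrix ι ι F} (h : ∀ x, N *ᵥ x = N' *ᵥ x) : N = N' :=
  Matrix.ext_of_mulVec_single fun _ => h _

theorem sie_add (v w w' : V) : Φ.sie v (w + w') = Φ.sie v w + Φ.sie v w' := ext_mulVec fun x => by
  simp only [sie_mulVec, Matrix.add_mulVec, Φ.add_left, mul_add, add_smul, smul_add]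
  abel

theorem sie_nsmul (v w : V) (j : ℕ) : Φ.sie v (j • w) = j • Φ.sie v w := by
  induction j with
  | zero =>
    refine ext_mulVec fun x => ?_
    rw [zero_smul, zero_smul, sie_mulVec, Matrix.zero_mulVec, Φ.zero_left, mul_zero, zero_smul, sub_zero]
    exact smul_zero _
  | succ j ih => rw [succ_nsmul, sie_add, ih, succ_nsmul]

theorem sie_skew (v w : V) : Φ.Skew (Φ.sie v w) := fun x y => by
  simp only [sie_mulVec, sub_eq_add_neg, ← neg_smul, Φ.add_left, Φ.add_right, Φ.smul_left,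
    Φ.smul_right, map_neg, map_mul, invol_apply Φ.sq]
  rw [Φ.swap w x, Φ.swap v x]
  linear_combination -(Φ.b w y * Φ.σ (Φ.b v x)) * Φ.unit

theorem sie_self {v w : V} (hv : Φ.b v v = 0) (hw : Φ.b v w = 0) : Φ.sie v w *ᵥ v = 0 := by
  rw [sie_mulVec, hv, Φ.eq_zero_comm hw, zero_smul, mul_zero, zero_smul, sub_zero]

theorem sie_mul {v a b : V} (hv : Φ.b v v = 0) (ha : Φ.b v a = 0) (hb : Φ.b v b = 0) (x : V) :
    Φ.sie v a *ᵥ (Φ.sie v b *ᵥ x) = -(Φ.σ Φ.ε * Φ.b v x * Φ.b a b) • v := by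
  rw [Φ.sie_mulVec v b, Matrix.mulVec_sub, Matrix.mulVec_smul, Matrix.mulVec_smul, Φ.sie_self hv ha,
    smul_zero, sub_zero, sie_mulVec, hb, zero_smul, zero_sub, smul_neg, smul_smul, neg_smul]
  congr 2
  ring

/-- Siegel elements with commuting parameters form a pair. -/
theorem pair_sie {v a b : V} (hv : Φ.b v v = 0) (ha : Φ.b v a = 0) (hb : Φ.b v b = 0)
    (hab : Φ.b a b = Φ.b b a) (hne : Φ.sie v a ≠ 0)
    (hind : ∀ j : ℕ, Φ.sie v (b + j • a) ≠ 0) : IsPair (Φ.sie v a) (Φ.sie v b) := by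
  have triple : ∀ c d e : V, Φ.b v c = 0 → Φ.b v d = 0 → Φ.b v e = 0 →
      Φ.sie v c * Φ.sie v d * Φ.sie v e = 0 := fun c d e hc hd he => ext_mulVec fun x => by
    rw [mul_assoc, ← Matrix.mulVec_mulVec, ← Matrix.mulVec_mulVec, Φ.sie_mul hv hd he,
      Matrix.mulVec_smul, Φ.sie_self hv hc, smul_zero, Matrix.zero_mulVec]
  refine ⟨ext_mulVec fun x => ?_, triple _ _ _ ha ha ha, triple _ _ _ ha ha hb, triple _ _ _ ha hb hb,
    triple _ _ _ hb hb hb, hne, fun j e => hind j ?_⟩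
  · rw [← Matrix.mulVec_mulVec, ← Matrix.mulVec_mulVec, Φ.sie_mul hv ha hb, Φ.sie_mul hv hb ha, hab]
  · rw [sie_add, sie_nsmul, e]

theorem exists_one {v : V} (hv : v ≠ 0) : ∃ x, Φ.b v x = 1 := by
  obtain ⟨y, hy⟩ : ∃ y, Φ.b v y ≠ 0 := by
    by_contra! h
    exact hv (Φ.nondeg v h)
  exact ⟨(Φ.b v y)⁻¹ • y, by rw [Φ.smul_right, inv_mul_cancel₀ hy]⟩

/-- Siegel elements vanish only on the line. -/
theorem mem_span_of_sie_eq_zero {v w : V} (hv : v ≠ 0) (h : Φ.sie v w = 0) :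
    w ∈ F ∙ v := by
  obtain ⟨x, hx⟩ := Φ.exists_one hv
  have := congrArg (· *ᵥ x) h
  simp only [sie_mulVec, hx, one_smul, Matrix.zero_mulVec, sub_eq_zero] at this
  exact Submodule.mem_span_singleton.2 ⟨_, this.symm⟩

theorem sie_ne_zero {v w : V} (hv : v ≠ 0) (hw : w ∉ F ∙ v) : Φ.sie v w ≠ 0 :=
  fun h => hw (Φ.mem_span_of_sie_eq_zero hv h)

theorem sie_smul_self {v : V} (r : F) (x : V) :
    Φ.sie v (r • v) *ᵥ x = ((r - Φ.σ (Φ.ε * r)) * Φ.b v x) • v := by
  rw [sie_mulVec, Φ.smul_left, smul_smul, ← sub_smul, map_mul]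
  congr 1
  ring

theorem sie_self_ne_zero {v : V} (hv : v ≠ 0) {r : F} (hr : Φ.σ (Φ.ε * r) ≠ r) :
    Φ.sie v (r • v) ≠ 0 := by
  intro h
  obtain ⟨x, hx⟩ := Φ.exists_one hv
  have := congrArg (· *ᵥ x) h
  simp only [sie_smul_self, hx, mul_one, Matrix.zero_mulVec, smul_eq_zero, hv, or_false] at this
  exact hr (sub_eq_zero.1 this).symm

theorem span_add {v w : V} (hw : w ∉ F ∙ v) (r : F) (j : ℕ) : w + j • (r • v) ∉ F ∙ v := fun h =>
  hw (by simpa using sub_mem h ((F ∙ v).smul_of_tower_mem j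
    ((F ∙ v).smul_mem r (Submodule.mem_span_singleton_self v))))

theorem span_add_smul {v w : V} (hw : w ∉ F ∙ v) {t : F} {j : ℕ} (ht : t + (j : F) ≠ 0) :
    t • w + j • w ∉ F ∙ v := by
  rw [← Nat.cast_smul_eq_nsmul F, ← add_smul]
  intro h
  exact hw (by simpa [smul_smul, inv_mul_cancel₀ ht] using (F ∙ v).smul_mem (t + (j : F))⁻¹ h)

/-- Parameters `r v` and `w`. -/
theorem pair_sie_self {v w : V} (hv : v ≠ 0) (hvv : Φ.b v v = 0) (hw : Φ.b v w = 0)
    (hwv : w ∉ F ∙ v) {r : F} (hr : Φ.σ (Φ.ε * r) ≠ r) :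
    IsPair (Φ.sie v (r • v)) (Φ.sie v w) := by
  refine Φ.pair_sie hvv (by rw [Φ.smul_right, hvv, mul_zero]) hw ?_ (Φ.sie_self_ne_zero hv hr)
    fun j => Φ.sie_ne_zero hv (span_add hwv r j)
  rw [Φ.smul_left, hw, Φ.smul_right, Φ.eq_zero_comm hw, mul_zero, mul_zero]

/-- Parameters `w` and `t w`. -/
theorem pair_sie_smul {v w : V} (hv : v ≠ 0) (hvv : Φ.b v v = 0) (hw : Φ.b v w = 0)
    (hwv : w ∉ F ∙ v) {t : F} (ht : ∀ j : ℕ, t + (j : F) ≠ 0)
    (hc : Φ.σ t = t ∨ Φ.b w w = 0) : IsPair (Φ.sie v w) (Φ.sie v (t • w)) := by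
  refine Φ.pair_sie hvv hw (by rw [Φ.smul_right, hw, mul_zero]) ?_ (Φ.sie_ne_zero hv hwv)
    fun j => Φ.sie_ne_zero hv (span_add_smul hwv (ht j))
  rw [Φ.smul_left, Φ.smul_right]
  rcases hc with h | h <;> simp [h]

/-! ### isotropic vectors and complements -/

omit [DecidableEq ι] in
theorem exists_ker_outside {k : ℕ} (f : Fin k → V →ₗ[F] F) (U W : Submodule F V)
    (h : k + finrank F W < finrank F U) : ∃ w ∈ U, (∀ i, f i w = 0) ∧ w ∉ W := by
  by_contra! hall
  let f' : U →ₗ[F] (Fin k → F) := (LinearMap.pi f).comp U.subtype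
  have h1 : finrank F (LinearMap.ker f') ≤ finrank F W := by
    rw [(Submodule.equivMapOfInjective U.subtype U.injective_subtype (LinearMap.ker f')).finrank_eq]
    refine Submodule.finrank_mono ?_
    rintro _ ⟨u, hu, rfl⟩
    exact hall _ u.2 fun i => congrFun (LinearMap.mem_ker.1 hu) i
  have h2 := LinearMap.finrank_range_add_finrank_ker f'
  have h3 := (LinearMap.range f').finrank_le
  rw [Module.finrank_fin_fun] at h3
  omega

theorem finrank_span_le_one (v : V) : finrank F (F ∙ v) ≤ 1 := by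
  rcases eq_or_ne v 0 with rfl | hv
  · rw [Submodule.span_zero_singleton, finrank_bot]; omega
  · exact (finrank_span_singleton hv).le

theorem exists_perp_outside (v : V) (h : 3 ≤ Fintype.card ι) :
    ∃ w, Φ.b v w = 0 ∧ w ∉ F ∙ v := by
  obtain ⟨w, -, hw, hwv⟩ := exists_ker_outside ![Φ.lin v] ⊤ (F ∙ v) (by
    rw [finrank_top, Module.finrank_fintype_fun_eq_card]
    have := finrank_span_le_one (F := F) v
    omega)
  exact ⟨w, hw 0, hwv⟩

/-- Isotropic vectors in three dimensions. -/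
theorem exists_iso [Finite F] (h2 : (2 : F) ≠ 0) (hε : Φ.ε = 1) (U : Submodule F V)
    (hU : 3 ≤ finrank F U) : ∃ v ∈ U, v ≠ 0 ∧ Φ.b v v = 0 := by
  by_contra! hall
  obtain ⟨x, hxU, -, hx⟩ := exists_ker_outside ![] U ⊥ (by simp; omega)
  have hxx := hall x hxU fun e => hx (e ▸ Submodule.zero_mem _)
  obtain ⟨y, hyU, hy, hy0⟩ := exists_ker_outside ![Φ.lin x] U ⊥ (by simp; omega)
  have hxy : Φ.b x y = 0 := hy 0
  have hyy := hall y hyU fun e => hy0 (e ▸ Submodule.zero_mem _)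
  obtain ⟨z, hzU, hz, hz0⟩ := exists_ker_outside ![Φ.lin x, Φ.lin y] U ⊥ (by simp; omega)
  have hxz : Φ.b x z = 0 := hz 0
  have hyz : Φ.b y z = 0 := hz 1
  have hzz := hall z hzU fun e => hz0 (e ▸ Submodule.zero_mem _)
  have hfix : ∀ u : V, Φ.σ (Φ.b u u) = Φ.b u u := fun u => by
    conv_rhs => rw [Φ.swap u u, hε, one_mul]
  obtain ⟨s, t, hs, ht, hst⟩ := exists_fixed_sol h2 Φ.σ (hfix x) (hfix y) (hfix z) hxx hyy
  refine hzz ?_
  have hv := hall (s • x + t • y + z) (U.add_mem (U.add_mem (U.smul_mem s hxU) (U.smul_mem t hyU)) hzU)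
  have hvz : Φ.b z (s • x + t • y + z) = Φ.b z z := by
    simp [Φ.add_right, Φ.smul_right, Φ.eq_zero_comm hxz, Φ.eq_zero_comm hyz]
  by_contra hne
  refine hv (fun e => hne ?_) ?_
  · rw [← hvz, e, Φ.zero_right]
  · simp only [Φ.add_left, Φ.add_right, Φ.smul_left, Φ.smul_right, hs, ht, hxy, hxz, hyz,
      Φ.eq_zero_comm hxy, Φ.eq_zero_comm hxz, Φ.eq_zero_comm hyz]
    linear_combination hst

/-- Isotropic vectors in two dimensions of a hermitian form. -/
theorem exists_iso_two [Finite F] (h2 : (2 : F) ≠ 0) (hε : Φ.ε = 1) (hσ : Φ.σ ≠ 1)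
    (U : Submodule F V) (hU : 2 ≤ finrank F U) : ∃ v ∈ U, v ≠ 0 ∧ Φ.b v v = 0 := by
  by_contra! hall
  obtain ⟨x, hxU, -, hx⟩ := exists_ker_outside ![] U ⊥ (by simp; omega)
  have hxx := hall x hxU fun e => hx (e ▸ Submodule.zero_mem _)
  obtain ⟨y, hyU, hy, hy0⟩ := exists_ker_outside ![Φ.lin x] U ⊥ (by simp; omega)
  have hxy : Φ.b x y = 0 := hy 0
  have hyy := hall y hyU fun e => hy0 (e ▸ Submodule.zero_mem _)
  obtain ⟨δ, hδ, hδσ⟩ := exists_imag Φ.sq hσ
  have hfix : ∀ u : V, Φ.σ (Φ.b u u) = Φ.b u u := fun u => by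
    conv_rhs => rw [Φ.swap u u, hε, one_mul]
  obtain ⟨s, t, hs, ht, hst⟩ := exists_fixed_sol h2 Φ.σ (hfix x)
    (B := -δ * δ * Φ.b x x) (by rw [map_mul, map_mul, map_neg, hδσ, hfix]; ring) (hfix y) hxx
    (mul_ne_zero (mul_ne_zero (neg_ne_zero.2 hδ) hδ) hxx)
  have hv := hall ((s + t * δ) • x + y) (U.add_mem (U.smul_mem _ hxU) hyU)
  refine hv (fun e => hyy ?_) ?_
  · have := congrArg (Φ.b y) e
    simpa [Φ.add_right, Φ.smul_right, Φ.eq_zero_comm hxy, Φ.zero_right] using this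
  · simp only [Φ.add_left, Φ.add_right, Φ.smul_left, Φ.smul_right, map_add, map_mul, hs, ht, hδσ,
      hxy, Φ.eq_zero_comm hxy]
    linear_combination hst

/-- A Siegel element commuting with a semilinear similitude. -/
theorem comm_sie {τ : F ≃+* F} (T : Semi τ ι) {μ : F} (hμ : μ ≠ 0) (hμσ : Φ.σ μ = μ)
    (hτε : τ Φ.ε = Φ.ε) (hsim : ∀ x y, Φ.b (T.S x) (T.S y) = μ * τ (Φ.b x y))
    {v w : V} {c : F} (hc : c ≠ 0) (hv : T.S v = c • v) (hw : (Φ.σ c / μ) • T.S w = w) :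
    T.Comm (Φ.sie v w) := fun x => by
  have hσc : Φ.σ c ≠ 0 := (map_ne_zero Φ.σ).2 hc
  have h1 : Φ.b v (T.S x) = μ * τ (Φ.b v x) / Φ.σ c := by
    rw [eq_div_iff hσc, ← hsim, hv, Φ.smul_left, mul_comm]
  have h2 : Φ.b w (T.S x) = c * τ (Φ.b w x) := by
    conv_lhs => rw [← hw, Φ.smul_left, hsim, map_div₀, hμσ, invol_apply Φ.sq]
    field_simp
  have hσε : τ (Φ.σ Φ.ε) = Φ.σ Φ.ε := by
    rw [show Φ.σ Φ.ε = Φ.ε⁻¹ from (DivisionMonoid.inv_eq_of_mul _ _ Φ.unit).symm, map_inv₀, hτε]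
  rw [sie_mulVec, sie_mulVec, T.map_sub, T.map_smul, T.map_smul, hv, h1, h2]
  rw [map_mul, hσε, smul_smul]
  congr 1
  · conv_lhs => rw [← hw]
    rw [smul_smul]
    congr 1
    field_simp
  · congr 1
    ring

end Form

end Cfsg.Agent.InvRankP.Classical
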