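import Cfsg.Prelude.Def_EvenType
import Mathlib.GroupTheory.OrderOfElement

/-!
Involutory automorphisms of the simple groups of Lie type in odd characteristic: the statements to be
proved family by family for S2876, and their meaning in a group with that generalized Fitting subgroup.
-/

set_option autoImplicit false

namespace Cfsg.Agent.InvRankP

universe u v

/-- The fixed points of `φ` contain an elementary abelian group of order `p²`. -/
def TwoFix (p : ℕ) {K : Type u} [Group K] (φ : MulAut K) : Prop :=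
  ∃ a b : K, a ^ p = 1 ∧ b ^ p = 1 ∧ a * b = b * a ∧ φ a = a ∧ φ b = b ∧ a ≠ 1 ∧
    b ∉ Subgroup.zpowers a

/-- Every automorphism of order at most 2 (the identity included) fixes such a group. -/
def Rank2 (p : ℕ) (K : Type u) [Group K] : Prop :=
  ∀ φ : MulAut K, φ * φ = 1 → TwoFix p φ

theorem TwoFix.conj {p : ℕ} {K : Type u} [Group K] {φ : MulAut K} (h : TwoFix p φ) (ψ : MulAut K) :
    TwoFix p (ψ * φ * ψ⁻¹) := by
  obtain ⟨a, b, ha, hb, hab, hfa, hfb, ha1, hbz⟩ := h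
  refine ⟨ψ a, ψ b, by rw [← map_pow, ha, map_one], by rw [← map_pow, hb, map_one],
    by rw [← map_mul, ← map_mul, hab], by simp [MulAut.mul_apply, hfa], by simp [MulAut.mul_apply, hfb],
    fun e => ha1 (ψ.injective (e.trans (map_one ψ).symm)), fun hz => hbz ?_⟩
  obtain ⟨k, hk⟩ := Subgroup.mem_zpowers_iff.1 hz
  exact Subgroup.mem_zpowers_iff.2 ⟨k, ψ.injective (by rw [map_zpow]; exact hk)⟩

theorem Rank2.congr {p : ℕ} {K : Type u} [Group K] {L : Type v} [Group L] (e : K ≃* L)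
    (h : Rank2 p L) : Rank2 p K := by
  intro φ h2
  obtain ⟨a, b, ha, hb, hab, hfa, hfb, ha1, hbz⟩ := h ((MulAut.congr e) φ)
    (by rw [← map_mul, h2, map_one])
  refine ⟨e.symm a, e.symm b, by rw [← map_pow, ha, map_one], by rw [← map_pow, hb, map_one],
    by rw [← map_mul, ← map_mul, hab], ?_, ?_,
    fun e' => ha1 (e.symm.injective (e'.trans (map_one _).symm)), fun hz => hbz ?_⟩
  · exact e.injective (by rw [e.apply_symm_apply]; exact hfa)
  · exact e.injective (by rw [e.apply_symm_apply]; exact hfb)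
  · obtain ⟨k, hk⟩ := Subgroup.mem_zpowers_iff.1 hz
    exact Subgroup.mem_zpowers_iff.2 ⟨k, e.symm.injective (by rw [map_zpow]; exact hk)⟩

/-! ### The statements by family -/

/-- Seat A: linear groups. -/
def PSLStmt : Prop :=
  ∀ (F : Type) [Field F] [Fintype F] (p : ℕ) [Fact p.Prime] [CharP F p] (n : ℕ), p ≠ 2 → 3 ≤ n →
    ¬ (n = 3 ∧ Fintype.card F = p) → Rank2 p (Matrix.ProjectiveSpecialLinearGroup (Fin n) F)

/-- Seat A: symplectic groups. -/
def PSpStmt : Prop :=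
  ∀ (F : Type) [Field F] [Fintype F] (p : ℕ) [Fact p.Prime] [CharP F p] (m : ℕ), p ≠ 2 → 2 ≤ m →
    ¬ (m = 2 ∧ Fintype.card F = p) → Rank2 p (PSp m F)

/-- Seat A: unitary groups. -/
def PSUStmt : Prop :=
  ∀ (F : Type) [Field F] [Fintype F] (p : ℕ) [Fact p.Prime] [CharP F p] (n q : ℕ), p ≠ 2 →
    Fintype.card F = q ^ 2 → 3 ≤ n → ¬ (n = 3 ∧ q = p) → Rank2 p (PSU n F q)

/-- Seat B: odd-dimensional orthogonal groups. -/
def POmegaOddStmt : Prop :=
  ∀ (F : Type) [Field F] [Fintype F] (p : ℕ) [Fact p.Prime] [CharP F p] (m : ℕ), p ≠ 2 → 3 ≤ m →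
    Rank2 p (POmega F (quadFormOdd m F))

/-- Seat B: orthogonal groups of plus type. -/
def POmegaPlusStmt : Prop :=
  ∀ (F : Type) [Field F] [Fintype F] (p : ℕ) [Fact p.Prime] [CharP F p] (m : ℕ), p ≠ 2 → 4 ≤ m →
    Rank2 p (POmega F (quadFormPlus m F))

/-- Seat B: orthogonal groups of minus type. -/
def POmegaMinusStmt : Prop :=
  ∀ (F : Type) [Field F] [Fintype F] (p : ℕ) [Fact p.Prime] [CharP F p] (m : ℕ) (a b : F), p ≠ 2 →
    4 ≤ m → (∀ z₁ z₂ : F, z₁ ^ 2 + a * z₁ * z₂ + b * z₂ ^ 2 = 0 → z₁ = 0 ∧ z₂ = 0) →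
    Rank2 p (POmega F (quadFormMinus (m - 1) F a b))

/-- Seat C: untwisted exceptional groups. -/
def ExceptionalStmt : Prop :=
  ∀ (F : Type) [Field F] [Fintype F] (p : ℕ) [Fact p.Prime] [CharP F p], p ≠ 2 →
    Rank2 p ↥(Lie.chevG2.group F) ∧ Rank2 p ↥(Lie.chevF4.group F) ∧ Rank2 p ↥(Lie.chevE6.group F) ∧
      Rank2 p ↥(Lie.chevE7.group F) ∧ Rank2 p ↥(Lie.chevE8.group F)

/-- Seat D: twisted groups. -/
def TwistedStmt : Prop :=
  ∀ (F : Type) [Field F] [Fintype F] (p : ℕ) [Fact p.Prime] [CharP F p] (q : ℕ), p ≠ 2 → IsPrimePow q →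
    (Fintype.card F = q ^ 2 → Rank2 p ↥(Lie.twistedE6 F q)) ∧
      (Fintype.card F = q ^ 3 → Rank2 p ↥(Lie.twistedD4 F q))

/-- Seat D: the Ree groups. -/
def ReeStmt : Prop :=
  ∀ (G : Type u) [Group G] [Finite G], Lie.IsoRee G → Rank2 3 G

end Cfsg.Agent.InvRankP
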