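import Cfsg.Agent.Lib.InvRankP.Defs
import Cfsg.Agent.Lib.Lie.ChevUnip
import Cfsg.Agent.Lib.Lie.GoodA
import Cfsg.Agent.Lib.ChevAut.AutLinear

/-!
# Two commuting fixed elements of order `p` in the positive root groups
-/

set_option autoImplicit false
set_option linter.style.haveILetI false

namespace Cfsg.Agent.InvRankP.Exc

open Cfsg.Lie Cfsg.Agent.Chev Cfsg.Agent.Chev.Tab Cfsg.Agent.ChevAut

/-! ### An automorphism swapping two elements whose commutator is central -/

theorem pow_mul_right {G : Type*} [Group G] {a b c : G} (hc : b * a = a * b * c) (ha : Commute c a)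
    (hb : Commute c b) : ∀ n : ℕ, b ^ n * a = a * b ^ n * c ^ n
  | 0 => by simp
  | n + 1 => by
    rw [pow_succ b, mul_assoc, hc, pow_succ c]
    calc b ^ n * (a * b * c) = b ^ n * a * (b * c) := by group
      _ = a * b ^ n * c ^ n * (b * c) := by rw [pow_mul_right hc ha hb n]
      _ = a * b ^ n * (c ^ n * b) * c := by group
      _ = _ := by rw [(hb.pow_left n).eq]; group

theorem mul_pow_central {G : Type*} [Group G] {a b c : G} (hc : b * a = a * b * c) (ha : Commute c a)
    (hb : Commute c b) : ∀ n : ℕ, (a * b) ^ n = a ^ n * b ^ n * c ^ n.choose 2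
  | 0 => by simp
  | n + 1 => by
    rw [pow_succ (a * b), mul_pow_central hc ha hb n,
      show (n + 1).choose 2 = n + n.choose 2 by
        rw [Nat.choose_succ_succ' n 1, Nat.choose_one_right],
      pow_add c]
    calc a ^ n * b ^ n * c ^ n.choose 2 * (a * b)
        = a ^ n * b ^ n * ((c ^ n.choose 2) * (a * b)) := by group
      _ = a ^ n * (b ^ n * a) * b * c ^ n.choose 2 := by
        rw [((ha.mul_right hb).pow_left _).eq]; group
      _ = a ^ n * a * b ^ n * (c ^ n * b) * c ^ n.choose 2 := by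
        rw [pow_mul_right hc ha hb n]; group
      _ = _ := by rw [(hb.pow_left n).eq, pow_succ, pow_succ]; group

theorem fixed_of_swap {G : Type*} [Group G] {p : ℕ} (hp : p.Prime) (hp2 : p ≠ 2) {ν : MulAut G}
    {a b c : G} (hc : b * a = a * b * c) (ha : Commute c a) (hb : Commute c b) (hap : a ^ p = 1)
    (hbp : b ^ p = 1) (hνa : ν a = b) (hνb : ν b = a) :
    ν (a * b * c ^ ((p + 1) / 2)) = a * b * c ^ ((p + 1) / 2) ∧
      (a * b * c ^ ((p + 1) / 2)) ^ p = 1 := by
  have hcp : c ^ p = 1 := by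
    have := pow_mul_right hc ha hb p
    rw [hbp, one_mul, mul_one] at this
    exact left_eq_mul.1 this
  have hνc : ν c = c⁻¹ := by
    have e := congrArg ν hc
    rw [map_mul, map_mul, map_mul, hνa, hνb, hc] at e
    refine eq_inv_of_mul_eq_one_right ?_
    have e' : a * b * 1 = a * b * (c * ν c) := by rw [mul_one, ← mul_assoc]; exact e
    exact (mul_left_cancel e').symm
  obtain ⟨k, hk⟩ := hp.odd_of_ne_two hp2
  have hh : (p + 1) / 2 = k + 1 := by omega
  constructor
  · rw [map_mul, map_mul, map_pow, hνa, hνb, hνc, hc, hh, inv_pow, mul_assoc (a * b)]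
    congr 1
    rw [eq_comm, ← mul_inv_eq_one, mul_inv_rev, inv_inv, ← mul_assoc, ← pow_add,
      show k + 1 + (k + 1) = p + 1 by omega, pow_succ, hcp, one_mul, mul_inv_cancel]
  · have hcab : Commute (a * b) (c ^ ((p + 1) / 2)) := ((ha.mul_right hb).pow_left _).symm
    rw [hcab.mul_pow, mul_pow_central hc ha hb, hap, hbp, one_mul, one_mul, ← pow_mul,
      mul_comm ((p + 1) / 2), pow_mul, hcp, one_pow, mul_one]
    obtain ⟨j, hj⟩ := hp.dvd_choose_self (k := 2) (by norm_num) (by have := hp.two_le; omega)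
    rw [hj, pow_mul, hcp, one_pow]

variable {T : Tab} {K : List (List ℕ)} {F : Type*} [Field F]

/-- the commutator of the two root groups is trivial modulo `e` -/
def commP (T : Tab) (e r s : ℕ) : Bool :=
  !Nat.beq s r && !Nat.beq s (T.neg r) && (T.cTerms r s).all fun c => c.2.1 % (e : ℤ) == 0

theorem commute_of_commP (g : T.GoodA) {e : ℕ} (he : (e : F) = 0) {r s : ℕ} (hr : r < T.n)
    (hs : s < T.n) (h : commP T e r s = true) (t u : F) :
    Commute (xg g.toGood r t) (xg g.toGood s u) := by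
  simp only [commP, Bool.and_eq_true, Bool.not_eq_true', ← Bool.not_eq_true, nat_beq,
    List.all_eq_true, beq_iff_eq] at h
  obtain ⟨⟨h1, h2⟩, h3⟩ := h
  have := xg_comm g hr hs h1 h2 t u
  rw [List.prod_eq_one, mul_one] at this
  · exact this.symm
  · intro x hx
    simp only [cVal, List.map_map, List.mem_map, Function.comp_apply] at hx
    obtain ⟨c, hc, rfl⟩ := hx
    have h0 : (c.2.1 : F) = 0 := by
      obtain ⟨d, hd⟩ := Int.dvd_of_emod_eq_zero (h3 c hc)
      rw [hd, Int.cast_mul, Int.cast_natCast, he, zero_mul]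
    rw [h0, zero_mul, zero_mul, xg_zero]

/-- the two root groups generate a group of class at most two, modulo `e` -/
def pairOK (T : Tab) (e r s : ℕ) : Bool :=
  Nat.ble T.N r && Nat.blt r s && Nat.blt s T.n &&
    (T.cTerms r s).all fun c => commP T e r c.1 && commP T e s c.1

theorem xe_pow {p : ℕ} [CharP F p] (g : T.Good) (r : ℕ) (t : F) : xe g r t ^ p = 1 := by
  have h : ∀ n : ℕ, xe g r t ^ n = xe g r ((n : F) * t) := by
    intro n
    induction n with
    | zero =>
      rw [pow_zero, Nat.cast_zero, zero_mul]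
      exact (Subtype.ext (xg_zero g r)).symm
    | succ n ih => rw [pow_succ, ih, xe_add, Nat.cast_succ, add_mul, one_mul]
  rw [h, CharP.cast_eq_zero, zero_mul]
  exact Subtype.ext (xg_zero g r)

/-- a fixed element of order `p` supported on root groups `r ≤ ·` with nonzero coefficient at `r` -/
structure Atom (g : T.Good) (p : ℕ) (ν : MulAut ↥(T.D.group F)) (r s : ℕ) (w : ↥(T.D.group F)) :
    Prop where
  fix : ν w = w
  pow : w ^ p = 1
  lead : ∃ t : F, t ≠ 0 ∧ ∃ y ∈ genS g F (Set.Ico (r + 1) T.n), (w : GL T.D.Idx F) = xg g r t * y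
  comm : ∀ y : GL T.D.Idx F, (∀ t, Commute (xg g r t) y) → (∀ t, Commute (xg g s t) y) →
    Commute (w : GL T.D.Idx F) y

theorem Atom.pair (g : T.GoodA) {p : ℕ} [Fact p.Prime] [CharP F p] (hp : p ≠ 2) {e : ℕ}
    (he : (e : F) = 0) {ν : MulAut ↥(T.D.group F)} (hν : ν * ν = 1) {r s : ℕ}
    (hok : pairOK T e r s = true) {u : F} (hu : ν (xe g.toGood r 1) = xe g.toGood s u) :
    ∃ w, Atom g.toGood p ν r s w := by
  have hg := g.toGood
  simp only [pairOK, Bool.and_eq_true, nat_ble, nat_blt, List.all_eq_true] at hok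
  obtain ⟨⟨⟨hN, hrs⟩, hs⟩, hall⟩ := hok
  have hr : r < T.n := by omega
  have hne1 : s ≠ r := by omega
  have hne2 : s ≠ T.neg r := by
    have := (neg_lt_N_iff hr).2 hN
    omega
  have hu' : ν (xe hg s u) = xe hg r 1 := by
    rw [← hu, ← MulAut.mul_apply, hν, MulAut.one_apply]
  set P := ((cVal T F r s 1 u).map fun e => xg hg e.1 e.2).prod with hP
  have hc : xg hg s u * xg hg r 1 = xg hg r 1 * xg hg s u * P := xg_comm g hr hs hne1 hne2 1 u
  have hPc : ∀ y, (∀ c ∈ T.cTerms r s, ∀ v : F, Commute (xg hg c.1 v) y) → Commute P y := by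
    intro y hy
    refine Commute.list_prod_left _ _ fun x hx => ?_
    simp only [cVal, List.map_map, List.mem_map, Function.comp_apply] at hx
    obtain ⟨c, hc', rfl⟩ := hx
    exact hy c hc' _
  have hca : Commute P (xg hg r 1) := hPc _ fun c hc' v =>
    (commute_of_commP g he hr (cTerms_mem hg hr hs hc').1 (hall c hc').1 1 v).symm
  have hcb : Commute P (xg hg s u) := hPc _ fun c hc' v =>
    (commute_of_commP g he hs (cTerms_mem hg hr hs hc').1 (hall c hc').2 u v).symm
  have hPG : P ∈ T.D.group F := by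
    refine Subgroup.list_prod_mem _ fun x hx => ?_
    obtain ⟨e, -, rfl⟩ := List.mem_map.1 hx
    exact xg_mem_group hg _ _
  let c : ↥(T.D.group F) := ⟨P, hPG⟩
  obtain ⟨h1, h2⟩ := fixed_of_swap (Fact.out : p.Prime) hp (ν := ν) (a := xe hg r 1) (b := xe hg s u)
    (c := c) (Subtype.ext hc) (Subtype.ext hca.eq) (Subtype.ext hcb.eq) (xe_pow hg r 1) (xe_pow hg s u)
    hu hu'
  refine ⟨_, h1, h2, ⟨1, one_ne_zero, xg hg s u * P ^ ((p + 1) / 2), ?_, ?_⟩, fun y hy1 hy2 => ?_⟩
  · have hsm : xg hg s u ∈ genS hg F (Set.Ico (r + 1) T.n) :=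
      xg_mem_genS hg (S := Set.Ico (r + 1) T.n) ⟨hrs, hs⟩ u
    refine mul_mem hsm (pow_mem ?_ _)
    refine Subgroup.list_prod_mem _ fun x hx => ?_
    simp only [cVal, List.map_map, List.mem_map, Function.comp_apply] at hx
    obtain ⟨c', hc', rfl⟩ := hx
    obtain ⟨q1, -, -, -, q5⟩ := cTerms_mem hg hr hs hc'
    exact xg_mem_genS hg (S := Set.Ico (r + 1) T.n) ⟨(q5 hN (by omega)).1, q1⟩ _
  · simp only [Subgroup.coe_mul, Subgroup.coe_pow, coe_xe, c, mul_assoc]
  · have hPy : Commute P y := by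
      have e : P = (xg hg r 1 * xg hg s u)⁻¹ * (xg hg s u * xg hg r 1) := by rw [hc]; group
      rw [e]
      exact ((hy1 1).mul_left (hy2 u)).inv_left.mul_left ((hy2 u).mul_left (hy1 1))
    simp only [Subgroup.coe_mul, Subgroup.coe_pow, coe_xe, c]
    exact ((hy1 1).mul_left (hy2 u)).mul_left (hPy.pow_left _)

/-- a fixed element in one root group -/
theorem Atom.single (g : T.Good) {p : ℕ} [CharP F p] {ν : MulAut ↥(T.D.group F)} {r : ℕ} {t : F}
    (ht : t ≠ 0) (hfix : ν (xe g r t) = xe g r t) : Atom g p ν r r (xe g r t) :=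
  ⟨hfix, xe_pow g r t, ⟨t, ht, 1, one_mem _, by rw [mul_one, coe_xe]⟩, fun _ h1 _ => h1 t⟩

theorem Atom.twoFix (g : T.GoodA) {p : ℕ} {e : ℕ} (he : (e : F) = 0)
    {ν : MulAut ↥(T.D.group F)} {r s r' s' : ℕ} {w w' : ↥(T.D.group F)}
    (h : Atom g.toGood p ν r s w) (h' : Atom g.toGood p ν r' s' w') (hN : T.N ≤ r) (hlt : r < r')
    (hs : s < T.n) (hr' : r' < T.n) (hs' : s' < T.n)
    (h11 : commP T e r r' = true) (h12 : commP T e r s' = true) (h21 : commP T e s r' = true)
    (h22 : commP T e s s' = true) : TwoFix p ν := by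
  have hg := g.toGood
  have hr : r < T.n := by omega
  refine ⟨w', w, h'.pow, h.pow, ?_, h'.fix, h.fix, ?_, ?_⟩
  · refine Subtype.ext ?_
    simp only [Subgroup.coe_mul]
    refine (Commute.eq ?_).symm
    refine h.comm _ (fun t => ?_) fun t => ?_
    · exact (h'.comm _ (fun u => (commute_of_commP g he hr hr' h11 t u).symm)
        fun u => (commute_of_commP g he hr hs' h12 t u).symm).symm
    · exact (h'.comm _ (fun u => (commute_of_commP g he hs hr' h21 t u).symm)
        fun u => (commute_of_commP g he hs hs' h22 t u).symm).symm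
  · intro e1
    obtain ⟨t, ht, y, hy, hw⟩ := h'.lead
    refine ht (lowest_coeff hg (by omega) hr' ?_)
    rw [e1, Subgroup.coe_one] at hw
    rw [eq_inv_of_mul_eq_one_left hw.symm]
    exact inv_mem hy
  · intro hz
    obtain ⟨t, ht, y, hy, hw⟩ := h.lead
    obtain ⟨t', -, y', hy', hw'⟩ := h'.lead
    have hw'm : (w' : GL T.D.Idx F) ∈ genS hg F (Set.Ico (r + 1) T.n) := by
      rw [hw']
      exact mul_mem (xg_mem_genS hg (S := Set.Ico (r + 1) T.n) ⟨hlt, hr'⟩ t')
        (genS_mono hg (Set.Ico_subset_Ico_left (by omega)) hy')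
    obtain ⟨k, rfl⟩ := Subgroup.mem_zpowers_iff.1 hz
    refine ht (lowest_coeff hg hN hr ?_)
    rw [show xg hg r t = ((w' ^ k : ↥(T.D.group F)) : GL T.D.Idx F) * y⁻¹ by rw [hw]; group]
    refine mul_mem ?_ (inv_mem hy)
    rw [Subgroup.coe_zpow]
    exact zpow_mem hw'm k

/-- an additive involution other than `-1` fixes a nonzero element -/
theorem exists_fixed {F : Type*} [Field F] (f : F → F) (hadd : ∀ t u, f (t + u) = f t + f u)
    (hinv : ∀ t, f (f t) = t) (hne : ∃ t, f t ≠ -t) : ∃ t, t ≠ 0 ∧ f t = t := by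
  obtain ⟨t, ht⟩ := hne
  exact ⟨t + f t, fun e => ht (eq_neg_of_add_eq_zero_right e), by rw [hadd, hinv, add_comm]⟩

end Cfsg.Agent.InvRankP.Exc
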