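import Cfsg.Agent.Lib.InvRankP.ExcMono

/-!
# Monomial involutions of least length: the fundamental roots sent to their negatives
-/

set_option autoImplicit false
set_option linter.style.haveILetI false

namespace Cfsg.Agent.InvRankP.Exc

open Cfsg.Lie Cfsg.Agent.Chev Cfsg.Agent.Chev.Tab Cfsg.Agent.Chev.Tab.InvC Cfsg.Agent.ChevAut

variable {T : Tab} {K : List (List ℕ)} {Ls : List Bool} {F : Type*} [Field F]

/-- the norm of a field with an involution is onto the fixed elements -/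
theorem exists_norm_fixed [Finite F] (p : ℕ) [Fact p.Prime] [CharP F p] (hp : p ≠ 2) (σ : F ≃+* F)
    (h2 : ∀ t, σ (σ t) = t) (hne : σ ≠ RingEquiv.refl F) {k : F} (hk : σ k = k) :
    ∃ t, t * σ t = k := by
  classical
  obtain ⟨w, hw⟩ : ∃ w, σ w ≠ w := by
    by_contra hc
    push Not at hc
    exact hne (RingEquiv.ext hc)
  set ε := w - σ w with hε
  have hσε : σ ε = -ε := by rw [hε, map_sub, h2]; ring
  have hε0 : ε ≠ 0 := sub_ne_zero.2 (Ne.symm hw)
  let Fix : Subfield F := RingHom.eqLocusField (σ : F →+* F) (RingHom.id F)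
  haveI : Fintype Fix := Fintype.ofFinite _
  have mem : ∀ x : F, x ∈ Fix ↔ σ x = x := fun x => Iff.rfl
  let k' : Fix := ⟨k, (mem k).2 hk⟩
  let d : Fix := ⟨ε * ε, (mem _).2 (by rw [map_mul, hσε]; ring)⟩
  have hd : d ≠ 0 := fun e => mul_ne_zero hε0 hε0 (congrArg Subtype.val e)
  haveI : CharP Fix p := (Fix.subtype.charP_iff Subtype.val_injective p).2 inferInstance
  have hodd : Fintype.card Fix % 2 = 1 :=
    FiniteField.odd_card_of_char_ne_two (by rw [ringChar.eq Fix p]; exact hp)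
  obtain ⟨a, b, hab⟩ := FiniteField.exists_root_sum_quadratic (R := Fix)
    (f := Polynomial.X ^ 2 - Polynomial.C k') (g := Polynomial.C (-d) * Polynomial.X ^ 2)
    (Polynomial.degree_X_pow_sub_C (by norm_num) _)
    (Polynomial.degree_C_mul_X_pow 2 (neg_ne_zero.2 hd)) hodd
  simp only [Polynomial.eval_sub, Polynomial.eval_pow, Polynomial.eval_X, Polynomial.eval_C,
    Polynomial.eval_mul] at hab
  have e := congrArg Subtype.val hab
  simp only [Subfield.coe_add, Subfield.coe_sub, Subfield.coe_mul, Subfield.coe_neg, SubmonoidClass.coe_pow,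
    Subfield.coe_zero, d, k'] at e
  refine ⟨(a : F) + b * ε, ?_⟩
  rw [map_add, map_mul, (mem _).1 a.2, (mem _).1 b.2, hσε]
  linear_combination e

/-- the quadric used to kill two adjacent roots -/
theorem exists_conic [Finite F] (p : ℕ) [Fact p.Prime] [CharP F p] (hp : p ≠ 2) {ki kj : F}
    (hi : ki ≠ 0) (hj : kj ≠ 0) : ∃ b e : F, 1 - b ^ 2 / kj = ki * e ^ 2 := by
  haveI : Fintype F := Fintype.ofFinite F
  obtain ⟨b, e, h⟩ := FiniteField.exists_root_sum_quadratic (R := F)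
    (f := Polynomial.C (-kj⁻¹) * Polynomial.X ^ 2 + Polynomial.C 1)
    (g := Polynomial.C (-ki) * Polynomial.X ^ 2)
    (by
      rw [Polynomial.degree_add_eq_left_of_degree_lt (by
        rw [Polynomial.degree_C_mul_X_pow 2 (neg_ne_zero.2 (inv_ne_zero hj)),
          Polynomial.degree_C one_ne_zero]
        decide)]
      exact Polynomial.degree_C_mul_X_pow 2 (neg_ne_zero.2 (inv_ne_zero hj)))
    (Polynomial.degree_C_mul_X_pow 2 (neg_ne_zero.2 hi))
    (FiniteField.odd_card_of_char_ne_two (by rw [ringChar.eq F p]; exact hp))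
  simp only [Polynomial.eval_add, Polynomial.eval_pow, Polynomial.eval_X, Polynomial.eval_C,
    Polynomial.eval_mul] at h
  exact ⟨b, e, by rw [div_eq_mul_inv]; linear_combination h⟩

/-- exchange of a negative and a positive element of the same fundamental root -/
theorem neg_mul_pos (g : T.Good) {j : ℕ} (hj : j < T.l) {b s : F} (hb : b ≠ 0) {D : Fˣ}
    (hD : (D : F) = 1 + b * s) :
    xg g (T.neg (T.smp j)) b * xg g (T.smp j) s =
      xg g (T.smp j) (s / D) * hS T F j D⁻¹ * xg g (T.neg (T.smp j)) (b / D) := by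
  obtain ⟨v, hv, e⟩ := y_decomp g hj hb
  obtain ⟨v', hv', e'⟩ := y_decomp g hj (div_ne_zero hb D.ne_zero)
  rw [e, e']
  have hh : ∀ x : F, hS T F j D⁻¹ * xg g (T.smp j) x =
      xg g (T.smp j) (x / (D : F) ^ 2) * hS T F j D⁻¹ := by
    intro x
    rw [← mul_inv_eq_iff_eq_mul, hS, tor_xg g _ (g.smp_lt hj), wt_single g hj, A_smp_self g hj]
    congr 1
    rw [show ((2 : ℤ)) = ((2 : ℕ) : ℤ) from rfl, zpow_natCast, Units.val_pow_eq_pow_val,
      Units.val_inv_eq_inv_val, inv_pow]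
    ring
  have hhh : hS T F j D⁻¹ * hS T F j v' = hS T F j v := by
    rw [← hS_mul]
    congr 1
    refine Units.ext ?_
    rw [Units.val_mul, Units.val_inv_eq_inv_val, hv, hv', inv_div]
    field_simp
  rw [show ∀ a h x m y : GL T.D.Idx F, a * h * (x * m * y) = a * (h * x) * m * y from
    fun a h x m y => by group, hh]
  simp only [← mul_assoc]
  rw [xg_add, mul_assoc _ (hS T F j D⁻¹) (hS T F j v'), hhh, mul_assoc (_ * nG g F j), xg_add]
  congr 2
  · rw [inv_div]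
    congr 2
    field_simp
    rw [hD]; ring
  · rw [inv_div]
    field_simp
    rw [hD]

namespace Min

variable {g : T.GoodK K} {m : ↥(T.D.group F)} {α : MulAut ↥(T.D.group F)}
  {π : Equiv.Perm (Fin T.l)} {μ : Fin T.l → Fˣ} {σ : F ≃+* F} {θ : ℕ → ℕ} {L : List ℕ}
  {c : ℕ → Fˣ}

variable [Finite F]

set_option linter.unusedSectionVars false

omit [Finite F] in
theorem nu_apply (y : ↥(T.D.group F)) :
    ((MulAut.conj m * α) y : ↥(T.D.group F)) = m * α y * m⁻¹ := rfl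

/-- the monomial conjugate maps root groups by `P` -/
theorem nu_maps (M : Min g Ls m α π μ σ θ L) (hm : (m : GL T.D.Idx F) = tor T F c * nWd g.toGood F L)
    {r : ℕ} (hr : r < T.n) (t : F) :
    ∃ u, (MulAut.conj m * α) (xe g.toGood r t) = xe g.toGood (P (T := T) L θ r) u := by
  obtain ⟨u, hu⟩ := M.rmap.maps r hr t
  obtain ⟨v, hv⟩ := mono_conj (F := F) g.toGood M.wd c (M.rmap.lt r hr)
  refine ⟨(v : F) * u, Subtype.ext ?_⟩
  rw [nu_apply, hu]
  simp only [Subgroup.coe_mul, Subgroup.coe_inv, coe_xe, hm]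
  exact hv u

/-- semilinearity of the monomial conjugate -/
theorem nu_lin (M : Min g Ls m α π μ σ θ L) (hm : (m : GL T.D.Idx F) = tor T F c * nWd g.toGood F L)
    {r : ℕ} (hr : r < T.n)
    (hl : ∃ k : Fˣ, ∀ t, α (xe g.toGood r t) = xe g.toGood (θ r) ((k : F) * σ t)) :
    ∃ k : Fˣ, ∀ t, (MulAut.conj m * α) (xe g.toGood r t) =
      xe g.toGood (P (T := T) L θ r) ((k : F) * σ t) := by
  obtain ⟨k, hk⟩ := hl
  obtain ⟨v, hv⟩ := mono_conj (F := F) g.toGood M.wd c (M.rmap.lt r hr)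
  refine ⟨v * k, fun t => Subtype.ext ?_⟩
  rw [nu_apply, hk]
  simp only [Subgroup.coe_mul, Subgroup.coe_inv, coe_xe, hm, Units.val_mul, mul_assoc (v : F)]
  exact hv _

/-- the two root groups of a fundamental root -/
theorem nu_simple (M : Min g Ls m α π μ σ θ L) (hm : (m : GL T.D.Idx F) = tor T F c * nWd g.toGood F L)
    (hex : ∀ i, exC F Ls π i = 1) {i : ℕ} (hi : i < T.l) :
    ∃ k : Fˣ, ∀ t, (MulAut.conj m * α) (xe g.toGood (T.smp i) t) =
        xe g.toGood (P (T := T) L θ (T.smp i)) ((k : F) * σ t) ∧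
      (MulAut.conj m * α) (xe g.toGood (T.neg (T.smp i)) t) =
        xe g.toGood (T.neg (P (T := T) L θ (T.smp i))) ((k⁻¹ : Fˣ) * σ t) := by
  have hg := g.toGood
  have hs := hg.smp_lt (π ⟨i, hi⟩).2
  obtain ⟨ε, hε, he⟩ := nWd_conj (F := F) hg M.wd hs
  have hp := rw'_lt hg M.wd hs
  refine ⟨wt T F c (T.rw' L (T.smp (π ⟨i, hi⟩))) * ε * μ (π ⟨i, hi⟩), fun t => ?_⟩
  have e : P (T := T) L θ (T.smp i) = T.rw' L (T.smp (π ⟨i, hi⟩)) := by
    rw [P, M.rmap.smp i hi, pn_apply π hi]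
  obtain ⟨h1, h2⟩ := M.std ⟨i, hi⟩ t
  rw [hex, pow_one] at h1 h2
  rw [e]
  constructor <;> refine Subtype.ext ?_ <;> rw [nu_apply]
  · rw [h1]
    simp only [Subgroup.coe_mul, Subgroup.coe_inv, coe_xe, hm]
    rw [show ∀ a b x : GL T.D.Idx F, a * b * x * (a * b)⁻¹ = a * (b * x * b⁻¹) * a⁻¹ from
      fun a b x => by group, (he _).1, tor_xg hg c hp]
    simp only [Units.val_mul]
    congr 1; ring
  · rw [h2]
    simp only [Subgroup.coe_mul, Subgroup.coe_inv, coe_xe, hm]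
    rw [show ∀ a b x : GL T.D.Idx F, a * b * x * (a * b)⁻¹ = a * (b * x * b⁻¹) * a⁻¹ from
      fun a b x => by group, (he _).2, tor_xg hg c (neg_lt hp), wt_neg hg hp]
    have hεi : ε⁻¹ = ε := inv_eq_of_mul_eq_one_left hε
    simp only [mul_inv_rev, Units.val_mul, hεi]
    congr 1; ring

/-- no element of the group moves the representative into the cell of `i :: L` -/
theorem not_cell_cons (M : Min g Ls m α π μ σ θ L) {i : ℕ} (hi : i < T.l)
    (hlt : P (T := T) L θ (T.smp i) < T.N) {y : ↥(T.D.group F)}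
    (hc : InCell g.toGood F
      ((y * ((MulAut.conj m * α) y)⁻¹ * m : ↥(T.D.group F)) : GL T.D.Idx F) (i :: L)) : False := by
  have h := M.min y (i :: L) (Wd.cons_iff.2 ⟨hi, M.wd⟩) (by
    rwa [show y * ((MulAut.conj m * α) y)⁻¹ * m = y * m * (α y)⁻¹ by rw [nu_apply]; group] at hc)
  have := M.card_cons_lt hi hlt
  omega

/-- the coefficient at a root sent to its negative: a norm equation has no solution -/
theorem no_norm (M : Min g Ls m α π μ σ θ L) (hm : (m : GL T.D.Idx F) = tor T F c * nWd g.toGood F L)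
    {i : ℕ} (hi : i ∈ J T L θ) {k : Fˣ}
    (hk : ∀ t, (MulAut.conj m * α) (xe g.toGood (T.neg (T.smp i)) t) =
        xe g.toGood (T.smp i) ((k⁻¹ : Fˣ) * σ t))
    {t : F} (ht : t * σ t = k) : False := by
  have hg := g.toGood
  have ht0 : t ≠ 0 := by rintro rfl; exact k.ne_zero (by rw [← ht, zero_mul])
  have hsig : ((k⁻¹ : Fˣ) : F) * σ t = t⁻¹ := by
    rw [Units.val_inv_eq_inv_val, ← ht, mul_inv_rev]
    field_simp [ht0]
  obtain ⟨v, hv, e⟩ := y_decomp hg hi.1 ht0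
  obtain ⟨c', hc'⟩ := wSub_conj_torus hg (nG_mem_wSub (F := F) hg hi.1) c
  refine M.not_cell_cons hi.1 (by rw [hi.2]; exact (neg_lt_N_iff (hg.smp_lt hi.1)).2 (hg.smp_ge hi.1))
    (y := xe hg (T.neg (T.smp i)) t) ?_
  simp only [hk, hsig, Subgroup.coe_mul, Subgroup.coe_inv, coe_xe, hm]
  refine ⟨xg hg (T.smp i) t⁻¹ * hS T F i v * tor T F c',
    mul_mem (mul_mem (pos_le_borel hg (hg.smp_ge hi.1) (hg.smp_lt hi.1) _)
      (by rw [hS_eq_tor]; exact torus_le_borel hg _)) (torus_le_borel hg _), 1, one_mem _, ?_⟩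
  rw [e, nWd_cons, ← hc', mul_one, xg_inv]
  rw [show xg hg (T.smp i) (-t⁻¹) = (xg hg (T.smp i) t⁻¹)⁻¹ from (xg_inv hg _ _).symm]
  group

/-- the coefficients at the roots sent to their negatives are nonsquares and there is no field part -/
theorem coeff_J (M : Min g Ls m α π μ σ θ L) (hm : (m : GL T.D.Idx F) = tor T F c * nWd g.toGood F L)
    (hex : ∀ i, exC F Ls π i = 1) (p : ℕ) [Fact p.Prime] [CharP F p] (hp : p ≠ 2)
    {i : ℕ} (hi : i ∈ J T L θ) :
    σ = RingEquiv.refl F ∧ ∃ k : Fˣ, (∀ s : F, s * s ≠ k) ∧ ∀ t,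
      (MulAut.conj m * α) (xe g.toGood (T.smp i) t) = xe g.toGood (T.neg (T.smp i)) ((k : F) * t) ∧
      (MulAut.conj m * α) (xe g.toGood (T.neg (T.smp i)) t) =
        xe g.toGood (T.smp i) ((k⁻¹ : Fˣ) * t) := by
  have hg := g.toGood
  obtain ⟨k, hk⟩ := M.nu_simple hm hex hi.1
  rw [hi.2, Tab.neg_neg (hg.smp_lt hi.1)] at hk
  have h2 : ∀ t, ((k⁻¹ : Fˣ) : F) * σ ((k : F) * σ t) = t := by
    intro t
    have e := MulEquiv.congr_fun M.sq (xe hg (T.smp i) t)
    rw [MulAut.mul_apply, (hk t).1, (hk _).2, MulAut.one_apply] at e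
    exact xe_inj hg (hg.smp_lt hi.1) e
  have hfix : σ (k : F) = k := by
    have := h2 1
    rwa [map_one, mul_one, Units.val_inv_eq_inv_val, inv_mul_eq_one₀ k.ne_zero, eq_comm] at this
  have hinv : ∀ t, σ (σ t) = t := fun t => by
    have := h2 t
    rwa [map_mul, hfix, Units.inv_mul_cancel_left] at this
  have hσ : σ = RingEquiv.refl F := by
    by_contra hne
    obtain ⟨t, ht⟩ := exists_norm_fixed p hp σ hinv hne hfix
    exact M.no_norm hm hi (fun t => (hk t).2) ht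
  subst hσ
  refine ⟨rfl, k, fun s hs => M.no_norm hm hi (fun t => (hk t).2) (t := s) hs, fun t => ?_⟩
  simpa using hk t

/-- two adjacent fundamental roots are not both sent to their negatives -/
theorem no_adjacent (M : Min g Ls m α π μ σ θ L)
    (hm : (m : GL T.D.Idx F) = tor T F c * nWd g.toGood F L)
    (hex : ∀ i, exC F Ls π i = 1) (p : ℕ) [Fact p.Prime] [CharP F p] (hp : p ≠ 2)
    {i j : ℕ} (hi : i ∈ J T L θ) (hj : j ∈ J T L θ) (hij : i ≠ j) (hA : T.A j (T.smp i) = -1)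
    (h1 : T.cTerms (T.smp j) (T.neg (T.smp i)) = [])
    (h2 : T.cTerms (T.smp i) (T.neg (T.smp j)) = []) : False := by
  have hg := g.toGood
  obtain ⟨-, ki, hki, hni⟩ := M.coeff_J hm hex p hp hi
  obtain ⟨-, kj, hkj, hnj⟩ := M.coeff_J hm hex p hp hj
  obtain ⟨b, e, hbe⟩ := exists_conic p hp (ki := (ki : F)) (kj := (kj : F)) ki.ne_zero kj.ne_zero
  have hb : b ≠ 0 := by
    rintro rfl
    have he : e ≠ 0 := by rintro rfl; simp at hbe
    exact hki e⁻¹ (by field_simp; simp at hbe; linear_combination hbe)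
  have he : e ≠ 0 := by
    rintro rfl
    refine hkj b ?_
    rw [zero_pow (by norm_num), mul_zero, sub_eq_zero, eq_div_iff kj.ne_zero, one_mul] at hbe
    rw [hbe, pow_two]
  set D : Fˣ := Units.mk0 ((ki : F) * e ^ 2) (mul_ne_zero ki.ne_zero (pow_ne_zero 2 he)) with hD
  have hDv : (D : F) = 1 + b * -(b / kj) := by
    rw [hD, Units.val_mk0, ← hbe]; ring
  set a : F := e⁻¹ with ha
  have hda : (D : F) * a ≠ 0 := mul_ne_zero D.ne_zero (inv_ne_zero he)
  have hr : ((D : F) * a)⁻¹ = a / ki := by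
    rw [hD, Units.val_mk0, ha]; field_simp
  obtain ⟨v, hv, ed⟩ := y_decomp hg hi.1 hda
  have hNi := (neg_lt_N_iff (hg.smp_lt hi.1)).2 (hg.smp_ge hi.1)
  have hlt : P (T := T) L θ (T.smp i) < T.N := by rw [hi.2]; exact hNi
  -- commutations
  have hne : ∀ {u w : ℕ}, u < T.l → w < T.l → u ≠ w →
      T.neg (T.smp u) ≠ T.smp w ∧ T.neg (T.smp u) ≠ T.neg (T.smp w) := by
    intro u w hu hw huw
    refine ⟨fun e => ?_, fun e => huw (hg.smp_inj hu hw ?_)⟩
    · have := (neg_lt_N_iff (hg.smp_lt hu)).2 (hg.smp_ge hu)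
      have := hg.smp_ge hw
      omega
    · rw [← Tab.neg_neg (hg.smp_lt hu), e, Tab.neg_neg (hg.smp_lt hw)]
  have c1 : ∀ x y : F, xg hg (T.neg (T.smp i)) x * xg hg (T.smp j) y =
      xg hg (T.smp j) y * xg hg (T.neg (T.smp i)) x := fun x y => by
    rw [xg_comm g.toGoodA (hg.smp_lt hj.1) (neg_lt (hg.smp_lt hi.1)) (hne hi.1 hj.1 hij).1
      (hne hi.1 hj.1 hij).2, cVal, h1, List.map_nil, List.map_nil, List.prod_nil, mul_one]
  have c2 : ∀ x y : F, xg hg (T.neg (T.smp j)) x * xg hg (T.smp i) y =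
      xg hg (T.smp i) y * xg hg (T.neg (T.smp j)) x := fun x y => by
    rw [xg_comm g.toGoodA (hg.smp_lt hi.1) (neg_lt (hg.smp_lt hj.1)) (hne hj.1 hi.1 hij.symm).1
      (hne hj.1 hi.1 hij.symm).2, cVal, h2, List.map_nil, List.map_nil, List.prod_nil, mul_one]
  -- the torus element moves past
  have cH : xg hg (T.neg (T.smp i)) a * hS T F j D⁻¹ =
      hS T F j D⁻¹ * xg hg (T.neg (T.smp i)) ((D : F) * a) := by
    rw [← eq_mul_inv_iff_mul_eq, hS, tor_xg hg _ (neg_lt (hg.smp_lt hi.1)), wt_single hg hj.1,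
      ((hg.sign' (hg.smp_lt hi.1)).1 j hj.1).2.2.2, hA, _root_.neg_neg, zpow_one, Units.val_inv_eq_inv_val,
      inv_mul_cancel_left₀ D.ne_zero]
  -- the last factor is positive after passing the monomial
  have hj' := M.rev_smp_neg hj.1 (by
    rw [hj.2]; exact (neg_lt_N_iff (hg.smp_lt hj.1)).2 (hg.smp_ge hj.1))
  have hr' := rw'_lt hg M.wd.reverse (hg.smp_lt hj.1)
  obtain ⟨w, hw⟩ := mono_conj (F := F) hg M.wd c (neg_lt hr')
  rw [rw'_neg hg M.wd hr', rw'_rev' hg M.wd (hg.smp_lt hj.1), ← hm] at hw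
  obtain ⟨c', hc'⟩ := wSub_conj_torus hg (nG_mem_wSub (F := F) hg hi.1) c
  refine M.not_cell_cons hi.1 hlt
    (y := xe hg (T.neg (T.smp i)) a * xe hg (T.neg (T.smp j)) b) ?_
  rw [map_mul, (hni a).2, (hnj b).2]
  simp only [mul_inv_rev, Subgroup.coe_mul, Subgroup.coe_inv, coe_xe]
  refine ⟨xg hg (T.smp j) (-(b / kj) / D) * hS T F j D⁻¹ * xg hg (T.smp i) ((D : F) * a)⁻¹ *
      hS T F i v * tor T F c', ?_,
    xg hg (T.neg (T.rw' L.reverse (T.smp j))) ((w : F)⁻¹ * (b / D)),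
    pos_le_borel hg ((N_le_neg_iff hr').2 hj') (neg_lt hr') _, ?_⟩
  · refine mul_mem (mul_mem (mul_mem (mul_mem (pos_le_borel hg (hg.smp_ge hj.1) (hg.smp_lt hj.1) _) ?_)
      (pos_le_borel hg (hg.smp_ge hi.1) (hg.smp_lt hi.1) _)) ?_) (torus_le_borel hg _) <;>
      rw [hS_eq_tor] <;> exact torus_le_borel hg _
  have hlast : xg hg (T.neg (T.smp j)) (b / D) * (m : GL T.D.Idx F) =
      (m : GL T.D.Idx F) * xg hg (T.neg (T.rw' L.reverse (T.smp j))) ((w : F)⁻¹ * (b / D)) := by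
    rw [← eq_mul_inv_iff_mul_eq, hw, ← mul_assoc, mul_inv_cancel₀ w.ne_zero, one_mul]
  have hmain : xg hg (T.neg (T.smp i)) a * xg hg (T.neg (T.smp j)) b *
      ((xg hg (T.smp j) (((kj⁻¹ : Fˣ) : F) * b))⁻¹ * (xg hg (T.smp i) (((ki⁻¹ : Fˣ) : F) * a))⁻¹) =
      xg hg (T.smp j) (-(b / kj) / D) * hS T F j D⁻¹ * xg hg (T.smp i) ((D : F) * a)⁻¹ *
        hS T F i v * nG hg F i * xg hg (T.neg (T.smp j)) (b / D) := by
    rw [Units.val_inv_eq_inv_val, Units.val_inv_eq_inv_val, inv_mul_eq_div, inv_mul_eq_div, xg_inv,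
      xg_inv]
    calc xg hg (T.neg (T.smp i)) a * xg hg (T.neg (T.smp j)) b *
        (xg hg (T.smp j) (-(b / kj)) * xg hg (T.smp i) (-(a / ki))) =
        xg hg (T.neg (T.smp i)) a * (xg hg (T.neg (T.smp j)) b * xg hg (T.smp j) (-(b / kj))) *
          xg hg (T.smp i) (-(a / ki)) := by group
      _ = (xg hg (T.neg (T.smp i)) a * xg hg (T.smp j) (-(b / kj) / D)) * hS T F j D⁻¹ *
          (xg hg (T.neg (T.smp j)) (b / D) * xg hg (T.smp i) (-(a / ki))) := by
        rw [neg_mul_pos hg hj.1 hb hDv]; group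
      _ = xg hg (T.smp j) (-(b / kj) / D) * (xg hg (T.neg (T.smp i)) a * hS T F j D⁻¹) *
          xg hg (T.smp i) (-(a / ki)) * xg hg (T.neg (T.smp j)) (b / D) := by rw [c1, c2]; group
      _ = _ := by
        rw [cH, ed, ← hr, ← xg_inv hg (T.smp i) ((D : F) * a)⁻¹]
        group
  rw [hmain, mul_assoc _ (xg hg (T.neg (T.smp j)) (b / D)) _, hlast, nWd_cons, hm, ← hc']
  group

/-- a single root sent to its negative with a fixed neighbour has a square coefficient -/
theorem no_single (M : Min g Ls m α π μ σ θ L)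
    (hm : (m : GL T.D.Idx F) = tor T F c * nWd g.toGood F L)
    (hex : ∀ i, exC F Ls π i = 1) (p : ℕ) [Fact p.Prime] [CharP F p] (hp : p ≠ 2)
    {i k : ℕ} (hi : i ∈ J T L θ) (hkl : k < T.l) (hA : T.A i (T.smp k) = -1)
    (hPk : P (T := T) L θ (T.smp k) = T.ref i (T.smp k)) : False := by
  have hg := g.toGood
  obtain ⟨hσ, ci, hci, hni⟩ := M.coeff_J hm hex p hp hi
  subst hσ
  obtain ⟨K', hK⟩ := M.nu_simple hm hex hkl
  have hs := hg.smp_lt hkl
  have hsq := hg.smp_lt hi.1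
  set r := T.ref i (T.smp k) with hr
  have hrn : r < T.n := hg.ref_lt hi.1 hs
  set n : ↥(T.D.group F) := ⟨nG hg F i, nG_mem_group hg i⟩ with hn
  obtain ⟨v, hv, ed⟩ := y_decomp hg hi.1 (b := (ci : F)) ci.ne_zero
  have hνn : ((MulAut.conj m * α) n : GL T.D.Idx F) = hS T F i v * nG hg F i := by
    rw [show n = xe hg (T.smp i) 1 * xe hg (T.neg (T.smp i)) (-1) * xe hg (T.smp i) 1 from
      Subtype.ext rfl, map_mul, map_mul, (hni 1).1, (hni (-1)).2, mul_one]
    simp only [Subgroup.coe_mul, coe_xe]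
    have h2 : nG hg F i * xg hg (T.neg (T.smp i)) (ci : F) =
        xg hg (T.smp i) (-(ci : F)) * nG hg F i := by
      rw [← mul_inv_eq_iff_eq_mul, nG_conj hg hi.1 (neg_lt hsq), hg.eta_neg hi.1 hsq, hg.eta_smp hi.1,
        hg.ref_neg hi.1 hsq, hg.ref_smp hi.1, Tab.neg_neg hsq]
      push_cast; rw [neg_one_mul]
    have h3 : hS T F i v * xg hg (T.smp i) (-(ci : F)) = xg hg (T.smp i) (-(ci : F)⁻¹) * hS T F i v := by
      rw [← mul_inv_eq_iff_eq_mul, hS, tor_xg hg _ hsq, wt_single hg hi.1, A_smp_self hg hi.1]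
      congr 1
      rw [show ((2 : ℤ)) = ((2 : ℕ) : ℤ) from rfl, zpow_natCast, Units.val_pow_eq_pow_val, hv]
      field_simp
    rw [Units.val_inv_eq_inv_val, mul_neg_one, ← xg_inv hg (T.smp i) (ci : F)⁻¹]
    calc xg hg (T.neg (T.smp i)) (ci : F) * (xg hg (T.smp i) (ci : F)⁻¹)⁻¹ *
          xg hg (T.neg (T.smp i)) (ci : F) =
        xg hg (T.smp i) (ci : F)⁻¹ * hS T F i v * (nG hg F i * xg hg (T.neg (T.smp i)) (ci : F)) := by
          nth_rewrite 1 [ed]; group
      _ = xg hg (T.smp i) (ci : F)⁻¹ * (hS T F i v * xg hg (T.smp i) (-(ci : F))) * nG hg F i := by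
          rw [h2]; group
      _ = hS T F i v * nG hg F i := by
          rw [h3, ← mul_assoc, xg_add, add_neg_cancel, xg_zero, one_mul]
  -- the image of the root between
  have key : ∀ t : F, (MulAut.conj m * α) (xe hg r t) = xe hg (T.smp k)
      (((ci : F) * K') * t) := by
    intro t
    have e : xe hg r t = n * xe hg (T.smp k) ((T.eta i (T.smp k) : F) * t) * n⁻¹ := Subtype.ext (by
      simp only [Subgroup.coe_mul, Subgroup.coe_inv, coe_xe, hn]
      rw [nG_conj hg hi.1 hs, ← mul_assoc, eta_sq, one_mul])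
    rw [e, map_mul, map_mul, map_inv, (hK _).1, hPk]
    refine Subtype.ext ?_
    simp only [Subgroup.coe_mul, Subgroup.coe_inv, hνn, coe_xe]
    rw [show ∀ a b x : GL T.D.Idx F, a * b * x * (a * b)⁻¹ = a * (b * x * b⁻¹) * a⁻¹ from
      fun a b x => by group, nG_conj hg hi.1 hrn, hg.ref_ref hi.1 hs, hS, tor_xg hg _ hs,
      wt_single hg hi.1, hA, zpow_neg_one, Units.val_inv_eq_inv_val, hv, inv_neg, inv_inv]
    congr 1
    have hη : (T.eta i (T.smp k) : F) * (T.eta i r : F) = -1 := by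
      have := (hg.refl' hi.1 hs).2.2.2.2.2.1
      rw [hA, ← hr] at this
      rw [← Int.cast_mul, this]
      norm_num
    simp only [RingEquiv.refl_apply]
    linear_combination (-(ci : F) * K' * t) * hη
  have e := MulEquiv.congr_fun M.sq (xe hg (T.smp k) 1)
  rw [MulAut.mul_apply, (hK 1).1, hPk, key, MulAut.one_apply] at e
  have e' := xe_inj hg hs e
  simp only [RingEquiv.refl_apply, mul_one] at e'
  have hK0 := K'.ne_zero
  exact hci (K' : F)⁻¹ (by field_simp; linear_combination -e')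

end Min

end Cfsg.Agent.InvRankP.Exc
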