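import Cfsg.Agent.Lib.InvRankP.ExcAtoms
import Cfsg.Agent.Lib.InvRankP.ExcShorten

/-!
# The finite check on the root system and its meaning
-/

set_option autoImplicit false
set_option linter.style.haveILetI false

namespace Cfsg.Agent.InvRankP.Exc

open Cfsg.Lie Cfsg.Agent.Chev Cfsg.Agent.Chev.Tab Cfsg.Agent.Chev.Tab.InvC Cfsg.Agent.ChevAut

variable {T : Tab} {K : List (List ℕ)} {Ls : List Bool} {F : Type*} [Field F]

/-! ### Computations -/

/-- the root map of a permutation of the nodes -/
def thF (T : Tab) (q : List ℕ) : ℕ → ℕ → Option ℕ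
  | 0, _ => none
  | f + 1, r =>
    match (List.range T.l).find? fun i => Nat.beq (T.smp i) r with
    | some i => some (T.smp (q.getD i 0))
    | none =>
      match (List.range T.l).find? fun i => Nat.blt (T.ref i r) r with
      | some i => (thF T q f (T.ref i r)).map (T.ref (q.getD i 0))
      | none => none

/-- the image of a root under the monomial involution -/
def imgF (T : Tab) (q J : List ℕ) (r : ℕ) : Option ℕ := (thF T q T.N r).map (T.rw' J)

/-- the parity of a root for given parities of the fundamental roots -/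
def parF (T : Tab) (b : List Bool) : ℕ → ℕ → Option Bool
  | 0, _ => none
  | f + 1, r =>
    match (List.range T.l).find? fun i => Nat.beq (T.smp i) r with
    | some i => some (b.getD i false)
    | none =>
      match (List.range T.l).find? fun i => Nat.blt (T.ref i r) r with
      | some i => (parF T b f (T.ref i r)).map fun a => xor a (b.getD i false && !(T.A i r % 2 == 0))
      | none => none

/-- all sublists -/
def subs : List ℕ → List (List ℕ)
  | [] => [[]]
  | a :: L => (subs L).flatMap fun M => [a :: M, M]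

/-- all lists of Booleans of a length -/
def bools : ℕ → List (List Bool)
  | 0 => [[]]
  | k + 1 => (bools k).flatMap fun M => [M ++ [false], M ++ [true]]

/-- the four commutations -/
def comm4 (T : Tab) (e : ℕ) (a b : ℕ × ℕ) : Bool :=
  Nat.blt a.1 b.1 && commP T e a.1 b.1 && commP T e a.1 b.2 && commP T e a.2 b.1 && commP T e a.2 b.2

/-- the pairs of roots exchanged by the involution which give fixed elements -/
def pairsL (T : Tab) (e : ℕ) (q J : List ℕ) : List (ℕ × ℕ) :=
  (List.range' T.N T.N).filterMap fun r =>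
    match imgF T q J r with
    | some s => bif pairOK T e r s then some (r, s) else none
    | none => none

/-- two commuting pairs -/
def twoPairs (T : Tab) (e : ℕ) (q J : List ℕ) : Bool :=
  let A := pairsL T e q J
  A.any fun a => A.any fun b => comm4 T e a b

/-- the roots fixed elementwise for the given signs -/
def fixL (T : Tab) (q : List ℕ) (b : List Bool) : List (ℕ × ℕ) :=
  (List.range' T.N T.N).filterMap fun r =>
    bif imgF T q [] r == some r && parF T b T.N r == some false then some (r, r) else none

/-- two commuting fixed roots for every choice of signs -/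
def signsOK (T : Tab) (q : List ℕ) : Bool :=
  (bools T.l).all fun b =>
    let A := fixL T q b
    A.any fun x => A.any fun y => comm4 T 0 x y

/-- two adjacent nodes in `J` -/
def adjJ (T : Tab) (J : List ℕ) : Bool :=
  J.any fun i => J.any fun j => !Nat.beq i j && (T.A j (T.smp i) == -1) &&
    (T.cTerms (T.smp j) (T.neg (T.smp i))).isEmpty && (T.cTerms (T.smp i) (T.neg (T.smp j))).isEmpty

/-- a single node with a neighbour reflected by it -/
def singleJ (T : Tab) (q J : List ℕ) : Bool :=
  match J with
  | [i] => anyBelow (fun k => (T.A i (T.smp k) == -1) && (imgF T q J (T.smp k) == some (T.ref i (T.smp k)))) T.l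
  | _ => false

/-- the word `J` is the longest word of its nodes and is compatible with `q` -/
def wordOK (T : Tab) (J : List ℕ) : Bool := J.all fun i => Nat.blt (T.rw' J (T.smp i)) T.N

/-- the action on the fundamental roots is not the required one -/
def inconsistent (T : Tab) (q J : List ℕ) : Bool :=
  anyBelow (fun i =>
    bif J.contains i then !(imgF T q J (T.smp i) == some (T.neg (T.smp i)))
    else match imgF T q J (T.smp i) with
      | some s => Nat.blt s T.N
      | none => false) T.l

/-- one case of the check -/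
def caseOK (T : Tab) (q J : List ℕ) : Bool :=
  J.any (fun i => !J.contains (q.getD i 0)) || adjJ T J ||
    (wordOK T J &&
      (inconsistent T q J || singleJ T q J || twoPairs T 0 q J || (J.isEmpty && q == List.range T.l && signsOK T q)))

/-- the check -/
def checkExc (T : Tab) (syms : List (List ℕ)) : Bool :=
  syms.all fun q => (subs (List.range T.l)).all fun J => caseOK T q J

/-! ### Meaning -/

theorem mem_subs (f : ℕ → Bool) : ∀ L : List ℕ, L.filter f ∈ subs L
  | [] => by simp [subs]
  | a :: L => by
    rw [subs, List.mem_flatMap]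
    refine ⟨L.filter f, mem_subs f L, ?_⟩
    cases h : f a <;> simp [List.filter_cons, h]

theorem mem_bools (f : ℕ → Bool) : ∀ k, (List.range k).map f ∈ bools k
  | 0 => by simp [bools]
  | k + 1 => by
    rw [bools, List.mem_flatMap]
    refine ⟨(List.range k).map f, mem_bools f k, ?_⟩
    rw [List.range_succ, List.map_append]
    cases h : f k <;> simp [h]

theorem thF_spec {g : T.Good} {α : MulAut ↥(T.D.group F)} {π : Equiv.Perm (Fin T.l)} {θ : ℕ → ℕ}
    (hm : RMap g α π θ) {q : List ℕ} (hq : ∀ i < T.l, q.getD i 0 = pn π i) :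
    ∀ f r s, r < T.n → thF T q f r = some s → θ r = s := by
  intro f
  induction f with
  | zero => intro r s _ h; simp [thF] at h
  | succ f ih =>
    intro r s hr h
    rw [thF] at h
    split at h
    · rename_i i hi
      obtain rfl := Option.some_inj.1 h
      have h1 := List.find?_some hi
      have h2 := List.mem_range.1 (List.mem_of_find?_eq_some hi)
      rw [nat_beq] at h1
      rw [← h1, hm.smp i h2, hq i h2]
    · split at h
      · rename_i i hi
        obtain ⟨u, hu, rfl⟩ := Option.map_eq_some_iff.1 h
        have h2 := List.mem_range.1 (List.mem_of_find?_eq_some hi)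
        conv_lhs => rw [← g.ref_ref h2 hr]
        rw [hm.ref i h2 _ (g.ref_lt h2 hr), ih _ _ (g.ref_lt h2 hr) hu, hq i h2]
      · simp at h

theorem range'_mem {r : ℕ} (h : r ∈ List.range' T.N T.N) : T.N ≤ r ∧ r < T.n := by
  rw [List.mem_range'_1] at h
  have := n_def (T := T)
  omega

variable [Finite F]

set_option linter.unusedSectionVars false

/-- two commuting pairs give the two fixed elements -/
theorem twoFix_pairs (g : T.GoodA) (p : ℕ) [Fact p.Prime] [CharP F p] (hp : p ≠ 2) {e : ℕ}
    (he : (e : F) = 0) {ν : MulAut ↥(T.D.group F)} (hν : ν * ν = 1) {q J : List ℕ}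
    (hmap : ∀ r s, T.N ≤ r → r < T.n → imgF T q J r = some s →
      ∃ u, ν (xe g.toGood r 1) = xe g.toGood s u)
    (h : twoPairs T e q J = true) : TwoFix p ν := by
  simp only [twoPairs, List.any_eq_true] at h
  obtain ⟨a, ha, b, hb, hab⟩ := h
  have key : ∀ a ∈ pairsL T e q J, T.N ≤ a.1 ∧ a.1 < T.n ∧ a.2 < T.n ∧
      ∃ w, Atom g.toGood p ν a.1 a.2 w := by
    intro a ha
    rw [pairsL, List.mem_filterMap] at ha
    obtain ⟨r, hr, hr'⟩ := ha
    split at hr'
    · rename_i s hs
      cases hok : pairOK T e r s
      · rw [hok] at hr'; simp at hr'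
      rw [hok] at hr'
      obtain rfl := Option.some_inj.1 hr'
      obtain ⟨h1, h2⟩ := range'_mem hr
      have hs' : s < T.n := by
        simp only [pairOK, Bool.and_eq_true, nat_blt] at hok
        exact hok.1.2
      obtain ⟨u, hu⟩ := hmap r s h1 h2 hs
      exact ⟨h1, h2, hs', Atom.pair g hp he hν hok hu⟩
    · simp at hr'
  obtain ⟨a1, a2, a3, w, hw⟩ := key a ha
  obtain ⟨b1, b2, b3, w', hw'⟩ := key b hb
  simp only [comm4, Bool.and_eq_true, nat_blt] at hab
  obtain ⟨⟨⟨⟨hlt, c1⟩, c2⟩, c3⟩, c4⟩ := hab
  exact Atom.twoFix g he hw hw' a1 hlt a3 b2 b3 c1 c2 c3 c4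

namespace Min

variable {g : T.GoodK K} {m : ↥(T.D.group F)} {α : MulAut ↥(T.D.group F)}
  {π : Equiv.Perm (Fin T.l)} {μ : Fin T.l → Fˣ} {σ : F ≃+* F} {θ : ℕ → ℕ} {L : List ℕ}
  {c : ℕ → Fˣ}

/-- signs of the roots under a diagonal involution -/
theorem par_spec (g : T.Good) {ν : MulAut ↥(T.D.group F)} {k : Fin T.l → Fˣ} {ε : List Bool}
    (hs : Std g Ls ν 1 k (RingEquiv.refl F))
    (hk : ∀ i : Fin T.l, (k i : F) = if ε.getD i false then -1 else 1) :
    ∀ f r b, r < T.n → parF T ε f r = some b →
      ∀ t : F, ν (xe g r t) = xe g r ((if b then (-1 : F) else 1) * t) := by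
  intro f
  induction f with
  | zero => intro r b _ h; simp [parF] at h
  | succ f ih =>
    intro r b hr h t
    rw [parF] at h
    split at h
    · rename_i i hi
      obtain rfl := Option.some_inj.1 h
      have h1 := List.find?_some hi
      have h2 := List.mem_range.1 (List.mem_of_find?_eq_some hi)
      rw [nat_beq] at h1
      have := (hs ⟨i, h2⟩ t).1
      simp only [exC_one, pow_one, Equiv.Perm.one_apply, RingEquiv.refl_apply, hk] at this
      rw [← h1]
      exact this
    · split at h
      · rename_i i hi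
        obtain ⟨a, ha, rfl⟩ := Option.map_eq_some_iff.1 h
        have h2 := List.mem_range.1 (List.mem_of_find?_eq_some hi)
        have hu := g.ref_lt h2 hr
        have e := ref_step g hs h2 hu hu (ih _ _ hu ha ((T.eta i (T.ref i r) : F) * t))
        have hp1 : pn (1 : Equiv.Perm (Fin T.l)) i = i := by rw [pn_apply _ h2]; rfl
        rw [hp1, g.ref_ref h2 hr] at e
        rw [e]
        congr 1
        simp only [Units.val_mul, etaU, Equiv.Perm.one_apply, wt_single g h2]
        have hkk := hk ⟨i, h2⟩
        simp only at hkk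
        have hwt : (((k ⟨i, h2⟩) ^ T.A i r : Fˣ) : F) =
            if (ε.getD i false && !(T.A i r % 2 == 0)) then -1 else 1 := by
          rw [Units.val_zpow_eq_zpow_val, hkk]
          cases ε.getD i false
          · simp
          · rcases Int.even_or_odd (T.A i r) with he | he
            · simp [he.neg_one_zpow, Int.even_iff.1 he]
            · simp [he.neg_one_zpow, Int.odd_iff.1 he]
        rw [hwt]
        have hη := eta_sq (F := F) T i (T.ref i r)
        cases a <;> cases (ε.getD i false && !(T.A i r % 2 == 0)) <;> simp <;> linear_combination t * hη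
      · simp at h

/-- The meaning of the check. -/
theorem twoFix_of_check (M : Min g Ls m α π μ σ θ L)
    (hm : (m : GL T.D.Idx F) = tor T F c * nWd g.toGood F L) (p : ℕ) [Fact p.Prime] [CharP F p]
    (hp : p ≠ 2) (hc : CartOK T π) (hex : ∀ i, exC F Ls π i = 1)
    (hl : ∀ r < T.n, ∃ k : Fˣ, ∀ t, α (xe g.toGood r t) = xe g.toGood (θ r) ((k : F) * σ t))
    {syms : List (List ℕ)} (hq : permList π T.l ∈ syms) (hchk : checkExc T syms = true) :
    TwoFix p (MulAut.conj m * α) := by
  classical
  have hg := g.toGood
  set q := permList π T.l with hqdef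
  have hqi : ∀ i < T.l, q.getD i 0 = pn π i := fun i hi => by
    simp [hqdef, permList, List.getD_eq_getElem?_getD, hi, pn_apply π hi]
  set Jl := (List.range T.l).filter fun i => decide (i ∈ J T L θ) with hJl
  have hmem : ∀ i, i ∈ Jl ↔ i ∈ J T L θ := fun i => by
    simp only [hJl, List.mem_filter, List.mem_range, decide_eq_true_eq, and_iff_right_iff_imp]
    exact fun h => h.1
  have hchk' := List.all_eq_true.1 (List.all_eq_true.1 hchk q hq) Jl (mem_subs _ _)
  simp only [caseOK, Bool.or_eq_true, Bool.and_eq_true] at hchk'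
  rcases hchk' with (hns | hadj) | ⟨hw, hrest⟩
  · exfalso
    obtain ⟨i, hi, hi'⟩ := List.any_eq_true.1 hns
    have hiJ := (hmem i).1 hi
    rw [hqi i hiJ.1] at hi'
    simp [(hmem _).2 (M.pn_mem_J hc hiJ)] at hi'
  · exfalso
    simp only [adjJ, List.any_eq_true, Bool.and_eq_true, Bool.not_eq_true', ← Bool.not_eq_true,
      nat_beq, beq_iff_eq, List.isEmpty_iff] at hadj
    obtain ⟨i, hi, j, hj, ⟨⟨hne, hA⟩, h1⟩, h2⟩ := hadj
    exact M.no_adjacent hm hex p hp ((hmem i).1 hi) ((hmem j).1 hj) hne hA h1 h2
  have hword : ∀ r, r < T.n → T.rw' L r = T.rw' Jl r := fun r hr =>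
    M.word_eq hc (A := Jl) (fun i hi => ⟨((hmem i).1 hi).1, (hmem i).1 hi⟩)
      (fun i hi hiJ => by
        have := List.all_eq_true.1 hw i ((hmem i).2 hiJ)
        simpa [nat_blt] using this) hr
  have himg : ∀ r s, r < T.n → imgF T q Jl r = some s → P (T := T) L θ r = s := by
    intro r s hr h
    rw [imgF, Option.map_eq_some_iff] at h
    obtain ⟨u, hu, rfl⟩ := h
    have := thF_spec M.rmap hqi _ r u hr hu
    rw [P, this, hword _ (this ▸ M.rmap.lt r hr)]
  rcases hrest with ((hinc | hsing) | hpairs) | ⟨⟨hemp, hid⟩, hsign⟩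
  · exfalso
    simp only [inconsistent, anyBelow_eq_true] at hinc
    obtain ⟨i, hi, h⟩ := hinc
    by_cases hiJ : i ∈ Jl
    · rw [List.contains_iff_mem.2 hiJ, cond_true, Bool.not_eq_true', beq_eq_false_iff_ne] at h
      have hP := ((hmem i).1 hiJ).2
      rcases hu : thF T q T.N (T.smp i) with _ | u
      · -- the computation always succeeds on a fundamental root
        have : ∃ u, thF T q T.N (T.smp i) = some u := by
          obtain ⟨N', hN'⟩ : ∃ N', T.N = N' + 1 := ⟨T.N - 1, by have := hg.N_pos; omega⟩
          rcases hf : (List.range T.l).find? (fun k => Nat.beq (T.smp k) (T.smp i)) with _ | k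
          · exact absurd (List.find?_eq_none.1 hf i (List.mem_range.2 hi)) (by simp)
          · exact ⟨T.smp (q.getD k 0), by rw [hN', thF, hf]⟩
        simp [hu] at this
      · have := himg _ _ (hg.smp_lt hi) (show imgF T q Jl (T.smp i) = some (T.rw' Jl u) by
          rw [imgF, hu]; rfl)
        exact h (by rw [imgF, hu, Option.map_some, ← this, hP])
    · have hc' : Jl.contains i = false := by simpa using hiJ
      rw [hc', cond_false] at h
      split at h
      · rename_i s hs
        rw [nat_blt] at h
        have := himg _ _ (hg.smp_lt hi) hs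
        have := M.simple_out hi fun hh => hiJ ((hmem i).2 hh)
        omega
      · simp at h
  · exfalso
    unfold singleJ at hsing
    generalize hi : Jl = Jx at hsing
    split at hsing
    · rename_i i
      simp only [anyBelow_eq_true, Bool.and_eq_true, beq_iff_eq] at hsing
      obtain ⟨k, hk, hA, him⟩ := hsing
      have hiJ : i ∈ J T L θ := (hmem i).1 (by rw [hi]; exact List.mem_singleton.2 rfl)
      rw [← hi] at him
      exact M.no_single hm hex p hp hiJ hk hA (himg _ _ (hg.smp_lt hk) him)
    · simp at hsing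
  · refine twoFix_pairs g.toGoodA p hp (e := 0) Nat.cast_zero M.sq (fun r s h1 h2 h => ?_) hpairs
    obtain ⟨u, hu⟩ := M.nu_maps hm h2 1
    exact ⟨u, by rw [hu, himg r s h2 h]⟩
  -- no root is sent to its negative
  rw [List.isEmpty_iff] at hemp
  rw [beq_iff_eq] at hid
  obtain rfl : π = 1 := permList_injective (a₁ := π) (a₂ := 1) (by
    show permList π T.l = permList 1 T.l
    rw [← hqdef, hid]
    simp only [permList, Equiv.Perm.one_apply]
    exact ((List.map_congr_left fun i _ => by simp).trans (List.map_id _)).symm)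
  set ν := MulAut.conj m * α with hν
  have fixpart : ∀ ε : List Bool, ε ∈ bools T.l →
      (∀ r, T.N ≤ r → r < T.n → imgF T q [] r = some r → parF T ε T.N r = some false →
        ∃ t : F, t ≠ 0 ∧ ν (xe hg r t) = xe hg r t) → TwoFix p ν := by
    intro ε hε hfix
    have h := List.all_eq_true.1 hsign ε hε
    simp only [List.any_eq_true] at h
    obtain ⟨a, ha, b, hb, hab⟩ := h
    have key : ∀ a ∈ fixL T q ε, T.N ≤ a.1 ∧ a.1 < T.n ∧ a.2 < T.n ∧
        ∃ w, Atom hg p ν a.1 a.2 w := by
      intro a ha
      rw [fixL, List.mem_filterMap] at ha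
      obtain ⟨r, hr, hr'⟩ := ha
      cases hok : (imgF T q [] r == some r && parF T ε T.N r == some false)
      · rw [hok] at hr'; simp at hr'
      rw [hok] at hr'
      obtain rfl := Option.some_inj.1 hr'
      simp only [Bool.and_eq_true, beq_iff_eq] at hok
      obtain ⟨h1, h2⟩ := range'_mem hr
      obtain ⟨t, ht, hfx⟩ := hfix r h1 h2 hok.1 hok.2
      exact ⟨h1, h2, h2, _, Atom.single hg ht hfx⟩
    obtain ⟨a1, a2, a3, w, hw'⟩ := key a ha
    obtain ⟨b1, b2, b3, w', hw''⟩ := key b hb
    simp only [comm4, Bool.and_eq_true, nat_blt] at hab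
    obtain ⟨⟨⟨⟨hlt, c1⟩, c2⟩, c3⟩, c4⟩ := hab
    exact Atom.twoFix g.toGoodA (e := 0) Nat.cast_zero hw' hw'' a1 hlt a3 b2 b3 c1 c2 c3 c4
  by_cases hσ : σ = RingEquiv.refl F
  swap
  · refine fixpart ((List.range T.l).map fun _ => false) (mem_bools _ _) fun r h1 h2 h _ => ?_
    have hP : P (T := T) L θ r = r := himg r r h2 (by rw [hemp]; exact h)
    obtain ⟨k, hk⟩ := M.nu_lin hm h2 (hl r h2)
    rw [hP] at hk
    have hinv : ∀ t, (k : F) * σ ((k : F) * σ t) = t := fun t => by
      have e := MulEquiv.congr_fun M.sq (xe hg r t)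
      rw [MulAut.mul_apply, hk, hk, MulAut.one_apply] at e
      exact xe_inj hg h2 e
    obtain ⟨t, ht, htf⟩ := exists_fixed (fun t => (k : F) * σ t)
      (fun t u => by rw [map_add, mul_add]) hinv (by
        by_contra hne
        push Not at hne
        refine hσ (RingEquiv.ext fun t => ?_)
        have e1 := hne 1
        rw [map_one, mul_one] at e1
        have e2 := hne t
        rw [e1, neg_one_mul, neg_inj] at e2
        exact e2)
    exact ⟨t, ht, by rw [hk]; exact congrArg (xe hg r) htf⟩
  subst hσ
  have hPs : ∀ i : Fin T.l, P (T := T) L θ (T.smp i) = T.smp (pn (1 : Equiv.Perm (Fin T.l)) i) :=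
    fun i => by
    rw [P, M.rmap.smp i i.2, hword _ (hg.smp_lt (pn_lt _ i.2)), hemp, rw'_nil]
  have hPi : ∀ i : Fin T.l, P (T := T) L θ (T.smp i) = T.smp i := fun i => by
    rw [hPs, pn_apply _ i.2]; rfl
  choose k hk using fun i : Fin T.l => M.nu_simple hm hex i.2
  have hstd : Std hg Ls ν 1 k (RingEquiv.refl F) := fun i t => by
    obtain ⟨h1, h2⟩ := hk i t
    simp only [exC_one, pow_one, Equiv.Perm.one_apply]
    rw [hPi i] at h1 h2
    exact ⟨h1, h2⟩
  let ε : List Bool := (List.range T.l).map fun i => if h : i < T.l then decide ((k ⟨i, h⟩ : F) ≠ 1) else false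
  have hkε : ∀ i : Fin T.l, (k i : F) = if ε.getD i false then -1 else 1 := fun i => by
    have hgd : ε.getD i false = decide ((k i : F) ≠ 1) := by
      simp [ε, List.getD_eq_getElem?_getD, i.2]
    rw [hgd]
    have hsq : (k i : F) * k i = 1 := by
      have e := MulEquiv.congr_fun M.sq (xe hg (T.smp i) 1)
      have h1 := fun t => (hk i t).1
      simp only [hPi i, RingEquiv.refl_apply] at h1
      rw [MulAut.mul_apply, h1, h1, MulAut.one_apply] at e
      simpa using xe_inj hg (hg.smp_lt i.2) e
    rcases mul_self_eq_one_iff.1 hsq with e | e <;> simp [e]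
  refine fixpart ε (mem_bools _ _) fun r h1 h2 _ hpar => ⟨1, one_ne_zero, ?_⟩
  have := par_spec (Ls := Ls) hg hstd hkε T.N r false h2 hpar 1
  simpa using this

end Min

end Cfsg.Agent.InvRankP.Exc
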