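import Cfsg.Agent.Lib.InvRankP.ExcRootMap

/-!
# An involutory automorphism with the shortest Bruhat cell among its conjugates
-/

set_option autoImplicit false
set_option linter.style.haveILetI false

namespace Cfsg.Agent.InvRankP.Exc

open Cfsg.Lie Cfsg.Agent.Chev Cfsg.Agent.Chev.Tab Cfsg.Agent.Chev.Tab.InvC Cfsg.Agent.ChevAut

variable {T : Tab} {K : List (List ℕ)} {Ls : List Bool} {F : Type*} [Field F]

theorem nWd_inv (g : T.Good) {L : List ℕ} (hL : T.Wd L) :
    ∃ c : ℕ → Fˣ, (nWd g F L)⁻¹ = tor T F c * nWd g F L.reverse := by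
  obtain ⟨⟨e, he⟩, -⟩ := nWd_torus_of_pos (F := F) g (L.reverse ++ L).length le_rfl
    (Wd.append_iff.2 ⟨hL.reverse, hL⟩) (fun s h1 h2 => by rwa [rw'_append, rw'_rev g hL h2])
  rw [nWd_append] at he
  refine ⟨e⁻¹, ?_⟩
  rw [map_inv, ← he]
  group

theorem incell_inv (g : T.Good) {x : GL T.D.Idx F} {L : List ℕ} (hL : T.Wd L) (h : InCell g F x L) :
    InCell g F x⁻¹ L.reverse := by
  obtain ⟨b, hb, b', hb', rfl⟩ := h
  obtain ⟨c, hc⟩ := nWd_inv (F := F) g hL
  refine ⟨b'⁻¹ * tor T F c, mul_mem (inv_mem hb') (torus_le_borel g c), b⁻¹, inv_mem hb, ?_⟩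
  rw [mul_inv_rev, mul_inv_rev, hc]
  group

theorem incell_mul_right (g : T.Good) {x b : GL T.D.Idx F} {L : List ℕ}
    (hb : b ∈ T.D.borelSubgroup F) (h : InCell g F x L) : InCell g F (x * b) L := by
  obtain ⟨b₁, h1, b₂, h2, rfl⟩ := h
  exact ⟨b₁, h1, b₂ * b, mul_mem h2 hb, by group⟩

theorem incell_mul_left (g : T.Good) {x b : GL T.D.Idx F} {L : List ℕ}
    (hb : b ∈ T.D.borelSubgroup F) (h : InCell g F x L) : InCell g F (b * x) L := by
  obtain ⟨b₁, h1, b₂, h2, rfl⟩ := h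
  exact ⟨b * b₁, mul_mem hb h1, b₂, h2, by group⟩

/-- multiplying a cell on the right by a fundamental reflection -/
theorem cell_mul_nG (g : T.GoodA) {L : List ℕ} (hL : T.Wd L) {j : ℕ} (hj : j < T.l)
    {b : GL T.D.Idx F} (hb : b ∈ T.D.borelSubgroup F) :
    InCell g.toGood F (nWd g.toGood F L * b * (nG g.toGood F j)⁻¹) L ∨
      InCell g.toGood F (nWd g.toGood F L * b * (nG g.toGood F j)⁻¹) (L ++ [j]) := by
  have hg := g.toGood
  have hn : (nWd hg F L)⁻¹ ∈ T.D.monomialSubgroup F :=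
    inv_mem ((mem_monomial_iff hg).2 ⟨L, hL, 1, by simp⟩)
  obtain ⟨b₁, h1, b₂, h2, e | e⟩ := nG_borel_mul g hj (inv_mem hb) hn
  · refine Or.inr ⟨b₂⁻¹, inv_mem h2, (hS T F j (-1))⁻¹ * b₁⁻¹, mul_mem (inv_mem ?_) (inv_mem h1), ?_⟩
    · rw [hS_eq_tor]; exact torus_le_borel hg _
    · have e' := congrArg (fun y => y⁻¹) e
      simp only [mul_inv_rev, inv_inv] at e'
      rw [← mul_assoc] at e'
      rw [e', nWd_snoc, ← nG_sq hg hj]
      group
  · refine Or.inl ⟨b₂⁻¹, inv_mem h2, b₁⁻¹, inv_mem h1, ?_⟩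
    have e' := congrArg (fun y => y⁻¹) e
    simp only [mul_inv_rev, inv_inv] at e'
    rw [← mul_assoc] at e'
    rw [e']
    group

/-- conjugating an automorphism `inn(x) α` -/
theorem conj_twist {G : Type*} [Group G] (z x : G) (α : MulAut G) :
    MulAut.conj z * (MulAut.conj x * α) * (MulAut.conj z)⁻¹ = MulAut.conj (z * x * (α z)⁻¹) * α := by
  ext y
  rw [← map_inv MulAut.conj z]
  simp only [MulAut.mul_apply, MulAut.conj_apply, map_mul, map_inv α, inv_inv]

theorem twist_sq {G : Type*} [Group G] (x : G) (α : MulAut G) :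
    MulAut.conj x * α * (MulAut.conj x * α) = MulAut.conj (x * α x) * (α * α) := by
  ext y
  simp only [MulAut.mul_apply, MulAut.conj_apply, map_mul, map_inv, mul_inv_rev]

/-- `inn(x) α` is an involution (or the identity) in the shortest cell among its conjugates -/
structure Min (g : T.GoodK K) (Ls : List Bool) (x : ↥(T.D.group F)) (α : MulAut ↥(T.D.group F))
    (π : Equiv.Perm (Fin T.l)) (μ : Fin T.l → Fˣ) (σ : F ≃+* F) (θ : ℕ → ℕ) (L : List ℕ) : Prop where
  std : Std g.toGood Ls α π μ σ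
  rmap : RMap g.toGood α π θ
  sq : MulAut.conj x * α * (MulAut.conj x * α) = 1
  wd : T.Wd L
  cell : InCell g.toGood F (x : GL T.D.Idx F) L
  min : ∀ (z : ↥(T.D.group F)) (L' : List ℕ), T.Wd L' →
    InCell g.toGood F ((z * x * (α z)⁻¹ : ↥(T.D.group F)) : GL T.D.Idx F) L' →
    (T.invSet L).card ≤ (T.invSet L').card

variable [Finite F]

/-- every involution has a conjugate of least cell -/
theorem exists_min (h : AutOK T K Ls) {φ : MulAut ↥(T.D.group F)} (hφ : φ * φ = 1) :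
    ∃ c x α π μ σ θ L, c * φ * c⁻¹ = MulAut.conj x * α ∧
      Min h.good Ls x α π μ σ θ L ∧ (∀ i j : Fin T.l, i ≠ j → bd T (π i) (π j) = bd T i j) ∧
        ((∀ i, exC F Ls π i = 1) →
          ∀ r < T.n, ∃ k : Fˣ, ∀ t, α (xe h.good.toGood r t) = xe h.good.toGood (θ r) ((k : F) * σ t)) := by
  classical
  have hg := h.good.toGood
  obtain ⟨y, hy⟩ := exists_conj_UV h.good φ
  set α := MulAut.conj y * φ with hα
  obtain ⟨π, μ, σ, hs, hbd⟩ := exists_std h (θ := α) hy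
  obtain ⟨θ, hm, hlin⟩ := exists_rmap hg hs
  have hφα : φ = MulAut.conj y⁻¹ * α := by rw [hα, map_inv, inv_mul_cancel_left]
  let S : ℕ → Prop := fun k => ∃ (z : ↥(T.D.group F)) (L : List ℕ), T.Wd L ∧
    InCell hg F ((z * y⁻¹ * (α z)⁻¹ : ↥(T.D.group F)) : GL T.D.Idx F) L ∧ (T.invSet L).card = k
  have hS : ∃ k, S k := by
    obtain ⟨L, hL, hc⟩ := incell_exists h.good.toGoodA (y⁻¹ : ↥(T.D.group F)).2
    exact ⟨_, 1, L, hL, by rw [map_one, inv_one, mul_one, one_mul]; exact hc, rfl⟩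
  obtain ⟨z, L, hL, hc, hk⟩ := Nat.find_spec hS
  refine ⟨MulAut.conj z, z * y⁻¹ * (α z)⁻¹, α, π, μ, σ, θ, L, ?_, ?_, hbd, hlin⟩
  · rw [hφα, conj_twist]
  refine ⟨hs, hm, ?_, hL, hc, fun w L' hL' hc' => ?_⟩
  · rw [← conj_twist, ← hφα]
    calc MulAut.conj z * φ * (MulAut.conj z)⁻¹ * (MulAut.conj z * φ * (MulAut.conj z)⁻¹)
        = MulAut.conj z * (φ * φ) * (MulAut.conj z)⁻¹ := by group
      _ = 1 := by rw [hφ, mul_one, mul_inv_cancel]
  · rw [hk]
    refine Nat.find_min' hS ⟨w * z, L', hL', ?_, rfl⟩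
    rw [show w * z * y⁻¹ * (α (w * z))⁻¹ = w * (z * y⁻¹ * (α z)⁻¹) * (α w)⁻¹ by
      rw [map_mul, mul_inv_rev]; group]
    exact hc'

namespace Min

variable {g : T.GoodK K} {x : ↥(T.D.group F)} {α : MulAut ↥(T.D.group F)}
  {π : Equiv.Perm (Fin T.l)} {μ : Fin T.l → Fˣ} {σ : F ≃+* F} {θ : ℕ → ℕ} {L : List ℕ}

theorem norm (M : Min g Ls x α π μ σ θ L) : α ∈ normAut g.toGood F := M.std.mem g

theorem maps_B (M : Min g Ls x α π μ σ θ L) {b : ↥(T.D.group F)}
    (hb : (b : GL T.D.Idx F) ∈ T.D.borelSubgroup F) : (α b : GL T.D.Idx F) ∈ T.D.borelSubgroup F :=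
  (maps_borel g M.norm.1 b).1 hb

/-- `x α(x)` lies in the torus and conjugation by it is the inverse of `α²` -/
theorem torus (M : Min g Ls x α π μ σ θ L) :
    ∃ c : ℕ → Fˣ, ((x * α x : ↥(T.D.group F)) : GL T.D.Idx F) = tor T F c ∧
      α * α = (MulAut.conj (x * α x))⁻¹ := by
  have h := M.sq
  rw [twist_sq] at h
  have e : α * α = (MulAut.conj (x * α x))⁻¹ := eq_inv_of_mul_eq_one_right h
  have hn : MulAut.conj (x * α x) ∈ normAut g.toGood F := by
    rw [← inv_inv (MulAut.conj (x * α x)), ← e]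
    exact inv_mem (mul_mem M.norm M.norm)
  obtain ⟨c, hc⟩ := conj_mem_normAut g hn
  exact ⟨c, hc, e⟩

theorem theta_invol (M : Min g Ls x α π μ σ θ L) {r : ℕ} (hr : r < T.n) : θ (θ r) = r := by
  obtain ⟨c, hc, e⟩ := M.torus
  refine M.rmap.sq_eq hr (u := (wt T F c r)⁻¹.val * 1) ?_
  show (α * α) (xe g.toGood r 1) = _
  rw [e, ← map_inv, MulAut.conj_apply]
  refine Subtype.ext ?_
  simp only [Subgroup.coe_mul, Subgroup.coe_inv, coe_xe] at hc ⊢
  rw [hc, inv_inv, ← map_inv]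
  have := tor_xg g.toGood c⁻¹ hr (1 : F)
  rw [map_inv, inv_inv] at this
  rw [map_inv, this]
  congr 1
  simp [wt, Finset.prod_inv_distrib]

theorem pn_invol (M : Min g Ls x α π μ σ θ L) {i : ℕ} (hi : i < T.l) : pn π (pn π i) = i := by
  have h := M.theta_invol (g.toGood.smp_lt hi)
  rw [M.rmap.smp i hi, M.rmap.smp _ (pn_lt π hi)] at h
  exact g.toGood.smp_inj (pn_lt π (pn_lt π hi)) hi h

/-- the image of the word of the cell is its inverse -/
theorem word_map (M : Min g Ls x α π μ σ θ L) {r : ℕ} (hr : r < T.n) :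
    T.rw' (L.map (pn π)) r = T.rw' L.reverse r := by
  have hg := g.toGood
  obtain ⟨c, hc, -⟩ := M.torus
  refine incell_unique g.toGoodA (wd_map π M.wd) M.wd.reverse ?_
    (incell_mul_right hg (torus_le_borel hg c) (incell_inv hg M.wd M.cell)) hr
  obtain ⟨b, hb, b', hb', e⟩ := M.cell
  have hx : x = ⟨b, borel_le_group hg hb⟩ * ⟨nWd hg F L, nWd_mem_group hg M.wd⟩ *
      ⟨b', borel_le_group hg hb'⟩ := Subtype.ext e
  have hα : (α x : GL T.D.Idx F) = (x : GL T.D.Idx F)⁻¹ * tor T F c := by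
    rw [← hc, Subgroup.coe_mul, inv_mul_cancel_left]
  rw [← hα, hx]
  obtain ⟨d, hd⟩ := std_nWd (g := hg) M.std M.wd
  simp only [map_mul, Subgroup.coe_mul, hd]
  exact ⟨_, mul_mem (M.maps_B (b := ⟨b, borel_le_group hg hb⟩) hb) (torus_le_borel hg d), _,
    M.maps_B (b := ⟨b', borel_le_group hg hb'⟩) hb', by group⟩

/-- the action of the involution on the roots -/
def P (L : List ℕ) (θ : ℕ → ℕ) (r : ℕ) : ℕ := T.rw' L (θ r)

omit [Finite F] in
theorem P_lt (M : Min g Ls x α π μ σ θ L) {r : ℕ} (hr : r < T.n) : P (T := T) L θ r < T.n :=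
  rw'_lt g.toGood M.wd (M.rmap.lt r hr)

omit [Finite F] in
theorem P_neg (M : Min g Ls x α π μ σ θ L) {r : ℕ} (hr : r < T.n) :
    P (T := T) L θ (T.neg r) = T.neg (P (T := T) L θ r) := by
  rw [P, P, M.rmap.neg r hr, rw'_neg g.toGood M.wd (M.rmap.lt r hr)]

theorem theta_word (M : Min g Ls x α π μ σ θ L) {r : ℕ} (hr : r < T.n) :
    θ (T.rw' L r) = T.rw' L.reverse (θ r) := by
  rw [M.rmap.word M.wd hr, M.word_map (M.rmap.lt r hr)]

theorem P_invol (M : Min g Ls x α π μ σ θ L) {r : ℕ} (hr : r < T.n) :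
    P (T := T) L θ (P (T := T) L θ r) = r := by
  rw [P, P, M.theta_word (M.rmap.lt r hr), rw'_rev' g.toGood M.wd (M.rmap.lt _ (M.rmap.lt r hr)),
    M.theta_invol hr]

theorem rev_smp_neg (M : Min g Ls x α π μ σ θ L) {i : ℕ} (hi : i < T.l)
    (hlt : P (T := T) L θ (T.smp i) < T.N) : T.rw' L.reverse (T.smp i) < T.N := by
  have hg := g.toGood
  have hPn := M.P_lt (hg.smp_lt hi)
  have e : θ (P (T := T) L θ (T.smp i)) = T.rw' L.reverse (T.smp i) := by
    rw [P, M.theta_word (M.rmap.lt _ (hg.smp_lt hi)), M.theta_invol (hg.smp_lt hi)]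
  rw [← e]
  by_contra hc
  have := (M.rmap.pos _ hPn).1 (not_lt.1 hc)
  omega

/-- a fundamental root with negative image gives a shorter word -/
theorem card_cons_lt (M : Min g Ls x α π μ σ θ L) {i : ℕ} (hi : i < T.l)
    (hlt : P (T := T) L θ (T.smp i) < T.N) : (T.invSet (i :: L)).card < (T.invSet L).card := by
  have hg := g.toGood
  have h1 := M.rev_smp_neg hi hlt
  have hiL : T.Wd (i :: L) := Wd.cons_iff.2 ⟨hi, M.wd⟩
  have hgr := invSet_grow_left hg hiL hi (by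
    rw [List.reverse_cons, rw'_append, rw'_cons, rw'_nil, hg.ref_smp hi,
      rw'_neg hg M.wd.reverse (hg.smp_lt hi)]
    exact (N_le_neg_iff (rw'_lt hg M.wd.reverse (hg.smp_lt hi))).2 h1)
  have e : T.invSet (i :: i :: L) = T.invSet L := by
    ext s
    rw [invSet, invSet, Finset.mem_filter, Finset.mem_filter, Finset.mem_Ico]
    refine and_congr_right fun hs => ?_
    rw [rw'_cons, rw'_cons, hg.ref_ref hi (rw'_lt hg M.wd hs.2)]
  rwa [e] at hgr

/-- in a cell of least length each fundamental root goes to a positive root or to its negative -/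
theorem simple (M : Min g Ls x α π μ σ θ L) {i : ℕ} (hi : i < T.l) :
    P (T := T) L θ (T.smp i) = T.neg (T.smp i) ∨ T.N ≤ P (T := T) L θ (T.smp i) := by
  have hg := g.toGood
  by_contra hc
  push Not at hc
  obtain ⟨hne, hlt⟩ := hc
  set j := pn π i with hj
  have hjl : j < T.l := pn_lt π hi
  have hPn := M.P_lt (hg.smp_lt hi)
  have hiL : T.Wd (i :: L) := Wd.cons_iff.2 ⟨hi, M.wd⟩
  have c1 := M.card_cons_lt hi hlt
  have hiLj : T.Wd (i :: L ++ [j]) := Wd.append_iff.2 ⟨hiL, by simp [Wd, hjl]⟩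
  have hPj : T.rw' L (T.smp j) = P (T := T) L θ (T.smp i) := by rw [P, M.rmap.smp i hi]
  have c2 : (T.invSet (i :: L ++ [j])).card < (T.invSet (i :: L)).card := by
    have h2 : T.rw' (i :: L) (T.smp j) < T.N := by
      rw [rw'_cons, hPj]
      have hp' : T.N ≤ T.neg (P (T := T) L θ (T.smp i)) := (N_le_neg_iff hPn).2 hlt
      have h3 := hg.ref_pos hi (neg_lt hPn) hp' fun e => hne ((Tab.neg_neg hPn).symm.trans (congrArg T.neg e))
      rw [hg.ref_neg hi hPn] at h3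
      exact (N_le_neg_iff (hg.ref_lt hi hPn)).1 h3
    have hgr := invSet_grow hg hiLj hjl (by
      rw [rw'_append, rw'_cons (L := []), rw'_nil, hg.ref_smp hjl, rw'_neg hg hiL (hg.smp_lt hjl)]
      exact (N_le_neg_iff (rw'_lt hg hiL (hg.smp_lt hjl))).2 h2)
    have e : T.invSet (i :: L ++ [j] ++ [j]) = T.invSet (i :: L) := by
      ext s
      rw [invSet, invSet, Finset.mem_filter, Finset.mem_filter, Finset.mem_Ico]
      refine and_congr_right fun hs => ?_
      rw [List.append_assoc, rw'_append, List.singleton_append, rw'_cons (L := [j]),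
        rw'_cons (L := []), rw'_nil, hg.ref_ref hjl hs.2]
    rwa [e] at hgr
  obtain ⟨b, hb, b', hb', e⟩ := M.cell
  let z : ↥(T.D.group F) := ⟨nG hg F i, nG_mem_group hg i⟩ * (⟨b, borel_le_group hg hb⟩)⁻¹
  have hz : ((z * x * (α z)⁻¹ : ↥(T.D.group F)) : GL T.D.Idx F) =
      nWd hg F (i :: L) * (b' * α ⟨b, borel_le_group hg hb⟩) * (nG hg F j)⁻¹ *
        (hS T F j (μ (π ⟨i, hi⟩)))⁻¹ := by
    have hn := std_nG hg M.std ⟨i, hi⟩
    simp only [z, map_mul, map_inv, Subgroup.coe_mul, Subgroup.coe_inv, e, hn, mul_inv_rev, inv_inv,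
      nWd_cons, hj, pn_apply π hi]
    group
  have hbb : b' * (α ⟨b, borel_le_group hg hb⟩ : GL T.D.Idx F) ∈ T.D.borelSubgroup F :=
    mul_mem hb' (M.maps_B (b := ⟨b, borel_le_group hg hb⟩) hb)
  have hh : (hS T F j (μ (π ⟨i, hi⟩)))⁻¹ ∈ T.D.borelSubgroup F := by
    rw [hS_eq_tor]; exact inv_mem (torus_le_borel hg _)
  rcases cell_mul_nG g.toGoodA hiL hjl hbb with hcl | hcl
  · have := M.min z (i :: L) hiL (hz ▸ incell_mul_right hg hh hcl)
    omega
  · have := M.min z (i :: L ++ [j]) hiLj (hz ▸ incell_mul_right hg hh hcl)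
    omega

/-- the fundamental roots sent to their negatives -/
def J (T : Tab) (L : List ℕ) (θ : ℕ → ℕ) : Set ℕ :=
  {i | i < T.l ∧ P (T := T) L θ (T.smp i) = T.neg (T.smp i)}

omit [Finite F] in
open BTi in
theorem P_lin (M : Min g Ls x α π μ σ θ L) (hc : CartOK T π) {φ : ℕ → ℝ} (h : IsLin T φ) :
    IsLin T fun r => φ (P (T := T) L θ r) :=
  M.rmap.isLin hc (h.comp_rw' g.toGood M.wd)

theorem simple_out (M : Min g Ls x α π μ σ θ L) {i : ℕ} (hi : i < T.l) (hiJ : i ∉ J T L θ) :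
    T.N ≤ P (T := T) L θ (T.smp i) :=
  (M.simple hi).resolve_left fun e => hiJ ⟨hi, e⟩

open BTi in
theorem lev_smp_pos (g : T.GoodK K) (S : Set ℕ) {i : ℕ} (hi : i < T.l) (hiS : i ∉ S) :
    0 < T.lev K S (T.smp i) :=
  lev_outJ g (r := T.smp i) ⟨g.toGood.smp_ge hi, g.toGood.smp_lt hi, i, hi, hiS,
    by rw [c_smp g.toGood hi hi, if_pos rfl]; exact one_ne_zero⟩

open BTi in
theorem inP_neg' (M : Min g Ls x α π μ σ θ L) (hc : CartOK T π) {r : ℕ} (hr : r ∈ inP T (J T L θ)) :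
    P (T := T) L θ r < T.N := by
  have hg := g.toGood
  obtain ⟨B, hB⟩ := exists_bound hg ((M.P_lin hc (phi0_lin T K)).smul (-1)) (lev_isLin T K (J T L θ))
    fun i hi => by
      by_cases hiJ : i ∈ J T L θ
      · refine Or.inr ⟨?_, ?_⟩
        · show (0 : ℝ) ≤ -1 * phi0 T K (P (T := T) L θ (T.smp i))
          rw [hiJ.2]
          have := phi0_neg g ((neg_lt_N_iff (hg.smp_lt hi)).2 (hg.smp_ge hi))
          linarith
        · rw [lev_inJ g (smp_mem_inJ hg hi hiJ)]; norm_num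
      · refine Or.inl ?_
        exact_mod_cast lev_smp_pos g _ hi hiJ
  have h1 := hB r hr.1 hr.2.1
  rw [lev_inJ g hr.2] at h1
  push_cast at h1
  by_contra hge
  have := phi0_pos g (not_lt.1 hge) (M.P_lt hr.2.1)
  linarith

open BTi in
theorem lev_inP (M : Min g Ls x α π μ σ θ L) (hc : CartOK T π) {r : ℕ} (hr : r ∈ inP T (J T L θ)) :
    P (T := T) L θ r ∈ T.inJ (J T L θ) := by
  have hg := g.toGood
  set S := J T L θ with hS
  have hψ := M.P_lin hc (lev_isLin T K S)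
  obtain ⟨B, hB⟩ := exists_bound hg hψ (lev_isLin T K S) fun i hi => by
    by_cases hiJ : i ∈ S
    · refine Or.inr ⟨?_, ?_⟩
      · show (0 : ℝ) ≤ ((T.lev K S (P (T := T) L θ (T.smp i)) : ℤ) : ℝ)
        rw [hiJ.2, lev_inJ g (inJ_neg hg (smp_mem_inJ hg hi hiJ))]
        norm_num
      · rw [lev_inJ g (smp_mem_inJ hg hi hiJ)]; norm_num
    · refine Or.inl ?_
      exact_mod_cast lev_smp_pos g _ hi hiJ
  have h1 := hB r hr.1 hr.2.1
  rw [lev_inJ g hr.2] at h1
  push_cast at h1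
  have hn := M.P_lt hr.2.1
  have hlt := M.inP_neg' hc hr
  rcases outJ_or_inJ (J := S) ((N_le_neg_iff hn).2 hlt) (neg_lt hn) with ho | hin
  · exfalso
    have h2 := lev_outJ g ho
    have h3 := (lev_isLin T K S).neg hg hn
    have h4 : (0 : ℝ) < T.lev K S (T.neg (P (T := T) L θ r)) := by exact_mod_cast h2
    rw [h3] at h4
    linarith
  · have := inJ_neg hg hin
    rwa [Tab.neg_neg hn] at this

open BTi in
theorem out_mem (M : Min g Ls x α π μ σ θ L) (hc : CartOK T π) {r : ℕ} (hr : r ∈ T.outJ (J T L θ)) :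
    P (T := T) L θ r ∈ T.outJ (J T L θ) := by
  have hg := g.toGood
  set S := J T L θ with hS
  have hψ := M.P_lin hc (lev_isLin T K S)
  have hpos : ∀ i < T.l, i ∉ S → 0 < T.lev K S (P (T := T) L θ (T.smp i)) := by
    intro i hi hiJ
    rcases outJ_or_inJ (J := S) (M.simple_out hi hiJ) (M.P_lt (hg.smp_lt hi)) with ho | hin
    · exact lev_outJ g ho
    · exfalso
      have := M.inP_neg' hc (r := P (T := T) L θ (T.smp i)) ⟨M.simple_out hi hiJ, hin⟩
      rw [M.P_invol (hg.smp_lt hi)] at this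
      have := hg.smp_ge hi
      omega
  obtain ⟨B, hB⟩ := exists_bound hg ((lev_isLin T K S).smul (-1)) hψ fun i hi => by
    by_cases hiJ : i ∈ S
    · refine Or.inr ⟨?_, ?_⟩
      · rw [lev_inJ g (smp_mem_inJ hg hi hiJ)]; norm_num
      · rw [hiJ.2, lev_inJ g (inJ_neg hg (smp_mem_inJ hg hi hiJ))]; norm_num
    · exact Or.inl (by exact_mod_cast hpos i hi hiJ)
  have hd : Dom T fun s => (T.lev K S (P (T := T) L θ s) : ℝ) := dom_of_simple hg hψ fun i hi => by
    by_cases hiJ : i ∈ S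
    · rw [hiJ.2, lev_inJ g (inJ_neg hg (smp_mem_inJ hg hi hiJ))]; norm_num
    · exact_mod_cast (hpos i hi hiJ).le
  have h1 := hB r hr.1 hr.2.1
  have h2 : (0 : ℝ) < T.lev K S r := by exact_mod_cast lev_outJ g hr
  have h3 := hd r hr.1 hr.2.1
  have hne : (T.lev K S (P (T := T) L θ r) : ℝ) ≠ 0 := fun e => by
    simp only [e, mul_zero, add_zero] at h1
    linarith
  have hn := M.P_lt hr.2.1
  have hgt : (0 : ℝ) < T.lev K S (P (T := T) L θ r) := lt_of_le_of_ne h3 (Ne.symm hne)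
  have hN : T.N ≤ P (T := T) L θ r := by
    by_contra hlt
    have h5 := lev_nonneg g S ((N_le_neg_iff hn).2 (not_le.1 hlt)) (neg_lt hn)
    have h6 := (lev_isLin T K S).neg hg hn
    have h7 : (0 : ℝ) ≤ T.lev K S (T.neg (P (T := T) L θ r)) := by exact_mod_cast h5
    rw [h6] at h7
    linarith
  refine (outJ_or_inJ hN hn).resolve_right fun hin => ?_
  rw [lev_inJ g hin] at hgt
  norm_num at hgt

/-- the word of the cell acts as the longest word of `J` -/
theorem word_eq (M : Min g Ls x α π μ σ θ L) (hc : CartOK T π) {A : List ℕ}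
    (hA : ∀ i ∈ A, i < T.l ∧ i ∈ J T L θ)
    (hinv : ∀ i < T.l, i ∈ J T L θ → T.rw' A (T.smp i) < T.N) {r : ℕ} (hr : r < T.n) :
    T.rw' L r = T.rw' A r := by
  have hg := g.toGood
  have hAw : T.Wd A := fun i hi => (hA i hi).1
  have hM : T.Wd (A.reverse ++ L) := Wd.append_iff.2 ⟨hAw.reverse, M.wd⟩
  have hrev : ∀ i ∈ A.reverse, i < T.l ∧ i ∈ J T L θ := fun i hi => hA i (List.mem_reverse.1 hi)
  obtain ⟨-, hid⟩ := nWd_torus_of_pos (F := F) hg _ le_rfl hM fun s h1 h2 => by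
    have hs' := M.rmap.lt s h2
    have hp := (M.rmap.pos s h2).2 h1
    have e : T.rw' L s = P (T := T) L θ (θ s) := by rw [P, M.theta_invol h2]
    rw [rw'_append, e]
    rcases outJ_or_inJ (J := J T L θ) hp hs' with ho | hin
    · exact (wd_outJ g hrev (M.out_mem hc ho)).1
    · have h3 := M.inP_neg' hc ⟨hp, hin⟩
      have h4 := wd_inP g hrev (M.lev_inP hc ⟨hp, hin⟩)
      by_contra hlt
      have h5 := InvC.inP_neg g hA hinv
        (r := T.neg (T.rw' A.reverse (P (T := T) L θ (θ s))))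
        ⟨(N_le_neg_iff h4.1).2 (not_le.1 hlt), inJ_neg hg h4⟩
      rw [rw'_neg hg hAw h4.1, rw'_rev' hg hAw (M.P_lt hs'), neg_lt_N_iff (M.P_lt hs')] at h5
      omega
  have := hid r hr
  rw [rw'_append] at this
  have e := congrArg (T.rw' A) this
  rwa [rw'_rev' hg hAw (rw'_lt hg M.wd hr)] at e

/-- `π` stabilises `J` -/
theorem pn_mem_J (M : Min g Ls x α π μ σ θ L) (hc : CartOK T π) {i : ℕ} (hi : i ∈ J T L θ) :
    pn π i ∈ J T L θ := by
  have hg := g.toGood
  obtain ⟨A, hA, hinv⟩ := exists_inv_word hg (J T L θ)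
  have hAw : T.Wd A := fun i hi => (hA i hi).1
  have hj := pn_lt π hi.1
  have e : T.rw' A (T.smp (pn π i)) = T.neg (T.smp i) := by
    rw [← M.word_eq hc hA hinv (hg.smp_lt hj)]
    exact (congrArg (T.rw' L) (M.rmap.smp i hi.1).symm).trans hi.2
  have h1 := wd_inP g (A := A.reverse) (fun j hj => hA j (List.mem_reverse.1 hj))
    (inJ_neg hg (smp_mem_inJ hg hi.1 hi))
  rw [← e, rw'_rev hg hAw (hg.smp_lt hj)] at h1
  by_contra hne
  have := h1.2 _ hj hne
  rw [c_smp hg hj hj, if_pos rfl] at this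
  exact one_ne_zero this

end Min

end Cfsg.Agent.InvRankP.Exc
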