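import Cfsg.Agent.Lib.InvRankP.ExcDescent

/-!
# A monomial representative in the cell of least length
-/

set_option autoImplicit false
set_option linter.style.haveILetI false

namespace Cfsg.Agent.InvRankP.Exc

open Cfsg.Lie Cfsg.Agent.Chev Cfsg.Agent.Chev.Tab Cfsg.Agent.Chev.Tab.InvC Cfsg.Agent.ChevAut

variable {T : Tab} {K : List (List ℕ)} {Ls : List Bool} {F : Type*} [Field F]

/-- an element normalising `U`, `V` after an automorphism of that kind is again in the torus -/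
theorem image_torus [Finite F] (g : T.GoodK K) {α : MulAut ↥(T.D.group F)}
    (hα : α ∈ normAut g.toGood F) {y : ↥(T.D.group F)} {c : ℕ → Fˣ}
    (hy : (y : GL T.D.Idx F) = tor T F c) : ∃ d : ℕ → Fˣ, (α y : GL T.D.Idx F) = tor T F d := by
  refine conj_mem_normAut g ?_
  have e : MulAut.conj (α y) = α * MulAut.conj y * α⁻¹ := by
    ext w
    simp only [MulAut.mul_apply, MulAut.conj_apply, map_mul, map_inv α, MulAut.inv_def,
      MulEquiv.apply_symm_apply]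
  rw [e]
  exact mul_mem (mul_mem hα ((tor_std g.toGood ([] : List Bool) hy).mem g)) (inv_mem hα)

namespace Min

variable {g : T.GoodK K} {x : ↥(T.D.group F)} {α : MulAut ↥(T.D.group F)}
  {π : Equiv.Perm (Fin T.l)} {μ : Fin T.l → Fˣ} {σ : F ≃+* F} {θ : ℕ → ℕ} {L : List ℕ}

/-- a conjugate in the same cell is again of least length -/
theorem twist (M : Min g Ls x α π μ σ θ L) (z : ↥(T.D.group F))
    (hc : InCell g.toGood F ((z * x * (α z)⁻¹ : ↥(T.D.group F)) : GL T.D.Idx F) L) :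
    Min g Ls (z * x * (α z)⁻¹) α π μ σ θ L where
  std := M.std
  rmap := M.rmap
  sq := by
    rw [← conj_twist]
    calc MulAut.conj z * (MulAut.conj x * α) * (MulAut.conj z)⁻¹ *
        (MulAut.conj z * (MulAut.conj x * α) * (MulAut.conj z)⁻¹)
        = MulAut.conj z * (MulAut.conj x * α * (MulAut.conj x * α)) * (MulAut.conj z)⁻¹ := by group
      _ = 1 := by rw [M.sq, mul_one, mul_inv_cancel]
  wd := M.wd
  cell := hc
  min := fun w L' hL' h' => M.min (w * z) L' hL' (by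
    rw [show w * z * x * (α (w * z))⁻¹ = w * (z * x * (α z)⁻¹) * (α w)⁻¹ by
      rw [map_mul, mul_inv_rev]; group]
    exact h')

variable [Fintype F]

/-- a conjugate of least length which is monomial -/
theorem exists_monomial (M : Min g Ls x α π μ σ θ L) (p : ℕ) [Fact p.Prime] [CharP F p] (hp : p ≠ 2) :
    ∃ (w m : ↥(T.D.group F)) (c : ℕ → Fˣ), Min g Ls m α π μ σ θ L ∧
      (m : GL T.D.Idx F) = tor T F c * nWd g.toGood F L ∧
      MulAut.conj w * (MulAut.conj x * α) * (MulAut.conj w)⁻¹ = MulAut.conj m * α := by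
  have hg := g.toGood
  obtain ⟨b, hb, b', hb', e⟩ := M.cell
  let bG : ↥(T.D.group F) := ⟨b, borel_le_group hg hb⟩
  obtain ⟨v, hv, e₀, hve⟩ := (mem_borel_iff hg).1 (mul_mem hb' (M.maps_B (b := bG) hb))
  obtain ⟨e', he'⟩ := wSub_conj_torus hg (nWd_mem_wSub (F := F) hg M.wd) e₀
  set x' : ↥(T.D.group F) := bG⁻¹ * x * (α bG⁻¹)⁻¹ with hx'
  let u₀ : GL T.D.Idx F := (tor T F e₀)⁻¹ * v * tor T F e₀
  have hu₀ : u₀ ∈ genS hg F (Set.Ico T.N T.n) := by
    have := (Subgroup.mem_normalizer_iff.1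
      (inv_mem (tor_normalizes (F := F) hg (S := Set.Ico T.N T.n) (fun r hr => hr.2) e₀)) v).1 hv
    rwa [inv_inv] at this
  let u : ↥(T.D.group F) := ⟨u₀, posU_le_group hg hu₀⟩
  let m : ↥(T.D.group F) :=
    ⟨tor T F e' * nWd hg F L, mul_mem (tor_mem_group hg e') (nWd_mem_group hg M.wd)⟩
  have hx'm : x' = m * u := by
    refine Subtype.ext ?_
    simp only [hx', map_inv, inv_inv, Subgroup.coe_mul, Subgroup.coe_inv, e, bG, m, u, u₀, ← he']
    rw [show b⁻¹ * (b * nWd hg F L * b') * (α ⟨b, borel_le_group hg hb⟩ : GL T.D.Idx F) =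
      nWd hg F L * (b' * (α ⟨b, borel_le_group hg hb⟩ : GL T.D.Idx F)) by group, hve]
    group
  have M' : Min g Ls x' α π μ σ θ L := M.twist bG⁻¹ (by
    rw [← hx', hx'm]
    exact ⟨tor T F e', torus_le_borel hg e', u₀, genS_pos_le_borel hg (fun r hr => hr) hu₀, rfl⟩)
  obtain ⟨c₀, hc₀, -⟩ := M'.torus
  -- `m α(m)` lies in the torus
  obtain ⟨d, hd⟩ : ∃ d : ℕ → Fˣ, ((m * α m : ↥(T.D.group F)) : GL T.D.Idx F) = tor T F d := by
    obtain ⟨d₁, h₁⟩ := image_torus g M.norm (y := ⟨tor T F e', tor_mem_group hg e'⟩) rfl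
    obtain ⟨d₂, h₂⟩ := std_nWd (g := hg) M.std M.wd
    obtain ⟨d₃, h₃⟩ := wSub_conj_torus hg (nWd_mem_wSub (F := F) hg M.wd) (d₁ * d₂)
    obtain ⟨⟨d₄, h₄⟩, -⟩ := nWd_torus_of_pos (F := F) hg _ le_rfl
      (Wd.append_iff.2 ⟨M.wd, wd_map π M.wd⟩) (fun s h1 h2 => by
        rwa [rw'_append, M.word_map h2, rw'_rev' hg M.wd h2])
    refine ⟨e' * d₃ * d₄, ?_⟩
    rw [show m = ⟨tor T F e', tor_mem_group hg e'⟩ * ⟨nWd hg F L, nWd_mem_group hg M.wd⟩ from rfl,
      map_mul, Subgroup.coe_mul, Subgroup.coe_mul, Subgroup.coe_mul, h₁, h₂, map_mul, map_mul, ← h₃,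
      ← h₄, nWd_append, map_mul]
    group
  have hUB : ∀ {y : GL T.D.Idx F}, y ∈ genS hg F (Set.Ico T.N T.n) → y ∈ T.D.borelSubgroup F :=
    fun hy => genS_pos_le_borel hg (fun r hr => hr) hy
  obtain ⟨k, hk⟩ := posU_isPGroup hg p ⟨u₀, hu₀⟩
  have hk' : u ^ p ^ k = 1 := Subtype.ext (by simpa [u] using congrArg Subtype.val hk)
  set u' := m * u * m⁻¹ with hu'
  have hu'p : u' ^ p ^ k = 1 := by rw [hu', conj_pow, hk', mul_one, mul_inv_cancel]
  have hαu : (α u : GL T.D.Idx F) ∈ T.D.borelSubgroup F := M.maps_B (b := u) (hUB hu₀)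
  have e1 : u' = x' * α x' * (α u)⁻¹ * (m * α m)⁻¹ := by
    rw [hu', hx'm, map_mul, mul_inv_rev]; group
  have hu'B : (u' : GL T.D.Idx F) ∈ T.D.borelSubgroup F := by
    rw [e1]
    simp only [Subgroup.coe_mul, Subgroup.coe_inv] at hc₀ hd ⊢
    rw [hc₀, hd]
    exact mul_mem (mul_mem (torus_le_borel hg _) (inv_mem hαu)) (inv_mem (torus_le_borel hg _))
  have hu'U : (u' : GL T.D.Idx F) ∈ genS hg F (Set.Ico T.N T.n) :=
    mem_posU_of_borel hg p hu'B (k := k) (by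
      rw [← Subgroup.coe_pow, hu'p]; rfl)
  set ν := MulAut.conj m * α with hν
  have e2 : u' * ν u' = x' * α x' * (m * α m)⁻¹ := by
    rw [hν, hx'm, MulAut.mul_apply, MulAut.conj_apply, hu', map_mul α, map_mul α, map_inv,
      mul_inv_rev]
    group
  have e3 : u' * ν u' = 1 := by
    obtain ⟨c₁, hc₁⟩ : ∃ c₁ : ℕ → Fˣ, ((u' * ν u' : ↥(T.D.group F)) : GL T.D.Idx F) = tor T F c₁ := by
      refine ⟨c₀ * d⁻¹, ?_⟩
      rw [e2]
      simp only [Subgroup.coe_mul, Subgroup.coe_inv] at hc₀ hd ⊢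
      rw [hc₀, hd, map_mul, map_inv]
    have hνB : (ν u' : GL T.D.Idx F) ∈ T.D.borelSubgroup F := by
      rw [show ν u' = u'⁻¹ * (u' * ν u') by group, Subgroup.coe_mul, Subgroup.coe_inv, hc₁]
      exact mul_mem (inv_mem hu'B) (torus_le_borel hg _)
    have hνU := mem_posU_of_borel hg p hνB (k := k) (by
      rw [← Subgroup.coe_pow, ← map_pow, hu'p, map_one]; rfl)
    refine Subtype.ext (pos_inf_torus hg ?_ ?_)
    · rw [Subgroup.coe_mul]; exact mul_mem hu'U hνU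
    · rw [hc₁, diagonalSubgroup_eq hg]; exact ⟨c₁, rfl⟩
  set y := u' ^ ((p ^ k + 1) / 2) with hy
  have hyy : y * y = u' := by
    have hodd : Odd (p ^ k) := ((Fact.out : p.Prime).odd_of_ne_two hp).pow
    obtain ⟨a, ha⟩ := hodd
    rw [hy, ← pow_add, show (p ^ k + 1) / 2 + (p ^ k + 1) / 2 = p ^ k + 1 by omega, pow_succ, hu'p,
      one_mul]
  have hνy : m * α y * m⁻¹ = y⁻¹ := by
    have : ν y = y⁻¹ := by
      rw [hy, map_pow, eq_inv_of_mul_eq_one_right e3, inv_pow]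
    rwa [hν, MulAut.mul_apply, MulAut.conj_apply] at this
  have hαy : α y = m⁻¹ * y⁻¹ * m := by rw [← hνy]; group
  have hfin : y⁻¹ * x' * (α y⁻¹)⁻¹ = m := by
    rw [map_inv, inv_inv, hαy, hx'm, show m * u = u' * m by rw [hu']; group, ← hyy]
    group
  refine ⟨y⁻¹ * bG⁻¹, m, e', ?_, rfl, ?_⟩
  · have := M'.twist y⁻¹ (by
      rw [hfin]
      exact ⟨tor T F e', torus_le_borel hg e', 1, one_mem _, by simp [m]⟩)
    rwa [hfin] at this
  · rw [map_mul, show MulAut.conj y⁻¹ * MulAut.conj bG⁻¹ * (MulAut.conj x * α) *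
      (MulAut.conj y⁻¹ * MulAut.conj bG⁻¹)⁻¹ = MulAut.conj y⁻¹ *
      (MulAut.conj bG⁻¹ * (MulAut.conj x * α) * (MulAut.conj bG⁻¹)⁻¹) * (MulAut.conj y⁻¹)⁻¹ by group,
      conj_twist, ← hx', conj_twist, hfin]

end Min

end Cfsg.Agent.InvRankP.Exc
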