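import Cfsg.Agent.Lib.ChevAut.AutTypes
import Cfsg.Agent.Lib.ChevAut.AutGroup
import Cfsg.Agent.Lib.Lie.InvCell

/-!
# The root map of an automorphism fixing `U` and `V`
-/

set_option autoImplicit false
set_option linter.style.haveILetI false

namespace Cfsg.Agent.InvRankP.Exc

open Cfsg.Lie Cfsg.Agent.Chev Cfsg.Agent.Chev.Tab Cfsg.Agent.ChevAut

variable {T : Tab} {K : List (List ℕ)} {Ls : List Bool} {F : Type*} [Field F]

/-- a permutation of the nodes as a function on numbers -/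
def pn (π : Equiv.Perm (Fin T.l)) (i : ℕ) : ℕ := if h : i < T.l then (π ⟨i, h⟩ : ℕ) else i

theorem pn_apply (π : Equiv.Perm (Fin T.l)) {i : ℕ} (hi : i < T.l) : pn π i = π ⟨i, hi⟩ := dif_pos hi

theorem pn_lt (π : Equiv.Perm (Fin T.l)) {i : ℕ} (hi : i < T.l) : pn π i < T.l := by
  rw [pn_apply π hi]; exact (π _).2

theorem wd_map (π : Equiv.Perm (Fin T.l)) {L : List ℕ} (hL : T.Wd L) : T.Wd (L.map (pn π)) := by
  intro i hi
  obtain ⟨j, hj, rfl⟩ := List.mem_map.1 hi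
  exact pn_lt π (hL j hj)

/-- `α` maps the root groups by `θ`, compatibly with the permutation `π` of the nodes -/
structure RMap (g : T.Good) (α : MulAut ↥(T.D.group F)) (π : Equiv.Perm (Fin T.l)) (θ : ℕ → ℕ) :
    Prop where
  lt : ∀ r < T.n, θ r < T.n
  pos : ∀ r < T.n, (T.N ≤ θ r ↔ T.N ≤ r)
  neg : ∀ r < T.n, θ (T.neg r) = T.neg (θ r)
  smp : ∀ i, i < T.l → θ (T.smp i) = T.smp (pn π i)
  ref : ∀ i, i < T.l → ∀ r < T.n, θ (T.ref i r) = T.ref (pn π i) (θ r)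
  maps : ∀ r < T.n, ∀ t, ∃ u, α (xe g r t) = xe g (θ r) u

/-- a root group is sent into one root group only -/
theorem image_unique (g : T.Good) {α : MulAut ↥(T.D.group F)} {r s s' : ℕ} (hr : r < T.n)
    (hs : s < T.n) (hs' : s' < T.n) {u u' : F} (h : α (xe g r 1) = xe g s u)
    (h' : α (xe g r 1) = xe g s' u') : s = s' := by
  by_cases hu : u = 0
  · exfalso
    subst hu
    have e : xe g s (0 : F) = 1 := Subtype.ext (xg_zero g s)
    rw [e] at h
    have e2 : xe g r (1 : F) = 1 := α.injective (h.trans (map_one α).symm)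
    exact one_ne_zero (xg_injective g hr ((congrArg Subtype.val e2).trans (xg_zero g r).symm))
  · exact xg_root_eq g hs hs' hu (congrArg Subtype.val (h.symm.trans h'))

/-- the image of `n_i` -/
theorem std_nG [Finite F] (g : T.Good) {α : MulAut ↥(T.D.group F)} {π : Equiv.Perm (Fin T.l)}
    {μ : Fin T.l → Fˣ} {σ : F ≃+* F} (h : Std g Ls α π μ σ) (i : Fin T.l) :
    (α ⟨nG g F i, nG_mem_group g i⟩ : GL T.D.Idx F) = hS T F (π i) (μ (π i)) * nG g F (π i) := by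
  let n : ↥(T.D.group F) :=
    xe g (T.smp i) 1 * xe g (T.neg (T.smp i)) (-1) * xe g (T.smp i) 1
  rw [show (⟨nG g F i, nG_mem_group g i⟩ : ↥(T.D.group F)) = n from Subtype.ext rfl]
  obtain ⟨p, hp⟩ := CharP.exists F
  haveI : Fact p.Prime :=
    ⟨(CharP.char_is_prime_or_zero F p).resolve_right (CharP.char_ne_zero_of_finite F p)⟩
  have he : ((-1 : F)) ^ exC F Ls π i = -1 := by
    rw [exC, ringChar.eq F p]
    split
    · exact neg_one_pow_char F p
    · exact pow_one _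
  have a1 : α (xe g (T.smp i) 1) = xe g (T.smp (π i)) (μ (π i) : F) :=
    ((h i 1).1).trans (by rw [one_pow, map_one, mul_one])
  have a2 : α (xe g (T.neg (T.smp i)) (-1)) = xe g (T.neg (T.smp (π i))) (-(μ (π i) : F)⁻¹) :=
    ((h i (-1)).2).trans (by rw [he, map_neg, map_one, mul_neg_one, Units.val_inv_eq_inv_val])
  simp only [n, map_mul, a1, a2, Subgroup.coe_mul, coe_xe]
  exact nE_simple g (π i).2 (μ (π i))

/-- the sign of a reflection as a unit -/
def etaU (T : Tab) (F : Type*) [Field F] (i s : ℕ) : Fˣ :=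
  ⟨(T.eta i s : F), (T.eta i s : F), eta_sq T i s, eta_sq T i s⟩

/-- one step of the recursion for the root map -/
theorem ref_step [Finite F] (g : T.Good) {α : MulAut ↥(T.D.group F)} {π : Equiv.Perm (Fin T.l)}
    {μ : Fin T.l → Fˣ} {σ : F ≃+* F} (h : Std g Ls α π μ σ) {i : ℕ} (hi : i < T.l) {s s' : ℕ}
    (hs : s < T.n) (hs' : s' < T.n) {t u : F} (hu : α (xe g s ((T.eta i s : F) * t)) = xe g s' u) :
    α (xe g (T.ref i s) t) = xe g (T.ref (pn π i) s')
      (((wt T F (Pi.mulSingle (pn π i) (μ (π ⟨i, hi⟩))) (T.ref (pn π i) s') *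
          etaU T F (pn π i) s' : Fˣ) : F) * u) := by
  have hn := std_nG g h ⟨i, hi⟩
  rw [pn_apply π hi]
  refine Subtype.ext ?_
  have e : xe g (T.ref i s) t = ⟨nG g F i, nG_mem_group g i⟩ * xe g s ((T.eta i s : F) * t) *
      ⟨nG g F i, nG_mem_group g i⟩⁻¹ := Subtype.ext (by
    simp only [Subgroup.coe_mul, Subgroup.coe_inv, coe_xe]
    rw [nG_conj g hi hs, ← mul_assoc, eta_sq, one_mul])
  rw [e, map_mul, map_mul, map_inv, hu]
  simp only [Subgroup.coe_mul, Subgroup.coe_inv, coe_xe] at hn ⊢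
  rw [hn, show ∀ a b x : GL T.D.Idx F, a * b * x * (a * b)⁻¹ = a * (b * x * b⁻¹) * a⁻¹ from
    fun a b x => by group, nG_conj g (π ⟨i, hi⟩).2 hs', hS,
    tor_xg g _ (g.ref_lt (π ⟨i, hi⟩).2 hs')]
  simp only [Units.val_mul, etaU, mul_assoc]

/-- an automorphism of standard shape has a root map; it is semilinear on each root group when no
special exponent occurs -/
theorem exists_rmap [Finite F] (g : T.Good) {α : MulAut ↥(T.D.group F)}
    {π : Equiv.Perm (Fin T.l)} {μ : Fin T.l → Fˣ} {σ : F ≃+* F} (h : Std g Ls α π μ σ) :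
    ∃ θ, RMap g α π θ ∧ ((∀ i, exC F Ls π i = 1) →
      ∀ r < T.n, ∃ k : Fˣ, ∀ t, α (xe g r t) = xe g (θ r) ((k : F) * σ t)) := by
  let M : ℕ → ℕ → Prop := fun r r' =>
    r' < T.n ∧ (∀ t : F, ∃ u, α (xe g r t) = xe g r' u) ∧
      ((∀ i, exC F Ls π i = 1) → ∃ k : Fˣ, ∀ t : F, α (xe g r t) = xe g r' ((k : F) * σ t))
  have step : ∀ i < T.l, ∀ s s', s < T.n → M s s' → M (T.ref i s) (T.ref (pn π i) s') := by
    intro i hi s s' hs hM
    obtain ⟨hs', hm, hl⟩ := hM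
    refine ⟨g.ref_lt (pn_lt π hi) hs', fun t => ?_, fun he => ?_⟩
    · obtain ⟨u, hu⟩ := hm ((T.eta i s : F) * t)
      exact ⟨_, ref_step g h hi hs hs' hu⟩
    · obtain ⟨k, hk⟩ := hl he
      refine ⟨wt T F (Pi.mulSingle (pn π i) (μ (π ⟨i, hi⟩))) (T.ref (pn π i) s') *
        etaU T F (pn π i) s' * k * etaU T F i s, fun t => ?_⟩
      rw [ref_step g h hi hs hs' (hk ((T.eta i s : F) * t)), map_mul, map_intCast]
      congr 1
      simp only [Units.val_mul, etaU]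
      ring
  have key : ∀ r, T.N ≤ r → r < T.n → ∃ r', T.N ≤ r' ∧ M r r' ∧ M (T.neg r) (T.neg r') := by
    intro r
    induction r using Nat.strong_induction_on with
    | _ r ih =>
      intro hN hr
      rcases exists_descent g hr hN with ⟨i, hi, rfl⟩ | ⟨i, hi, h2, h1, -⟩
      · refine ⟨_, g.smp_ge (π ⟨i, hi⟩).2, ⟨g.smp_lt (π ⟨i, hi⟩).2,
          fun t => ⟨_, (h ⟨i, hi⟩ t).1⟩, fun he => ⟨μ (π ⟨i, hi⟩), fun t => ?_⟩⟩,
          neg_lt (g.smp_lt (π ⟨i, hi⟩).2), fun t => ⟨_, (h ⟨i, hi⟩ t).2⟩,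
          fun he => ⟨(μ (π ⟨i, hi⟩))⁻¹, fun t => ?_⟩⟩
        · have := (h ⟨i, hi⟩ t).1
          rwa [he, pow_one] at this
        · have := (h ⟨i, hi⟩ t).2
          rwa [he, pow_one] at this
      have hu := g.ref_lt hi hr
      obtain ⟨r', hN', hM, hM'⟩ := ih _ h1 h2 hu
      have hne : r' ≠ T.smp (pn π i) := by
        intro e
        obtain ⟨v, hv⟩ := hM.2.1 1
        obtain ⟨s, hs, -⟩ := h.surj ⟨i, hi⟩ v
        rw [e, pn_apply π hi] at hv
        have e2 := α.injective (hv.trans hs.symm)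
        have e3 := xg_root_eq g hu (g.smp_lt hi) one_ne_zero (congrArg Subtype.val e2)
        have := g.ref_ref hi hr
        rw [e3, g.ref_smp hi] at this
        have := (neg_lt_N_iff (g.smp_lt hi)).2 (g.smp_ge hi)
        omega
      refine ⟨T.ref (pn π i) r', g.ref_pos (pn_lt π hi) hM.1 hN' hne, ?_, ?_⟩
      · have := step i hi _ _ hu hM
        rwa [g.ref_ref hi hr] at this
      · have := step i hi _ _ (neg_lt hu) hM'
        rwa [g.ref_neg hi hu, g.ref_ref hi hr, g.ref_neg (pn_lt π hi) hM.1] at this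
  have ex : ∀ r, r < T.n → ∃ r', M r r' ∧ (T.N ≤ r' ↔ T.N ≤ r) := by
    intro r hr
    by_cases hN : T.N ≤ r
    · obtain ⟨r', hN', hM, -⟩ := key r hN hr
      exact ⟨r', hM, iff_of_true hN' hN⟩
    · obtain ⟨r', hN', hM0, hM⟩ := key (T.neg r) ((N_le_neg_iff hr).2 (not_le.1 hN)) (neg_lt hr)
      rw [Tab.neg_neg hr] at hM
      exact ⟨T.neg r', hM, iff_of_false (not_le.2 ((neg_lt_N_iff hM0.1).2 hN')) hN⟩
  choose θ hθ hθp using ex
  have uniq : ∀ r (hr : r < T.n) r', M r r' → θ r hr = r' := fun r hr r' hM => by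
    obtain ⟨u, hu⟩ := (hθ r hr).2.1 1
    obtain ⟨u', hu'⟩ := hM.2.1 1
    exact image_unique g hr (hθ r hr).1 hM.1 hu hu'
  refine ⟨fun r => if hr : r < T.n then θ r hr else r, ?_, fun he r hr => ?_⟩
  swap
  · simp only [dif_pos hr]
    exact (hθ r hr).2.2 he
  constructor
  · intro r hr
    simp only [dif_pos hr]
    exact (hθ r hr).1
  · intro r hr
    simp only [dif_pos hr]
    exact hθp r hr
  · intro r hr
    simp only [dif_pos hr, dif_pos (neg_lt hr)]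
    refine uniq _ _ _ ?_
    by_cases hN : T.N ≤ r
    · obtain ⟨r', -, hM, hM'⟩ := key r hN hr
      rwa [uniq r hr r' hM]
    · obtain ⟨r', -, hM, hM'⟩ := key (T.neg r) ((N_le_neg_iff hr).2 (not_le.1 hN)) (neg_lt hr)
      rw [Tab.neg_neg hr] at hM'
      rw [uniq r hr _ hM', Tab.neg_neg hM.1]
      exact hM
  · intro i hi
    simp only [dif_pos (g.smp_lt hi)]
    refine uniq _ _ _ ?_
    rw [pn_apply π hi]
    exact ⟨g.smp_lt (π ⟨i, hi⟩).2, fun t => ⟨_, (h ⟨i, hi⟩ t).1⟩, fun he => ⟨μ (π ⟨i, hi⟩), fun t => by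
      have := (h ⟨i, hi⟩ t).1
      rwa [he, pow_one] at this⟩⟩
  · intro i hi r hr
    simp only [dif_pos hr, dif_pos (g.ref_lt hi hr)]
    exact uniq _ _ _ (step i hi r _ hr (hθ r hr))
  · intro r hr t
    simp only [dif_pos hr]
    exact (hθ r hr).2.1 t

variable {g : T.Good} {α : MulAut ↥(T.D.group F)} {π : Equiv.Perm (Fin T.l)} {θ : ℕ → ℕ}

theorem RMap.word (hm : RMap g α π θ) : ∀ {L : List ℕ}, T.Wd L → ∀ {r : ℕ}, r < T.n →
    θ (T.rw' L r) = T.rw' (L.map (pn π)) (θ r)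
  | [], _, r, _ => rfl
  | i :: L, hL, r, hr => by
    obtain ⟨hi, hL'⟩ := Wd.cons_iff.1 hL
    rw [rw'_cons, hm.ref i hi _ (rw'_lt g hL' hr), RMap.word hm hL' hr, List.map_cons, rw'_cons]

theorem nWd_mem_group (g : T.Good) {L : List ℕ} (hL : T.Wd L) : nWd g F L ∈ T.D.group F :=
  monomial_le_group g ((mem_monomial_iff g).2 ⟨L, hL, 1, by simp⟩)

theorem std_nWd [Finite F] {μ : Fin T.l → Fˣ} {σ : F ≃+* F} (h : Std g Ls α π μ σ) :
    ∀ {L : List ℕ} (hL : T.Wd L), ∃ c : ℕ → Fˣ,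
      (α ⟨nWd g F L, nWd_mem_group g hL⟩ : GL T.D.Idx F) = tor T F c * nWd g F (L.map (pn π))
  | [], hL => ⟨1, by
      rw [show (⟨nWd g F [], nWd_mem_group g hL⟩ : ↥(T.D.group F)) = 1 from Subtype.ext (nWd_nil g),
        map_one, map_one, List.map_nil, nWd_nil, one_mul]
      rfl⟩
  | i :: L, hL => by
    obtain ⟨hi, hL'⟩ := Wd.cons_iff.1 hL
    obtain ⟨c, hc⟩ := std_nWd h hL'
    obtain ⟨e, he⟩ := wSub_conj_torus g (nG_mem_wSub (F := F) g (π ⟨i, hi⟩).2) c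
    refine ⟨Pi.mulSingle (π ⟨i, hi⟩ : ℕ) (μ (π ⟨i, hi⟩)) * e, ?_⟩
    rw [show (⟨nWd g F (i :: L), nWd_mem_group g hL⟩ : ↥(T.D.group F)) =
      ⟨nG g F i, nG_mem_group g i⟩ * ⟨nWd g F L, nWd_mem_group g hL'⟩ from
        Subtype.ext (nWd_cons g i L), map_mul, Subgroup.coe_mul, std_nG g h ⟨i, hi⟩, hc, List.map_cons,
      pn_apply π hi, nWd_cons, map_mul, ← he, hS_eq_tor]
    group

/-- the permutation of the nodes preserves the Cartan integers -/
def CartOK (T : Tab) (π : Equiv.Perm (Fin T.l)) : Prop :=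
  ∀ i j : Fin T.l, T.A (π i) (T.smp (π j)) = T.A i (T.smp j)

theorem RMap.cartan (hm : RMap g α π θ) (hc : CartOK T π) {r : ℕ} (hr : r < T.n) {j : ℕ}
    (hj : j < T.l) : T.A (pn π j) (θ r) = T.A j r := by
  have key : ∀ r, T.N ≤ r → r < T.n → ∀ j < T.l, T.A (pn π j) (θ r) = T.A j r := by
    intro r
    induction r using Nat.strong_induction_on with
    | _ r ih =>
      intro hN hr j hj
      rcases exists_descent g hr hN with ⟨i, hi, rfl⟩ | ⟨i, hi, h2, h1, -⟩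
      · rw [hm.smp i hi, pn_apply π hi, pn_apply π hj]
        exact hc ⟨j, hj⟩ ⟨i, hi⟩
      · have hu := g.ref_lt hi hr
        rw [← g.ref_ref hi hr, hm.ref i hi _ hu, A_ref g (pn_lt π hi) (pn_lt π hj) (hm.lt _ hu),
          A_ref g hi hj hu, ih _ h1 h2 hu j hj, ih _ h1 h2 hu i hi, pn_apply π hi, pn_apply π hj,
          hc ⟨j, hj⟩ ⟨i, hi⟩]
  by_cases hN : T.N ≤ r
  · exact key r hN hr j hj
  · have h' := key (T.neg r) ((N_le_neg_iff hr).2 (not_le.1 hN)) (neg_lt hr) j hj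
    rw [hm.neg r hr, ((g.sign' (hm.lt r hr)).1 _ (pn_lt π hj)).2.2.2,
      ((g.sign' hr).1 j hj).2.2.2] at h'
    omega

theorem RMap.isLin (hm : RMap g α π θ) (hc : CartOK T π) {φ : ℕ → ℝ} (h : BTi.IsLin T φ) :
    BTi.IsLin T fun r => φ (θ r) := by
  obtain ⟨y, hy⟩ := h
  refine ⟨fun j => y (pn π j), fun r hr => ?_⟩
  show φ (θ r) = _
  rw [hy _ (hm.lt r hr), BTi.lin, BTi.lin, Finset.sum_range, Finset.sum_range,
    ← Equiv.sum_comp π fun j : Fin T.l => y j * (T.A j (θ r) : ℝ)]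
  refine Finset.sum_congr rfl fun j _ => ?_
  rw [pn_apply π j.2, ← hm.cartan hc hr j.2, pn_apply π j.2]

/-- composition of root maps of an automorphism and its square -/
theorem RMap.sq_eq (hm : RMap g α π θ) {r : ℕ} (hr : r < T.n) {u : F}
    (h : α (α (xe g r 1)) = xe g r u) : θ (θ r) = r := by
  obtain ⟨v, hv⟩ := hm.maps r hr 1
  obtain ⟨w, hw⟩ := hm.maps _ (hm.lt r hr) v
  exact image_unique (α := α * α) g hr (hm.lt _ (hm.lt r hr)) hr
    (u := w) (by rw [MulAut.mul_apply, hv, hw]) (by rw [MulAut.mul_apply, h])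

end Cfsg.Agent.InvRankP.Exc
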