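import Cfsg.Agent.Lib.InvRankP.ExcCheck
import Cfsg.Agent.Lib.ChevAut.AutTypes

/-!
# The untwisted exceptional groups
-/

set_option autoImplicit false
set_option maxRecDepth 20000
set_option linter.style.haveILetI false

namespace Cfsg.Agent.InvRankP

namespace Exc

open Cfsg.Lie Cfsg.Agent.Chev Cfsg.Agent.Chev.Tab Cfsg.Agent.Chev.Tab.InvC Cfsg.Agent.ChevAut

variable {T : Tab} {K : List (List ℕ)} {Ls : List Bool} {F : Type*} [Field F]

/-- the Cartan integers and the root lengths are preserved -/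
def symOK (T : Tab) (Ls : List Bool) (q : List ℕ) : Bool :=
  allBelow (fun i => !expFlag Ls i (q.getD i 0) &&
    allBelow (fun j => T.A (q.getD i 0) (T.smp (q.getD j 0)) == T.A i (T.smp j)) T.l) T.l

theorem symOK_spec {π : Equiv.Perm (Fin T.l)} (h : symOK T Ls (permList π T.l) = true) :
    CartOK T π ∧ ∀ i : Fin T.l, exC F Ls π i = 1 := by
  have hq : ∀ i : Fin T.l, (permList π T.l).getD i 0 = (π i : ℕ) := fun i => by
    simp [permList, List.getD_eq_getElem?_getD, i.2]
  simp only [symOK, allBelow_eq_true, Bool.and_eq_true, Bool.not_eq_true', beq_iff_eq] at h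
  refine ⟨fun i j => ?_, fun i => ?_⟩
  · have := (h i i.2).2 j j.2
    rwa [hq, hq] at this
  · have := (h i i.2).1
    rw [hq] at this
    rw [exC, if_neg (by simp [this])]

/-- the generic reduction -/
theorem twoFix_of_min [Finite F] (h : AutOK T K Ls) (p : ℕ) [Fact p.Prime] [CharP F p] (hp : p ≠ 2)
    {φ : MulAut ↥(T.D.group F)} (hφ : φ * φ = 1)
    (hcase : ∀ (m : ↥(T.D.group F)) (α : MulAut ↥(T.D.group F)) (π : Equiv.Perm (Fin T.l))
      (μ : Fin T.l → Fˣ) (σ : F ≃+* F) (θ : ℕ → ℕ) (L : List ℕ) (c : ℕ → Fˣ),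
      Min h.good Ls m α π μ σ θ L → (m : GL T.D.Idx F) = tor T F c * nWd h.good.toGood F L →
      (∀ i j : Fin T.l, i ≠ j → bd T (π i) (π j) = bd T i j) →
      ((∀ i, exC F Ls π i = 1) →
        ∀ r < T.n, ∃ k : Fˣ, ∀ t, α (xe h.good.toGood r t) = xe h.good.toGood (θ r) ((k : F) * σ t)) →
      TwoFix p (MulAut.conj m * α)) :
    TwoFix p φ := by
  haveI : Fintype F := Fintype.ofFinite F
  obtain ⟨c, x, α, π, μ, σ, θ, L, hc, M, hbd, hl⟩ := exists_min h hφ
  obtain ⟨w, m, c', M', hm, hw⟩ := M.exists_monomial p hp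
  have h2 := (hcase m α π μ σ θ L c' M' hm hbd hl).conj ((MulAut.conj w * c)⁻¹)
  rw [inv_inv, ← hw, ← hc] at h2
  rwa [show (MulAut.conj w * c)⁻¹ * (MulAut.conj w * (c * φ * c⁻¹) * (MulAut.conj w)⁻¹) *
    (MulAut.conj w * c) = φ by group] at h2

/-- the case of a symmetry preserving the root lengths -/
theorem twoFix_regular [Finite F] (h : AutOK T K Ls) (p : ℕ) [Fact p.Prime] [CharP F p] (hp : p ≠ 2)
    {syms : List (List ℕ)} (hsym : syms.all (symOK T Ls) = true) (hchk : checkExc T syms = true)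
    {m : ↥(T.D.group F)} {α : MulAut ↥(T.D.group F)} {π : Equiv.Perm (Fin T.l)} {μ : Fin T.l → Fˣ}
    {σ : F ≃+* F} {θ : ℕ → ℕ} {L : List ℕ} {c : ℕ → Fˣ} (M : Min h.good Ls m α π μ σ θ L)
    (hm : (m : GL T.D.Idx F) = tor T F c * nWd h.good.toGood F L) (hq : permList π T.l ∈ syms)
    (hl : (∀ i, exC F Ls π i = 1) →
        ∀ r < T.n, ∃ k : Fˣ, ∀ t, α (xe h.good.toGood r t) = xe h.good.toGood (θ r) ((k : F) * σ t)) :
    TwoFix p (MulAut.conj m * α) := by
  obtain ⟨hc, hex⟩ := symOK_spec (F := F) (List.all_eq_true.1 hsym _ hq)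
  exact M.twoFix_of_check hm p hp hc hex (hl hex) hq hchk

/-- simply laced types -/
theorem rank2_laced [Finite F] (h : AutOK T K Ls) (p : ℕ) [Fact p.Prime] [CharP F p] (hp : p ≠ 2)
    (hsym : (symList T T.l).all (symOK T Ls) = true) (hchk : checkExc T (symList T T.l) = true) :
    Rank2 p ↥(T.D.group F) := fun _ hφ =>
  twoFix_of_min h p hp hφ fun _ _ π _ _ _ _ _ M hm hbd hl =>
    twoFix_regular h p hp hsym hchk M hm (permList_mem π hbd _ le_rfl) hl

/-- the permutation of the nodes of an automorphism of least cell -/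
theorem piHom_min [Finite F] (h : AutOK T K Ls) {m : ↥(T.D.group F)} {α : MulAut ↥(T.D.group F)}
    {π : Equiv.Perm (Fin T.l)} {μ : Fin T.l → Fˣ} {σ : F ≃+* F} {θ : ℕ → ℕ} {L : List ℕ}
    (M : Min h.good Ls m α π μ σ θ L) : ∃ a : ↥(normAut h.good.toGood F), piHom h F a = π :=
  ⟨⟨α, M.std.mem h.good⟩, piHom_eq h M.std⟩

theorem rank2_F4 [Finite F] (p : ℕ) [Fact p.Prime] [CharP F p] (hp : p ≠ 2) :
    Rank2 p ↥(chevF4.group F) := fun _ hφ => by
  refine twoFix_of_min autOK_F4 p hp hφ fun m α π μ σ θ L c M hm hbd hl =>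
    twoFix_regular autOK_F4 p hp (syms := [List.range 4]) (by decide +kernel) (by decide +kernel) M hm
      ?_ hl
  have h2 : ∀ q ∈ symList F4Data.tab F4Data.tab.l, q = List.range 4 ∨ q = [3, 2, 1, 0] := by
    decide +kernel
  rcases h2 _ (permList_mem π hbd _ le_rfl) with e | e
  · rw [e]; exact List.mem_singleton.2 rfl
  exfalso
  obtain ⟨a, ha⟩ := piHom_min autOK_F4 M
  have e1 := congrArg (fun L : List ℕ => L.getD 1 0) e
  have e2 := congrArg (fun L : List ℕ => L.getD 2 0) e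
  refine hp (char_of_flip autOK_F4 a p (i := (⟨2, by decide⟩ : Fin F4Data.tab.l))
    (j := (⟨1, by decide⟩ : Fin F4Data.tab.l)) (Or.inl rfl) (by decide +kernel) ?_ (Or.inl rfl))
  have l1 : (1 : ℕ) < F4Data.tab.l := by decide
  have l2 : (2 : ℕ) < F4Data.tab.l := by decide
  simp [permList, List.getD_eq_getElem?_getD, l1, l2] at e1 e2
  rw [ha, e1, e2]
  decide +kernel

/-- the lengths are preserved by the reflections -/
def checkLen (T : Tab) : Bool :=
  allBelow (fun i => allBelow (fun r => longT T (T.ref i r) == longT T r) T.n) T.l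

theorem longT_word (g : T.Good) (hc : checkLen T = true) : ∀ {L : List ℕ}, T.Wd L → ∀ {r : ℕ},
    r < T.n → longT T (T.rw' L r) = longT T r
  | [], _, r, _ => rfl
  | i :: L, hL, r, hr => by
    obtain ⟨hi, hL'⟩ := Wd.cons_iff.1 hL
    rw [rw'_cons, ← longT_word g hc hL' hr]
    simp only [checkLen, allBelow_eq_true, beq_iff_eq] at hc
    exact hc i hi _ (rw'_lt g hL' hr)

theorem rank2_G2 [Finite F] (p : ℕ) [Fact p.Prime] [CharP F p] (hp : p ≠ 2) :
    Rank2 p ↥(chevG2.group F) := fun _ hφ => by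
  refine twoFix_of_min autOK_G2 p hp hφ fun m α π μ σ θ L c M hm hbd hl => ?_
  have h2 : ∀ q ∈ symList G2Data.tab G2Data.tab.l, q = List.range 2 ∨ q = [1, 0] := by
    decide +kernel
  rcases h2 _ (permList_mem π hbd _ le_rfl) with e | e
  · exact twoFix_regular autOK_G2 p hp (syms := [List.range 2]) (by decide +kernel) (by decide +kernel) M
      hm (by rw [e]; exact List.mem_singleton.2 rfl) hl
  -- the exceptional symmetry in characteristic three
  have hg := (autOK_G2).good.toGood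
  obtain ⟨a, ha⟩ := piHom_min autOK_G2 M
  have l0 : (0 : ℕ) < G2Data.tab.l := by decide
  have l1 : (1 : ℕ) < G2Data.tab.l := by decide
  have e0 := congrArg (fun L : List ℕ => L.getD 0 0) e
  have e1 := congrArg (fun L : List ℕ => L.getD 1 0) e
  simp [permList, List.getD_eq_getElem?_getD, l0, l1] at e0 e1
  have h3 : p = 3 := by
    refine char_of_flip autOK_G2 a p (i := (⟨1, l1⟩ : Fin G2Data.tab.l))
      (j := (⟨0, l0⟩ : Fin G2Data.tab.l)) (Or.inr rfl)
      (show G2Data.tab.A 1 (G2Data.tab.smp 0) = -1 by decide +kernel) ?_ (Or.inr ?_)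
    · rw [ha, e0, e1]; decide +kernel
    · haveI : Fintype F := Fintype.ofFinite F
      obtain ⟨k, hpr, hkp⟩ := FiniteField.card F p
      rw [Nat.card_eq_fintype_card, hkp]
      have := hpr.two_le
      have := Nat.le_self_pow k.ne_zero p
      omega
  have hq : ∀ i < G2Data.tab.l, ([1, 0] : List ℕ).getD i 0 = pn π i := fun i hi => by
    rw [← e]
    simp [permList, List.getD_eq_getElem?_getD, hi, pn_apply π hi]
  have hlen : ∀ i < G2Data.tab.l, longT G2Data.tab (G2Data.tab.neg (G2Data.tab.smp i)) ≠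
      longT G2Data.tab (G2Data.tab.smp (([1, 0] : List ℕ).getD i 0)) := by decide +kernel
  have hck : checkLen G2Data.tab = true := by decide +kernel
  have hpos : ∀ j < G2Data.tab.l, G2Data.tab.N ≤ G2Data.tab.rw' L (G2Data.tab.smp j) := by
    intro j hj
    have hi := pn_lt π hj
    have e' : Min.P (T := G2Data.tab) L θ (G2Data.tab.smp (pn π j)) =
        G2Data.tab.rw' L (G2Data.tab.smp j) := by
      rw [Min.P, M.rmap.smp _ hi, M.pn_invol hj]
    rw [← e']
    refine (M.simple hi).resolve_left fun hn => hlen _ hi ?_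
    rw [← hn, e', longT_word hg hck M.wd (hg.smp_lt hj), hq _ hi, M.pn_invol hj]
  have hid := (nWd_torus_of_pos (F := F) hg L.length le_rfl M.wd
    (rw'_id_of_simple hg M.wd hpos)).2
  refine twoFix_pairs (autOK_G2).good.toGoodA p hp (e := 3) (J := []) (q := [1, 0]) ?_ M.sq ?_
    (by decide +kernel)
  · subst h3
    exact CharP.cast_eq_zero F 3
  intro r s h1 h2 hs
  obtain ⟨u, hu⟩ := M.nu_maps hm h2 1
  refine ⟨u, ?_⟩
  rw [hu]
  congr 1
  rw [imgF, Option.map_eq_some_iff] at hs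
  obtain ⟨v, hv, rfl⟩ := hs
  rw [Min.P, thF_spec M.rmap hq _ r v h2 hv, rw'_nil]
  exact hid _ (by rw [← thF_spec M.rmap hq _ r v h2 hv]; exact M.rmap.lt r h2)

end Exc

open Exc Cfsg.Lie Cfsg.Agent.Chev Cfsg.Agent.ChevAut in
/-- Seat C. -/
theorem exceptional : ExceptionalStmt := fun F _ _ p _ _ hp =>
  ⟨rank2_G2 p hp, rank2_F4 p hp,
    rank2_laced (T := E6Data.tab) autOK_E6 p hp (by decide +kernel) (by decide +kernel),
    rank2_laced (T := E7Data.tab) autOK_E7 p hp (by decide +kernel) (by decide +kernel),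
    rank2_laced (T := E8Data.tab) autOK_E8 p hp (by decide +kernel) (by decide +kernel)⟩

end Cfsg.Agent.InvRankP
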