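import Cfsg.Agent.Lib.InvRankP.ClassicalBase
import Cfsg.Agent.Lib.AutPSL.Classes

/-!
S2876, linear groups: every automorphism of order at most 2 of `PSL n` (`n ≥ 3`, not `PSL₃(p)`) fixes
an elementary abelian group of order `p²`.
-/

set_option autoImplicit false
set_option linter.style.haveILetI false

namespace Cfsg.Agent.InvRankP.Linear

open Matrix Module Cfsg.Agent.InvRankP.Classical

variable {F : Type*} [Field F] {n : ℕ}

local notation "Mn" => Matrix (Fin n) (Fin n) F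
local notation "Vn" => Fin n → F
local notation "SLn" => Matrix.SpecialLinearGroup (Fin n) F
local notation "PSLn" => Matrix.ProjectiveSpecialLinearGroup (Fin n) F

/-- The matrix of an element of `SL`. -/
def toMat : SLn →* Mn where
  toFun s := s
  map_one' := rfl
  map_mul' _ _ := rfl

theorem twoFix (p : ℕ) [Fact p.Prime] [CharP F p] (hp : p ≠ 2) (hn : 0 < n) {φ : MulAut PSLn}
    {A B : Mn} (hP : IsPair A B)
    (hA : ∀ s : SLn, (s : Mn) = ex A → φ (QuotientGroup.mk s) = QuotientGroup.mk s)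
    (hB : ∀ s : SLn, (s : Mn) = ex B → φ (QuotientGroup.mk s) = QuotientGroup.mk s) :
    TwoFix p φ := by
  haveI : Nonempty (Fin n) := ⟨⟨0, hn⟩⟩
  refine twoFix_of_pair p hp (QuotientGroup.mk' (Subgroup.center SLn)) toMat
    (fun _ _ e => Subtype.ext e) (fun s hs => ?_) hP
    (a := ⟨ex A, det_ex p hp hP.aaa⟩) (b := ⟨ex B, det_ex p hp hP.bbb⟩) rfl rfl
    (hA _ rfl) (hB _ rfl)
  obtain ⟨c, -, hc⟩ := Matrix.SpecialLinearGroup.mem_center_iff.1
    ((QuotientGroup.eq_one_iff s).1 hs)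
  exact ⟨c, by rw [show toMat s = (s : Mn) from rfl, ← hc, Matrix.smul_one_eq_diagonal]; rfl⟩

theorem ofGL_surj (g : GL (Fin n) F) (τ : F ≃+* F) (x : Vn) : ∃ y, (Semi.ofGL g τ).S y = x :=
  ⟨τ.symm ∘ (((g⁻¹ : GL (Fin n) F) : Mn) *ᵥ x), by
    show (g : Mn) *ᵥ (⇑τ ∘ (⇑τ.symm ∘ _)) = x
    rw [← Function.comp_assoc, show ⇑τ ∘ ⇑τ.symm = id from funext τ.apply_symm_apply,
      Function.id_comp, Matrix.mulVec_mulVec, ← Units.val_mul, mul_inv_cancel, Units.val_one,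
      Matrix.one_mulVec]⟩

/-- The conjugate matrix. -/
def conjM (g : GL (Fin n) F) (τ : F ≃+* F) (M : Mn) : Mn :=
  (g : Mn) * M.map τ * ((g⁻¹ : GL (Fin n) F) : Mn)

theorem conjM_S (g : GL (Fin n) F) (τ : F ≃+* F) (M : Mn) (x : Vn) :
    conjM g τ M *ᵥ (Semi.ofGL g τ).S x = (Semi.ofGL g τ).S (M *ᵥ x) := by
  show conjM g τ M *ᵥ ((g : Mn) *ᵥ (τ ∘ x)) = (g : Mn) *ᵥ ((τ : F → F) ∘ (M *ᵥ x))
  rw [conjM, Matrix.mulVec_mulVec, mul_assoc, ← Units.val_mul, inv_mul_cancel, Units.val_one, mul_one,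
    ← Matrix.mulVec_mulVec,
    show (τ : F → F) ∘ (M *ᵥ x) = M.map τ *ᵥ (τ ∘ x) from
      funext fun k => RingHom.map_mulVec τ.toRingHom M x k]

theorem vmv_apply (v ψ x : Vn) : Matrix.vecMulVec v ψ *ᵥ x = (ψ ⬝ᵥ x) • v := by
  funext i
  simp [Matrix.vecMulVec_mulVec, mul_comm]

/-- Rank one matrix plus its conjugate. -/
def sumConj (g : GL (Fin n) F) (τ : F ≃+* F) (v ψ : Vn) : Mn :=
  Matrix.vecMulVec v ψ + conjM g τ (Matrix.vecMulVec v ψ)

theorem sumConj_add (g : GL (Fin n) F) (τ : F ≃+* F) (v ψ ψ' : Vn) :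
    sumConj g τ v (ψ + ψ') = sumConj g τ v ψ + sumConj g τ v ψ' := by
  simp only [sumConj, conjM, Matrix.vecMulVec_add]
  rw [Matrix.map_add τ (map_add τ)]
  simp only [mul_add, add_mul]
  abel

theorem sumConj_nsmul (g : GL (Fin n) F) (τ : F ≃+* F) (v ψ : Vn) (j : ℕ) :
    sumConj g τ v (j • ψ) = j • sumConj g τ v ψ := by
  induction j with
  | zero =>
    have : Matrix.vecMulVec v (0 : Vn) = 0 := by ext i k; simp [Matrix.vecMulVec_apply]
    rw [zero_smul, zero_smul, sumConj, this]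
    simp [conjM]
  | succ j ih => rw [succ_nsmul, sumConj_add, ih, succ_nsmul]

section semi

variable {g : GL (Fin n) F} {τ : F ≃+* F} {c : F}
  (hcc : ∀ x, (Semi.ofGL g τ).S ((Semi.ofGL g τ).S x) = c • x)
include hcc

theorem sumConj_comm (v ψ : Vn) : (Semi.ofGL g τ).Comm (sumConj g τ v ψ) := fun x => by
  have h : (Semi.ofGL g τ).S (conjM g τ (Matrix.vecMulVec v ψ) *ᵥ x) =
      Matrix.vecMulVec v ψ *ᵥ (Semi.ofGL g τ).S x := by
    obtain ⟨y, rfl⟩ := ofGL_surj g τ x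
    rw [conjM_S, hcc, hcc, Matrix.mulVec_smul]
  rw [sumConj, Matrix.add_mulVec, Matrix.add_mulVec, conjM_S, (Semi.ofGL g τ).map_add, h, add_comm]

theorem sumConj_kill (hc : c ≠ 0) {v ψ : Vn} (h1 : ψ ⬝ᵥ v = 0)
    (h2 : ψ ⬝ᵥ (Semi.ofGL g τ).S v = 0) :
    sumConj g τ v ψ *ᵥ v = 0 ∧ sumConj g τ v ψ *ᵥ (Semi.ofGL g τ).S v = 0 := by
  have h3 : conjM g τ (Matrix.vecMulVec v ψ) *ᵥ v = 0 := by
    have h := conjM_S g τ (Matrix.vecMulVec v ψ) ((Semi.ofGL g τ).S v)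
    rw [vmv_apply, h2, zero_smul, (Semi.ofGL g τ).map_zero, hcc, Matrix.mulVec_smul,
      smul_eq_zero] at h
    exact h.resolve_left hc
  constructor
  · rw [sumConj, Matrix.add_mulVec, h3, vmv_apply, h1, zero_smul, add_zero]
  · simp [sumConj, Matrix.add_mulVec, conjM_S, vmv_apply, h1, h2, (Semi.ofGL g τ).map_zero]

theorem sumConj_mul (hc : c ≠ 0) {v ψ ψ' : Vn} (h1 : ψ ⬝ᵥ v = 0)
    (h2 : ψ ⬝ᵥ (Semi.ofGL g τ).S v = 0) : sumConj g τ v ψ * sumConj g τ v ψ' = 0 := by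
  obtain ⟨k1, k2⟩ := sumConj_kill hcc hc h1 h2
  refine Matrix.ext_of_mulVec_single fun i => ?_
  obtain ⟨x, hx⟩ : ∃ x : Vn, x = Pi.single i 1 := ⟨_, rfl⟩
  rw [← hx, ← Matrix.mulVec_mulVec, Matrix.zero_mulVec]
  obtain ⟨y, hy⟩ := ofGL_surj g τ x
  rw [show sumConj g τ v ψ' *ᵥ x = (ψ' ⬝ᵥ x) • v + τ (ψ' ⬝ᵥ y) • (Semi.ofGL g τ).S v by
      rw [sumConj, Matrix.add_mulVec, vmv_apply, ← hy, conjM_S, vmv_apply,
        (Semi.ofGL g τ).map_smul],
    Matrix.mulVec_add, Matrix.mulVec_smul, Matrix.mulVec_smul, k1, k2, smul_zero, smul_zero,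
    add_zero]

omit hcc in
theorem sumConj_ne {v ψ : Vn} (hv : v ≠ 0) (hind : (Semi.ofGL g τ).S v ∉ F ∙ v) (hψ : ψ ≠ 0) :
    sumConj g τ v ψ ≠ 0 := by
  intro h
  refine hψ (dotProduct_eq_zero ψ fun x => ?_)
  obtain ⟨y, hy⟩ := ofGL_surj g τ x
  have e : sumConj g τ v ψ *ᵥ x = 0 := by rw [h, Matrix.zero_mulVec]
  rw [sumConj, Matrix.add_mulVec, vmv_apply, ← hy, conjM_S, vmv_apply, (Semi.ofGL g τ).map_smul,
    hy] at e
  by_cases hb : τ (ψ ⬝ᵥ y) = 0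
  · rw [hb, zero_smul, add_zero, smul_eq_zero] at e
    exact e.resolve_right hv
  · refine absurd (Submodule.mem_span_singleton.2 ⟨-((τ (ψ ⬝ᵥ y))⁻¹ * (ψ ⬝ᵥ x)), ?_⟩) hind
    rw [add_eq_zero_iff_eq_neg'] at e
    rw [neg_smul, mul_smul, ← smul_neg, ← e, smul_smul, inv_mul_cancel₀ hb, one_smul]

theorem exists_pair_semi (hc : c ≠ 0) (p : ℕ) [Fact p.Prime] [CharP F p] [Fintype F] (hn : 3 ≤ n)
    (hq : n = 3 → p < Fintype.card F) {v : Vn} (hv : v ≠ 0)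
    (hind : (Semi.ofGL g τ).S v ∉ F ∙ v) :
    ∃ A B : Mn, IsPair A B ∧ (Semi.ofGL g τ).Comm A ∧ (Semi.ofGL g τ).Comm B := by
  let dl : Vn → (Vn →ₗ[F] F) := fun u =>
    { toFun := fun ψ => ψ ⬝ᵥ u
      map_add' := fun a b => add_dotProduct a b u
      map_smul' := fun a b => smul_dotProduct a b u }
  obtain ⟨ψ, -, hψ, hψ0⟩ := Form.exists_ker_outside ![dl v, dl ((Semi.ofGL g τ).S v)] ⊤ ⊥ (by
    rw [finrank_top, Module.finrank_fintype_fun_eq_card, Fintype.card_fin, finrank_bot]; omega)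
  have hψne : ψ ≠ 0 := fun e => hψ0 (e ▸ Submodule.zero_mem _)
  obtain ⟨ψ', h1', h2', hind'⟩ : ∃ ψ' : Vn, ψ' ⬝ᵥ v = 0 ∧ ψ' ⬝ᵥ (Semi.ofGL g τ).S v = 0 ∧
      ∀ j : ℕ, ψ' + j • ψ ≠ 0 := by
    by_cases h4 : n = 3
    · obtain ⟨t, ht⟩ := exists_gen_top (F := F) p (hq h4)
      refine ⟨t • ψ, by rw [smul_dotProduct, show ψ ⬝ᵥ v = 0 from hψ 0, smul_zero],
        by rw [smul_dotProduct, show ψ ⬝ᵥ (Semi.ofGL g τ).S v = 0 from hψ 1, smul_zero],
        fun j e => ?_⟩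
      rw [← Nat.cast_smul_eq_nsmul F, ← add_smul, smul_eq_zero] at e
      exact e.elim (ht j) hψne
    · obtain ⟨ψ', -, hψ', hψ'0⟩ := Form.exists_ker_outside ![dl v, dl ((Semi.ofGL g τ).S v)] ⊤
        (F ∙ ψ) (by
          rw [finrank_top, Module.finrank_fintype_fun_eq_card, Fintype.card_fin]
          have := Form.finrank_span_le_one (F := F) ψ
          omega)
      refine ⟨ψ', hψ' 0, hψ' 1, fun j e => hψ'0 ?_⟩
      rw [eq_neg_of_add_eq_zero_left e]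
      exact neg_mem ((F ∙ ψ).smul_of_tower_mem j (Submodule.mem_span_singleton_self ψ))
  have m11 := sumConj_mul hcc hc (hψ 0) (hψ 1) (ψ' := ψ)
  have m12 := sumConj_mul hcc hc (hψ 0) (hψ 1) (ψ' := ψ')
  have m21 := sumConj_mul hcc hc h1' h2' (ψ' := ψ)
  have m22 := sumConj_mul hcc hc h1' h2' (ψ' := ψ')
  refine ⟨sumConj g τ v ψ, sumConj g τ v ψ', ⟨by rw [m12, m21], by rw [m11, zero_mul],
    by rw [m11, zero_mul], by rw [m12, zero_mul], by rw [m22, zero_mul],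
    sumConj_ne hv hind hψne, fun j => ?_⟩, sumConj_comm hcc _ _, sumConj_comm hcc _ _⟩
  rw [← sumConj_nsmul, ← sumConj_add]
  exact sumConj_ne hv hind (hind' j)

end semi

/-- When all lines are stable, the semilinear map is scalar. -/
theorem scalar_of_forall {τ : F ≃+* F} (T : Semi τ (Fin n)) (hn : 2 ≤ n)
    (h : ∀ v : Vn, T.S v ∈ F ∙ v) : ∃ a : F, ∀ v, T.S v = a • v := by
  choose a ha using fun v => Submodule.mem_span_singleton.1 (h v)
  have key : ∀ v w : Vn, w ≠ 0 → v ∉ F ∙ w → a v = a w := by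
    intro v w hw hvw
    have e : a (v + w) • (v + w) = a v • v + a w • w := by rw [ha, T.map_add, ha, ha]
    have e1 : (a (v + w) - a v) • v = (a w - a (v + w)) • w := by
      rw [sub_smul, sub_smul, sub_eq_sub_iff_add_eq_add, ← smul_add, e, add_comm]
    by_cases h1 : a (v + w) - a v = 0
    · rw [h1, zero_smul, eq_comm, smul_eq_zero, or_iff_left hw] at e1
      linear_combination -h1 - e1
    · exact absurd (Submodule.mem_span_singleton.2 ⟨(a (v + w) - a v)⁻¹ * (a w - a (v + w)), by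
        rw [mul_smul, ← e1, smul_smul, inv_mul_cancel₀ h1, one_smul]⟩) hvw
  obtain ⟨e0, he0⟩ : ∃ e : Vn, e = Pi.single (⟨0, by omega⟩ : Fin n) 1 := ⟨_, rfl⟩
  obtain ⟨e1, he1⟩ : ∃ e : Vn, e = Pi.single (⟨1, by omega⟩ : Fin n) 1 := ⟨_, rfl⟩
  have h0 : e0 ≠ 0 := fun e => by simpa [he0] using congrFun e ⟨0, by omega⟩
  have h1 : e1 ≠ 0 := fun e => by simpa [he1] using congrFun e ⟨1, by omega⟩
  have h10 : e1 ∉ F ∙ e0 := fun hm => by
    obtain ⟨r, hr⟩ := Submodule.mem_span_singleton.1 hm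
    simpa [he0, he1, Pi.single_apply, Fin.ext_iff] using congrFun hr ⟨1, by omega⟩
  refine ⟨a e0, fun v => ?_⟩
  rcases eq_or_ne v 0 with rfl | hv
  · rw [T.map_zero, smul_zero]
  by_cases hv0 : v ∈ F ∙ e0
  · have hv1 : v ∉ F ∙ e1 := fun hm => by
      obtain ⟨r, hr⟩ := Submodule.mem_span_singleton.1 hm
      obtain ⟨s, hs⟩ := Submodule.mem_span_singleton.1 hv0
      have hr0 : r ≠ 0 := fun e => hv (by rw [← hr, e, zero_smul])
      exact h10 (Submodule.mem_span_singleton.2 ⟨r⁻¹ * s, by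
        rw [mul_smul, hs, ← hr, smul_smul, inv_mul_cancel₀ hr0, one_smul]⟩)
    rw [← ha v, key v e1 h1 hv1, key e1 e0 h0 h10]
  · rw [← ha v, key v e0 h0 hv0]

theorem exists_pair_scalar {τ : F ≃+* F} (T : Semi τ (Fin n)) (hn : 3 ≤ n) {a : F}
    (ha0 : a ≠ 0) (ha : ∀ v, T.S v = a • v) : ∃ A B : Mn, IsPair A B ∧ T.Comm A ∧ T.Comm B := by
  have hτ : ∀ r : F, τ r = r := by
    intro r
    have h := T.map_smul r (Pi.single (⟨0, by omega⟩ : Fin n) 1)
    rw [ha, ha, smul_smul, smul_smul] at h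
    have := congrFun h ⟨0, by omega⟩
    simp only [Pi.smul_apply, Pi.single_eq_same, smul_eq_mul, mul_one] at this
    exact mul_right_cancel₀ ha0 (this.symm.trans (mul_comm a r))
  have comm : ∀ M : Mn, T.Comm M := fun M x => by rw [ha, ha, Matrix.mulVec_smul]
  obtain ⟨i, hi⟩ : ∃ i : Fin n, i = ⟨0, by omega⟩ := ⟨_, rfl⟩
  obtain ⟨j, hj⟩ : ∃ j : Fin n, j = ⟨1, by omega⟩ := ⟨_, rfl⟩
  obtain ⟨k, hk⟩ : ∃ k : Fin n, k = ⟨2, by omega⟩ := ⟨_, rfl⟩
  have hji : j ≠ i := by simp [hi, hj]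
  have hki : k ≠ i := by simp [hi, hk]
  have hkj : k ≠ j := by simp [hj, hk]
  refine ⟨Matrix.single i j 1, Matrix.single i k 1, ⟨?_, ?_, ?_, ?_, ?_, ?_, fun m e => ?_⟩, comm _,
    comm _⟩
  · rw [Matrix.single_mul_single_of_ne _ _ _ _ hji, Matrix.single_mul_single_of_ne _ _ _ _ hki]
  · rw [Matrix.single_mul_single_of_ne _ _ _ _ hji, zero_mul]
  · rw [Matrix.single_mul_single_of_ne _ _ _ _ hji, zero_mul]
  · rw [Matrix.single_mul_single_of_ne _ _ _ _ hji, zero_mul]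
  · rw [Matrix.single_mul_single_of_ne _ _ _ _ hki, zero_mul]
  · intro e
    simpa using congrFun (congrFun e i) j
  · simpa [Matrix.single_apply, hkj, Ne.symm hkj] using congrFun (congrFun e i) k

theorem twoFix_semi [Fintype F] (p : ℕ) [Fact p.Prime] [CharP F p] (hp : p ≠ 2) (hn : 3 ≤ n)
    (hq : n = 3 → p < Fintype.card F) {g : GL (Fin n) F} {σ : F ≃+* F}
    (h : (AutPSL.semi g σ : MulAut PSLn) * AutPSL.semi g σ = 1) :
    TwoFix p (AutPSL.semi g σ : MulAut PSLn) := by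
  rw [AutPSL.semi_mul'] at h
  obtain ⟨hσ, c, hc⟩ := (AutPSL.semi_eq_one_iff (by omega)).1 h
  have hcc : ∀ x, (Semi.ofGL g σ).S ((Semi.ofGL g σ).S x) = (c : F) • x := by
    intro x
    show (g : Mn) *ᵥ ((σ : F → F) ∘ ((g : Mn) *ᵥ (σ ∘ x))) = (c : F) • x
    rw [show (σ : F → F) ∘ ((g : Mn) *ᵥ (σ ∘ x)) = (g : Mn).map σ *ᵥ (σ ∘ (σ ∘ x)) from
        funext fun k => RingHom.map_mulVec σ.toRingHom (g : Mn) (σ ∘ x) k,
      Matrix.mulVec_mulVec, show (g : Mn) * (g : Mn).map σ = (c : F) • 1 by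
        have e := congrArg Units.val hc
        rw [Units.val_mul] at e
        refine e.trans ?_
        rw [Matrix.smul_one_eq_diagonal]
        rfl,
      Matrix.smul_mulVec, Matrix.one_mulVec]
    congr 1
    exact funext fun i => invol_apply hσ (x i)
  obtain ⟨A, B, hP, hA, hB⟩ : ∃ A B : Mn, IsPair A B ∧ (Semi.ofGL g σ).Comm A ∧
      (Semi.ofGL g σ).Comm B := by
    by_cases hall : ∀ v : Vn, (Semi.ofGL g σ).S v ∈ F ∙ v
    · obtain ⟨a, ha⟩ := scalar_of_forall (Semi.ofGL g σ) (by omega) hall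
      refine exists_pair_scalar _ hn (fun a0 => ?_) ha
      have := (Semi.ofGL g σ).inj ((ha (Pi.single ⟨0, by omega⟩ 1)).trans
        ((by rw [a0, zero_smul]) : _ = (0 : Vn)) |>.trans (Semi.ofGL g σ).map_zero.symm)
      simpa using congrFun this ⟨0, by omega⟩
    · push Not at hall
      obtain ⟨v, hv⟩ := hall
      refine exists_pair_semi hcc c.ne_zero p hn hq (fun e => hv ?_) hv
      rw [e, (Semi.ofGL g σ).map_zero]
      exact Submodule.zero_mem _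
  refine twoFix p hp (by omega) hP (fun s hs => ?_) (fun s hs => ?_) <;>
    rw [AutPSL.semi_mk] <;>
    refine congrArg QuotientGroup.mk (Subtype.ext ?_) <;>
    rw [AutPSL.slSemi_coe, hs]
  · exact conj_eq_of_comm g (Semi.Comm.ex _ hA)
  · exact conj_eq_of_comm g (Semi.Comm.ex _ hB)

/-! ### the graph case -/

theorem exists_form {σ : F ≃+* F} (hσσ : σ * σ = 1) (K : GL (Fin n) F) (hn : 0 < n) {c : F}
    (hK : (K : Mn)ᵀ.map σ = c • (K : Mn)) :
    ∃ Φ : Form F (Fin n), Φ.σ = σ ∧ (σ ≠ 1 → Φ.ε = 1) ∧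
      ∃ t : F, t ≠ 0 ∧ ∀ x y, Φ.b x y = t * ((σ ∘ x) ⬝ᵥ ((K : Mn) *ᵥ y)) := by
  have hunit : c * σ c = 1 := by
    have h1 : (K : Mn).map σ = c • (K : Mn)ᵀ := by
      rw [← Matrix.transpose_smul, ← hK, Matrix.transpose_map, Matrix.transpose_transpose]
    have h2 : (K : Mn) = (σ c * c) • (K : Mn) := by
      conv_lhs => rw [show (K : Mn) = ((K : Mn).map σ).map σ from
        Matrix.ext fun i j => (invol_apply hσσ _).symm, h1,
        Matrix.map_smul' _ _ _ (map_mul σ), hK, smul_smul]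
    have hne : (K : Mn) ≠ 0 := by
      intro e
      haveI : Nonempty (Fin n) := ⟨⟨0, hn⟩⟩
      have hu := K.isUnit
      rw [e] at hu
      exact not_isUnit_zero hu
    have h3 : (σ c * c - 1) • (K : Mn) = 0 := by rw [sub_smul, one_smul, ← h2, sub_self]
    rw [smul_eq_zero, or_iff_left hne] at h3
    linear_combination h3
  obtain ⟨t, ht0, hσt⟩ : ∃ t : F, t ≠ 0 ∧ (σ ≠ 1 → σ t = σ c * t) := by
    by_cases hσ : σ = 1
    · exact ⟨1, one_ne_zero, fun h => absurd hσ h⟩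
    · obtain ⟨t, ht, htσ⟩ := exists_ratio hσσ hσ (ε := σ c)
        (by rw [invol_apply hσσ, mul_comm, hunit])
      exact ⟨t, ht, fun _ => htσ⟩
  have hσt0 : σ t ≠ 0 := (map_ne_zero σ).2 ht0
  have hswap : ∀ x y : Vn, (σ ∘ y) ⬝ᵥ ((K : Mn) *ᵥ x) =
      σ c * σ ((σ ∘ x) ⬝ᵥ ((K : Mn) *ᵥ y)) := by
    intro x y
    rw [← map_mul, ← smul_eq_mul c, ← dotProduct_smul, ← Matrix.smul_mulVec, ← hK]
    rw [show σ ((σ ∘ x) ⬝ᵥ ((K : Mn)ᵀ.map σ *ᵥ y)) = x ⬝ᵥ ((K : Mn)ᵀ *ᵥ (σ ∘ y)) by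
      simp only [dotProduct, Matrix.mulVec, map_sum, map_mul, Function.comp_apply, Matrix.map_apply,
        invol_apply hσσ]]
    rw [Matrix.dotProduct_mulVec x, Matrix.vecMul_transpose, dotProduct_comm]
  refine ⟨⟨fun x y => t * ((σ ∘ x) ⬝ᵥ ((K : Mn) *ᵥ y)), σ, t * σ c * (σ t)⁻¹, hσσ, ?_, ?_, ?_, ?_, ?_⟩,
    rfl, fun hne => ?_, t, ht0, fun x y => rfl⟩
  · rw [map_mul, map_mul, map_inv₀, invol_apply hσσ, invol_apply hσσ]
    field_simp
    linear_combination hunit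
  · intro x y z; rw [Matrix.mulVec_add, dotProduct_add, mul_add]
  · intro a x y; rw [Matrix.mulVec_smul, dotProduct_smul, smul_eq_mul, mul_left_comm]
  · intro x y
    rw [hswap x y, map_mul]
    field_simp
  · intro x hx
    have h1 : ∀ z : Vn, (σ ∘ x) ⬝ᵥ z = 0 := fun z => by
      have := hx (((K⁻¹ : GL (Fin n) F) : Mn) *ᵥ z)
      rw [Matrix.mulVec_mulVec, ← Units.val_mul, mul_inv_cancel, Units.val_one, Matrix.one_mulVec,
        mul_eq_zero] at this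
      exact this.resolve_left ht0
    funext i
    exact σ.injective ((congrFun (dotProduct_eq_zero _ h1) i).trans (map_zero σ).symm)
  · show t * σ c * (σ t)⁻¹ = 1
    rw [hσt hne, mul_comm t, mul_inv_cancel₀ (hσt hne ▸ hσt0)]

theorem exists_pair_form [Fintype F] (p : ℕ) [Fact p.Prime] [CharP F p] (hp : p ≠ 2) (hn : 3 ≤ n)
    (hq : n = 3 → p < Fintype.card F) (Φ : Form F (Fin n)) (hε : Φ.σ ≠ 1 → Φ.ε = 1) :
    ∃ A B : Mn, IsPair A B ∧ Φ.Skew A ∧ Φ.Skew B := by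
  have h2 := two_ne_zero' (F := F) p hp
  have hneg : ∀ r : F, r ≠ 0 → -r ≠ r := fun r hr e =>
    hr ((mul_eq_zero.1 (show (2 : F) * r = 0 by linear_combination -e)).resolve_left h2)
  have htop : 3 ≤ finrank F (⊤ : Submodule F Vn) := by
    rw [finrank_top, Module.finrank_fintype_fun_eq_card, Fintype.card_fin]; exact hn
  have main : ∀ r : F, Φ.σ (Φ.ε * r) ≠ r → ∀ v : Vn, v ≠ 0 → Φ.b v v = 0 →
      ∃ A B : Mn, IsPair A B ∧ Φ.Skew A ∧ Φ.Skew B := fun r hr v hv hvv => by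
    obtain ⟨w, hw, hwv⟩ := Φ.exists_perp_outside v (by rwa [Fintype.card_fin])
    exact ⟨_, _, Φ.pair_sie_self hv hvv hw hwv hr, Φ.sie_skew _ _, Φ.sie_skew _ _⟩
  by_cases hσ : Φ.σ = 1
  swap
  · obtain ⟨v, -, hv, hvv⟩ := Φ.exists_iso h2 (hε hσ) ⊤ htop
    obtain ⟨δ, hδ, hδσ⟩ := exists_imag Φ.sq hσ
    exact main δ (by rw [hε hσ, one_mul, hδσ]; exact hneg δ hδ) v hv hvv
  have hid : ∀ a : F, Φ.σ a = a := fun a => by rw [hσ]; rfl
  have hee : Φ.ε * Φ.ε = 1 := by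
    have := Φ.unit
    rwa [hid] at this
  rcases mul_self_eq_one_iff.1 hee with he | he
  swap
  · obtain ⟨v, hv⟩ : ∃ v : Vn, v ≠ 0 := ⟨Pi.single ⟨0, by omega⟩ 1, fun e => by
      simpa using congrFun e ⟨0, by omega⟩⟩
    refine main 1 (by rw [he, hid, neg_one_mul]; exact hneg 1 one_ne_zero) v hv ?_
    have h := Φ.swap v v
    rw [hid, he, neg_one_mul] at h
    exact (mul_eq_zero.1 (show (2 : F) * Φ.b v v = 0 by linear_combination h)).resolve_left h2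
  obtain ⟨v, -, hv, hvv⟩ := Φ.exists_iso h2 he ⊤ htop
  obtain ⟨w, hw, hwv⟩ := Φ.exists_perp_outside v (by rwa [Fintype.card_fin])
  by_cases h3 : n = 3
  · obtain ⟨t, ht⟩ := exists_gen_top (F := F) p (hq h3)
    exact ⟨_, _, Φ.pair_sie_smul hv hvv hw hwv ht (Or.inl (hid t)), Φ.sie_skew _ _, Φ.sie_skew _ _⟩
  · obtain ⟨w', -, hw', hwv'⟩ := Form.exists_ker_outside ![Φ.lin v] ⊤ ((F ∙ v) ⊔ (F ∙ w)) (by
      rw [finrank_top, Module.finrank_fintype_fun_eq_card, Fintype.card_fin]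
      have h1 := Submodule.finrank_add_le_finrank_add_finrank (F ∙ v) (F ∙ w)
      have h2 := Form.finrank_span_le_one (F := F) v
      have h3 := Form.finrank_span_le_one (F := F) w
      omega)
    refine ⟨_, _, Φ.pair_sie hvv hw (hw' 0) ?_ (Φ.sie_ne_zero hv hwv) fun j => ?_, Φ.sie_skew _ _,
      Φ.sie_skew _ _⟩
    · rw [Φ.swap w' w, he, one_mul, hid]
    · refine Φ.sie_ne_zero hv fun hm => hwv' ?_
      have := sub_mem ((le_sup_left : F ∙ v ≤ (F ∙ v) ⊔ (F ∙ w)) hm)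
        ((le_sup_right : F ∙ w ≤ (F ∙ v) ⊔ (F ∙ w))
          ((F ∙ w).smul_of_tower_mem j (Submodule.mem_span_singleton_self w)))
      rwa [add_sub_cancel_right] at this

theorem twoFix_graph [Fintype F] (p : ℕ) [Fact p.Prime] [CharP F p] (hp : p ≠ 2) (hn : 3 ≤ n)
    (hq : n = 3 → p < Fintype.card F) {h : GL (Fin n) F} {σ : F ≃+* F}
    (hh : (AutPSL.semi h σ * AutPSL.invT : MulAut PSLn) ^ 2 = 1) :
    TwoFix p (AutPSL.semi h σ * AutPSL.invT : MulAut PSLn) := by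
  rw [AutPSL.semi_mul_invT_sq] at hh
  obtain ⟨hσ, c, hc⟩ := (AutPSL.semi_eq_one_iff (by omega)).1 hh
  have hK : ((h⁻¹ : GL (Fin n) F) : Mn)ᵀ.map σ = (c : F) • ((h⁻¹ : GL (Fin n) F) : Mn) := by
    have e := congrArg (fun u : GL (Fin n) F => ((h⁻¹ : GL (Fin n) F) : Mn) * (u : Mn)) hc
    simp only [Units.val_mul] at e
    rw [← mul_assoc, ← Units.val_mul, inv_mul_cancel, Units.val_one, one_mul] at e
    refine e.trans ?_
    rw [show ((Matrix.GeneralLinearGroup.scalar (Fin n) c : GL (Fin n) F) : Mn) = (c : F) • 1 by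
      rw [Matrix.smul_one_eq_diagonal]; rfl, Matrix.mul_smul, mul_one]
  obtain ⟨Φ, hΦσ, hΦε, t, ht, hb⟩ := exists_form hσ h⁻¹ (by omega) hK
  obtain ⟨A, B, hP, hA, hB⟩ := exists_pair_form p hp hn hq Φ (hΦσ ▸ hΦε)
  have fix : ∀ N : Mn, N * N * N = 0 → Φ.Skew N → ∀ s : SLn, (s : Mn) = ex N →
      (AutPSL.semi h σ * AutPSL.invT : MulAut PSLn) (QuotientGroup.mk s) = QuotientGroup.mk s := by
    intro N hN3 hN s hs
    rw [MulAut.mul_apply, AutPSL.invT_mk, AutPSL.semi_mk]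
    refine congrArg QuotientGroup.mk (Subtype.ext ?_)
    rw [AutPSL.slSemi_coe, AutPSL.slInvT_coe]
    have hiso : (s : Mn)ᵀ.map σ * ((h⁻¹ : GL (Fin n) F) : Mn) * (s : Mn) =
        ((h⁻¹ : GL (Fin n) F) : Mn) := by
      ext i j
      have e := Φ.ex_pres (two_ne_zero' p hp) hN3 hN (Pi.single i 1) (Pi.single j 1)
      rw [hb, hb, ← hs] at e
      have e' := mul_left_cancel₀ ht e
      have hsgl : (σ : F → F) ∘ (Pi.single i 1 : Vn) = Pi.single i 1 := by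
        funext k
        rcases eq_or_ne k i with rfl | hk
        · simp
        · simp [Pi.single_eq_of_ne hk]
      rw [hsgl, single_dotProduct, one_mul, Matrix.mulVec_single_one, Matrix.mulVec_mulVec,
        Matrix.mulVec_single_one, Matrix.mulVec_single_one, Matrix.col_apply] at e'
      rw [← e', mul_assoc, Matrix.mul_apply]
      rfl
    have hinv : ((s⁻¹ : SLn) : Mn)ᵀ.map σ * (s : Mn)ᵀ.map σ = 1 := by
      rw [← Matrix.map_mul, ← Matrix.transpose_mul, ← Matrix.SpecialLinearGroup.coe_mul,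
        mul_inv_cancel, Matrix.SpecialLinearGroup.coe_one, Matrix.transpose_one,
        Matrix.map_one _ (map_zero σ) (map_one σ)]
    conv_lhs => rw [← hiso]
    rw [← mul_assoc, ← mul_assoc, mul_assoc (h : Mn), hinv, mul_one, ← Units.val_mul,
      mul_inv_cancel, Units.val_one, one_mul]
  exact twoFix p hp (by omega) hP (fix A hP.aaa hA) (fix B hP.bbb hB)

end Cfsg.Agent.InvRankP.Linear

namespace Cfsg.Agent.InvRankP

theorem pslStmt_holds : PSLStmt := by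
  intro F _ _ p _ _ n hp hn hex φ hφ
  have hq : n = 3 → p < Fintype.card F := fun h3 => by
    obtain ⟨k, -, hk⟩ := FiniteField.card F p
    rcases lt_or_eq_of_le (Nat.le_self_pow k.ne_zero p) with h | h
    · rwa [hk]
    · exact absurd ⟨h3, by rw [hk, ← h]⟩ hex
  obtain ⟨g, σ, rfl | ⟨-, rfl⟩⟩ := AutPSL.aut_eq (by omega : 2 ≤ n) φ
  · exact Linear.twoFix_semi p hp hn hq hφ
  · rw [AutPSL.invT_mul_semi] at hφ ⊢
    exact Linear.twoFix_graph p hp hn hq (by rw [sq]; exact hφ)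

end Cfsg.Agent.InvRankP
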