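import Cfsg.Agent.Lib.InvRankP.OrthFix
import Cfsg.Agent.Lib.AutPOmega.Odd
import Cfsg.Agent.Lib.AutPOmega.Minus
import Cfsg.Agent.Lib.AutPOmega.PlusDiag
import Cfsg.Agent.Lib.AutPOmega.Semigroup
import Cfsg.Agent.Lib.Orthogonal.NegOne
import Cfsg.Agent.Lib.Orthogonal.POmega
import Cfsg.Agent.S0817
import Mathlib.GroupTheory.Perm.Cycle.Type

/-!
The orthogonal families of S2876.
-/

set_option autoImplicit false
set_option linter.unusedSectionVars false
set_option linter.style.haveILetI false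

namespace Cfsg.Agent.InvRankP.Orth

open Matrix AutPOmega

theorem two_ne {F : Type} [Field F] {p : ℕ} [Fact p.Prime] [CharP F p] (hp : p ≠ 2) : (2 : F) ≠ 0 := by
  intro h
  have hd : p ∣ 2 := (CharP.cast_eq_zero_iff F p 2).1 (by exact_mod_cast h)
  exact hp ((Nat.prime_dvd_prime_iff_eq Fact.out Nat.prime_two).1 hd)

/-- All automorphisms being semisimilarities, the rank is at least two. -/
theorem rank2_of_semi {ι : Type} [Fintype ι] [DecidableEq ι] {F : Type} [Field F] [Fintype F] {Q : (ι → F) → F}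
    (hQ : Geo.IsNondegenerateQuadraticForm Q) (h7 : 7 ≤ Fintype.card ι)
    (hD : 9 ≤ Fintype.card ι ∨ ∀ U : Submodule F (ι → F), (∀ x ∈ U, Q x = 0) → Module.finrank F U ≤ 3)
    {q : QuadraticForm F (ι → F)} (hq : (QuadraticMap.polarBilin q).Nondegenerate) (hqQ : ⇑q = Q)
    (p : ℕ) [Fact p.Prime] [CharP F p] (hp : p ≠ 2) : Rank2 p (Cfsg.POmega F Q) := by
  intro φ hφ
  obtain ⟨g, τ, hg, rfl⟩ := exists_semi hQ h7 p hD φ
  exact twoFix_semi hQ hq hqQ h7 p hp hg hφ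

/-- An element with trivial square is conjugate into a subgroup of odd index. -/
theorem conj_into {G : Type*} [Group G] [Finite G] (Γ : Subgroup G) (hΓ : ¬ 2 ∣ Γ.index) {φ : G}
    (hφ : φ * φ = 1) : ∃ ψ β, β ∈ Γ ∧ β * β = 1 ∧ ψ * β * ψ⁻¹ = φ := by
  haveI : Fintype (G ⧸ Γ) := Fintype.ofFinite _
  haveI : Fact (Nat.Prime 2) := ⟨Nat.prime_two⟩
  obtain ⟨x, hx⟩ := Equiv.Perm.exists_fixed_point_of_prime (p := 2) (n := 1)
    (σ := (MulAction.toPerm φ : Equiv.Perm (G ⧸ Γ)))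
    (by rwa [← Nat.card_eq_fintype_card, ← Subgroup.index_eq_card])
    (Equiv.ext fun y => by
      rw [pow_one, pow_two, Equiv.Perm.mul_apply, MulAction.toPerm_apply, MulAction.toPerm_apply, ← mul_smul, hφ,
        one_smul, Equiv.Perm.one_apply])
  obtain ⟨ψ, rfl⟩ := QuotientGroup.mk_surjective x
  have hx' : (QuotientGroup.mk (φ * ψ) : G ⧸ Γ) = QuotientGroup.mk ψ := hx
  refine ⟨ψ, ψ⁻¹ * φ * ψ, ?_, ?_, by group⟩
  · rw [mul_assoc]
    exact QuotientGroup.eq.1 hx'.symm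
  · rw [show ψ⁻¹ * φ * ψ * (ψ⁻¹ * φ * ψ) = ψ⁻¹ * (φ * φ) * ψ by group, hφ, mul_one, inv_mul_cancel]

section Plus

variable {F : Type} [Field F] [Fintype F]

local notation "POm8" => Cfsg.POmega F (Cfsg.quadFormPlus 4 F)
local notation "Qp8" => Cfsg.quadFormPlus 4 F

/-- The semisimilarities of `PΩ₈⁺` have index three in the automorphism group. -/
theorem exists_semi_index (p : ℕ) [Fact p.Prime] [CharP F p] (hp : p ≠ 2) :
    ∃ Γ : Subgroup (MulAut POm8), Γ.index = 3 ∧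
      ∀ β ∈ Γ, ∃ g τ, ∃ hg : Cfsg.IsSemisimilarityPair Qp8 g τ, β = semi g τ hg := by
  have h2 : (2 : F) ≠ 0 := two_ne hp
  have hQ : Geo.IsNondegenerateQuadraticForm Qp8 := geo_plus 4
  have h7 : 7 ≤ Fintype.card (Fin 4 ⊕ Fin 4) := by simp
  obtain ⟨f, hpp, hF⟩ := FiniteField.card F p
  let Γ : Subgroup (MulAut POm8) :=
    { carrier := {β | ∃ g τ, ∃ hg : Cfsg.IsSemisimilarityPair Qp8 g τ, β = semi g τ hg}
      one_mem' := ⟨1, 1, _, (semi_one' (isPair_field_plus 1)).symm⟩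
      mul_mem' := by
        rintro _ _ ⟨g, τ, hg, rfl⟩ ⟨g', τ', hg', rfl⟩
        exact ⟨_, _, _, semi_mul hg hg'⟩
      inv_mem' := by
        rintro _ ⟨g, τ, hg, rfl⟩
        exact ⟨_, _, isPair_inv hg, inv_eq_of_mul_eq_one_left (by
          rw [semi_mul]
          refine (semi_congr _ (isPair_field_plus 1) ?_ ?_).trans (semi_one' _)
          · simp [mapGL]
          · simp)⟩ }
  refine ⟨Γ, ?_, fun β hβ => hβ⟩
  -- the field part
  choose gg tt hh ee using fun β : Γ => β.2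
  have huniq : ∀ (β : Γ) g τ (hg : Cfsg.IsSemisimilarityPair Qp8 g τ), (β : MulAut POm8) = semi g τ hg →
      tt β = τ := fun β g τ hg e => (semi_eq_semi hQ h7 _ _ ((ee β).symm.trans e)).1
  let Φ : Γ →* (F ≃+* F) := MonoidHom.mk' tt fun β γ =>
    huniq (β * γ) _ _ _ (by rw [Subgroup.coe_mul]; conv_lhs => rw [ee β, ee γ, semi_mul])
  have hs : Function.Surjective Φ := fun τ =>
    ⟨⟨semi 1 τ (isPair_field_plus τ), 1, τ, _, rfl⟩, huniq _ _ _ _ rfl⟩
  have hmu : ∀ c : Fˣ, ∃ g : GL (Fin 4 ⊕ Fin 4) F, ∀ v, Qp8 (Cfsg.Agent.Transvec.mv g v) = (c : F) * Qp8 v :=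
    fun c => ⟨diagSim 4 F (1, c), fun v => quad_diagSim (1, c) v⟩
  have hker : Φ.ker.map Γ.subtype = (conjGO (Q := Qp8)).range := by
    ext β
    constructor
    · rintro ⟨γ, hγ, rfl⟩
      have e : tt γ = 1 := hγ
      have hg : Cfsg.IsSemisimilarityPair Qp8 (gg γ) 1 := e ▸ hh γ
      refine ⟨⟨gg γ, go_of_pair hg⟩, ?_⟩
      rw [conjGO_apply]
      exact (semi_congr _ _ rfl e.symm).trans (ee γ).symm
    · rintro ⟨g, rfl⟩
      exact ⟨⟨conjGO g, _, _, pair_go g, rfl⟩, huniq _ _ _ (pair_go g) rfl, rfl⟩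
  have hcardΓ : Nat.card Γ = Nat.card (Cfsg.isometryGroup F Qp8) * f := by
    rw [← Φ.ker.card_mul_index, Subgroup.index_ker, MonoidHom.range_eq_top.2 hs, Subgroup.card_top,
      ← Subgroup.card_map_of_injective Γ.subtype_injective, hker, card_range_conjGO hQ h7 hmu]
    obtain ⟨E⟩ := AutPSL.exists_ringAut_equiv (F := F) p f hF
    rw [Nat.card_congr E.toEquiv, Nat.card_congr Multiplicative.toAdd, Nat.card_zmod]
  have hodd : Odd (Fintype.card F) := by rw [hF]; exact ((Fact.out : p.Prime).odd_of_ne_two hp).pow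
  have hmod : Fintype.card F ^ 4 % 4 = 1 := by
    have h4 : Fintype.card F % 4 = 1 ∨ Fintype.card F % 4 = 3 := by
      have := Nat.odd_iff.1 hodd; omega
    rw [Nat.pow_mod]
    rcases h4 with e | e <;> rw [e]
  have hiso : Nat.card POm8 * 2 * 4 = Nat.card (Cfsg.isometryGroup F Qp8) := by
    have hn : 7 ≤ Fintype.card (Fin 4 ⊕ Fin 4) := h7
    have h := Cfsg.Agent.Orth.card_pomega (Q := Cfsg.Agent.Orth.qPlus F 4) (Cfsg.Agent.Orth.qPlus_nondeg 4) hn
    rw [((Cfsg.Agent.Orth.card_center_two (Q := Cfsg.Agent.Orth.qPlus F 4)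
      (Cfsg.Agent.Orth.qPlus_nondeg 4) hn h2).1 ((Cfsg.Agent.Orth.neg_one_plus hodd 4 (by norm_num)).2 hmod)),
      Cfsg.Agent.Orth.card_spinVal.1 h2, Cfsg.Agent.Orth.coe_qPlus] at h
    exact h
  have haut := S0817.result (F := F) p f f.pos hF 4 le_rfl
  rw [if_pos rfl, if_neg hp, if_pos (Nat.even_iff.2 (by omega))] at haut
  have h := Γ.card_mul_index
  rw [haut, hcardΓ, ← hiso] at h
  refine Nat.eq_of_mul_eq_mul_left (show 0 < Nat.card POm8 * 2 * 4 * f from ?_) (by rw [h]; ring)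
  have : 0 < Nat.card POm8 := Nat.card_pos
  have := f.pos
  positivity

end Plus

/-- Seat B, odd dimension. -/
theorem pomegaOddStmt : POmegaOddStmt := by
  intro F _ _ p _ _ m hp hm
  have h2 := two_ne (F := F) hp
  exact rank2_of_semi (geo_odd h2 m) (by simp; omega) (hD_odd h2 hm) (Cfsg.Agent.Orth.qOdd_nondeg h2 m)
    (Cfsg.Agent.Orth.coe_qOdd m) p hp

/-- Seat B, minus type. -/
theorem pomegaMinusStmt : POmegaMinusStmt := by
  intro F _ _ p _ _ m a b hp hm hab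
  exact rank2_of_semi (geo_minus hab (m - 1)) (by simp; omega) (hD_minus hab (by omega))
    (Cfsg.Agent.Orth.qMinus_nondeg hab (m - 1)) (Cfsg.Agent.Orth.coe_qMinus (m - 1) a b) p hp

/-- Seat B, plus type. -/
theorem pomegaPlusStmt : POmegaPlusStmt := by
  intro F _ _ p _ _ m hp hm
  by_cases h4 : m = 4
  · subst h4
    intro φ hφ
    obtain ⟨Γ, hidx, hΓ⟩ := exists_semi_index (F := F) p hp
    obtain ⟨ψ, β, hβΓ, hββ, hφψ⟩ := conj_into Γ (by rw [hidx]; norm_num) hφ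
    obtain ⟨g, τ, hg, e⟩ := hΓ _ hβΓ
    subst e
    subst hφψ
    exact (twoFix_semi (geo_plus 4) (Cfsg.Agent.Orth.qPlus_nondeg 4) (Cfsg.Agent.Orth.coe_qPlus 4)
      (by simp) p hp hg hββ).conj ψ
  · exact rank2_of_semi (geo_plus m) (by simp; omega) (Or.inl (by simp; omega))
      (Cfsg.Agent.Orth.qPlus_nondeg m) (Cfsg.Agent.Orth.coe_qPlus m) p hp

end Cfsg.Agent.InvRankP.Orth
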