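import Cfsg.Agent.Lib.InvRankP.OrthTwin
import Cfsg.Agent.Lib.InvRankP.Defs
import Cfsg.Agent.Lib.AutPOmega.Outer
import Cfsg.Agent.Lib.Orthogonal.LowDim
import Mathlib.RingTheory.Nilpotent.Basic

/-!
An involutive automorphism given by a semisimilarity fixes two independent commuting elements of order `p`.
-/

set_option autoImplicit false
set_option linter.unusedSectionVars false
set_option linter.style.haveILetI false

namespace Cfsg.Agent.InvRankP.Orth

open Matrix Cfsg.Agent.Transvec Cfsg.Agent.Transvec.Orth Module AutPOmega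

variable {ι : Type} [Fintype ι] [DecidableEq ι] {F : Type*} [Field F] {Q : (ι → F) → F}

local notation "Vι" => ι → F

/-- The exponential of an element with vanishing cube. -/
def expNil (D : Module.End F Vι) : Module.End F Vι := 1 + D + (2 : F)⁻¹ • (D * D)

theorem expNil_apply (D : Module.End F Vι) (x : Vι) : expNil D x = x + D x + (2 : F)⁻¹ • D (D x) := rfl

theorem expNil_smul_mul {D : Module.End F Vι} (h2 : (2 : F) ≠ 0) (h : ∀ x, D (D (D x)) = 0) (a b : F) :
    expNil (a • D) * expNil (b • D) = expNil ((a + b) • D) := by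
  refine LinearMap.ext fun x => ?_
  rw [Module.End.mul_apply]
  simp only [expNil_apply, LinearMap.smul_apply, map_add, map_smul, h, map_zero, smul_zero, add_zero]
  match_scalars <;> field_simp
  ring

theorem expNil_zero : expNil (0 : Module.End F Vι) = 1 := by
  simp [expNil]

theorem expNil_inj {A B : Module.End F Vι} (hc : Commute A B) (hA : IsNilpotent A) (hB : IsNilpotent B)
    (h2 : (2 : F) ≠ 0) (e : expNil A = expNil B) : A = B := by
  have h1 : (A - B) * (1 + (2 : F)⁻¹ • (A + B)) = 0 := by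
    have e' : A + (2 : F)⁻¹ • (A * A) = B + (2 : F)⁻¹ • (B * B) := by
      have := e
      simp only [expNil, add_assoc] at this
      exact add_left_cancel this
    rw [mul_add, mul_one, mul_smul_comm, mul_add, sub_mul, sub_mul, hc.eq]
    linear_combination (norm := module) e'
  have hu : IsUnit (1 + (2 : F)⁻¹ • (A + B)) := ((hc.isNilpotent_add hA hB).smul _).isUnit_one_add
  exact sub_eq_zero.1 (hu.mul_left_eq_zero.1 h1)

variable (hQ : Geo.IsNondegenerateQuadraticForm Q) (h2 : (2 : F) ≠ 0)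
include hQ h2

theorem q_expNil {D : Module.End F Vι} (hD : Sk Q D) (x : Vι) : Q (expNil D x) = Q x := by
  have h0 : D (D (D x)) = 0 := hD.cube x
  have e1 : pol Q (D x) x = -pol Q x (D x) := hD.skew x x
  have e2 : pol Q (D (D x)) (D x) = -pol Q (D x) (D (D x)) := hD.skew (D x) (D x)
  have e3 : pol Q (D x) (D x) = -pol Q x (D (D x)) := hD.skew x (D x)
  have e4 : pol Q (D (D x)) (D (D x)) = 0 := by rw [hD.skew, h0, pol_zero_right hQ, neg_zero]
  refine mul_left_cancel₀ h2 ?_
  rw [← pol_self hQ, ← pol_self hQ, expNil_apply]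
  simp only [pol_add_left hQ, pol_add_right hQ, pol_smul_left hQ, pol_smul_right hQ]
  rw [pol_comm (D (D x)) x, e4]
  rw [e3, e1]
  have e5 : pol Q (D x) (D (D x)) = 0 := by
    rw [pol_comm (D (D x)) (D x)] at e2
    exact (mul_eq_zero.1 (show (2 : F) * pol Q (D x) (D (D x)) = 0 by linear_combination e2)).resolve_left h2
  rw [pol_comm (D (D x)) (D x), e5]
  field_simp
  ring

/-- The exponential as an element of `Ω`. -/
theorem exists_exp {q : QuadraticForm F Vι} [Fintype F] (hq : (QuadraticMap.polarBilin q).Nondegenerate) (hqQ : ⇑q = Q)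
    (h7 : 7 ≤ Fintype.card ι) (p : ℕ) [Fact p.Prime] [CharP F p] (hp : p ≠ 2) {D : Module.End F Vι} (hD : Sk Q D) :
    ∃ s : Cfsg.Omega F Q, (∀ x, act s x = expNil D x) ∧ s ^ p = 1 := by
  have h1 : expNil D * expNil ((-1 : F) • D) = 1 := by
    have := expNil_smul_mul h2 hD.cube 1 (-1)
    rw [one_smul, add_neg_cancel, zero_smul, expNil_zero] at this
    exact this
  have h1' : expNil ((-1 : F) • D) * expNil D = 1 := by
    have := expNil_smul_mul h2 hD.cube (-1) 1
    rw [one_smul, neg_add_cancel, zero_smul, expNil_zero] at this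
    exact this
  let g : GL ι F := ⟨LinearMap.toMatrix' (expNil D), LinearMap.toMatrix' (expNil ((-1 : F) • D)),
    by rw [← LinearMap.toMatrix'_mul, h1, LinearMap.toMatrix'_one],
    by rw [← LinearMap.toMatrix'_mul, h1', LinearMap.toMatrix'_one]⟩
  have hg : ∀ x, mv g x = expNil D x := fun x => LinearMap.toMatrix'_mulVec _ x
  have hgi : g ∈ Cfsg.isometryGroup F Q := mem_isometry.2 fun x => by rw [hg, q_expNil hQ h2 hD]
  have hpow : ∀ k : ℕ, ∀ x, mv (g ^ k) x = expNil ((k : F) • D) x := by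
    intro k
    induction k with
    | zero => intro x; rw [pow_zero, mv_one, Nat.cast_zero, zero_smul, expNil_zero]; rfl
    | succ k ih =>
      intro x
      rw [pow_succ, mv_mul, ih, hg]
      have := expNil_smul_mul h2 hD.cube (k : F) 1
      rw [one_smul] at this
      rw [Nat.cast_succ, ← this]
      rfl
  have hgp : g ^ p = 1 := ext_mv fun x => by rw [hpow, CharP.cast_eq_zero, zero_smul, expNil_zero, mv_one]; rfl
  subst hqQ
  have hmem : (⟨g, hgi⟩ : Cfsg.isometryGroup F (⇑q)) ∈ Cfsg.Omega F (⇑q) :=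
    Cfsg.Agent.OrthLow.map_mem_omega_of_odd_pow hq (by omega) (Or.inr (by omega))
      (MonoidHom.id _) (s := ⟨g, hgi⟩) (N := p) ((Fact.out : p.Prime).odd_of_ne_two hp) (Subtype.ext hgp)
  exact ⟨⟨_, hmem⟩, hg, Subtype.ext (Subtype.ext hgp)⟩

omit h2

/-- The semisimilarity case. -/
theorem twoFix_semi {q : QuadraticForm F Vι} [Fintype F] (hq : (QuadraticMap.polarBilin q).Nondegenerate) (hqQ : ⇑q = Q)
    (h7 : 7 ≤ Fintype.card ι) (p : ℕ) [Fact p.Prime] [CharP F p] (hp : p ≠ 2) {g : GL ι F} {τ : F ≃+* F}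
    (hg : Cfsg.IsSemisimilarityPair Q g τ) (hφ : semi g τ hg * semi g τ hg = 1) :
    TwoFix p (semi g τ hg) := by
  have h2 : (2 : F) ≠ 0 := by
    intro h
    have hd : p ∣ 2 := (CharP.cast_eq_zero_iff F p 2).1 (by exact_mod_cast h)
    exact hp ((Nat.prime_dvd_prime_iff_eq Fact.out Nat.prime_two).1 hd)
  rw [semi_mul] at hφ
  obtain ⟨hττ, μ, hμ0, hμ⟩ := semi_eq_one_imp hQ h7 p _ hφ
  obtain ⟨c, hc⟩ := hg
  have hg' : Cfsg.IsSemisimilarityPair Q g τ := ⟨c, hc⟩
  have hinv : ∀ a, τ (τ a) = a := fun a => by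
    have := RingEquiv.congr_fun hττ a
    exact this
  have hΦ : SSim Q τ (c : F) μ (sm g τ) :=
    { add := sm_add g τ
      smul := sm_smul g τ
      mult := hc
      c0 := c.ne_zero
      sq := fun x => by
        rw [sm_comp, sm, show ((τ * τ : F ≃+* F) : F → F) ∘ x = x from funext fun i => hinv (x i), hμ]
      μ0 := hμ0
      inv := hinv }
  obtain ⟨D₁, D₂, s₁, s₂, hcomm, f₁, f₂, hne, hind⟩ := exists_twin hQ h2 hΦ h7
  obtain ⟨a, ha, hap⟩ := exists_exp hQ h2 hq hqQ h7 p hp s₁
  obtain ⟨b, hb, hbp⟩ := exists_exp hQ h2 hq hqQ h7 p hp s₂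
  have hab : a * b = b * a := ext_act fun x => by
    rw [act_mul, act_mul, ha, hb, hb, ha]
    simp only [expNil_apply, map_add, map_smul, hcomm]
    module
  have hfix : ∀ (D : Module.End F Vι) (s : Cfsg.Omega F Q), (∀ x, D (sm g τ x) = sm g τ (D x)) →
      (∀ x, act s x = expNil D x) → semi g τ hg' (QuotientGroup.mk' _ s) = QuotientGroup.mk' _ s := by
    intro D s hD hs
    rw [semi_mk]
    refine congrArg _ (ext_act fun x => ?_)
    obtain ⟨y, rfl⟩ := sm_surj g τ x
    rw [act_conjOm, hs, hs, expNil_apply, expNil_apply, hD, hD, sm_add, sm_add, sm_smul, map_inv₀, map_ofNat]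
  have hnil : ∀ D : Module.End F Vι, (∀ x, D (D (D x)) = 0) → IsNilpotent D := fun D hD =>
    ⟨3, LinearMap.ext fun x => by rw [pow_succ, pow_two, Module.End.mul_apply, Module.End.mul_apply, hD]; rfl⟩
  have hinj : ∀ {u : Cfsg.Omega F Q} {v : Cfsg.Omega F Q}, u ^ p = 1 → v ^ p = 1 →
      QuotientGroup.mk' (Subgroup.center (Cfsg.Omega F Q)) u = QuotientGroup.mk' _ v → u = v := fun hu hv e =>
    eq_of_mk_eq hQ h7 p (a := 1) (b := 1) (by rwa [pow_one]) (by rwa [pow_one]) e
  refine ⟨QuotientGroup.mk' _ a, QuotientGroup.mk' _ b, by rw [← map_pow, hap, map_one],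
    by rw [← map_pow, hbp, map_one], by rw [← map_mul, ← map_mul, hab], hfix D₁ a f₁ ha, hfix D₂ b f₂ hb,
    fun e => hne ?_, fun hz => ?_⟩
  · have ha1 : a = 1 := hinj hap (one_pow p) (e.trans (map_one _).symm)
    refine expNil_inj (Commute.zero_right D₁) (hnil _ s₁.cube) IsNilpotent.zero h2 (LinearMap.ext fun x => ?_)
    rw [← ha, ha1, act_one, expNil_zero]
    rfl
  · obtain ⟨k, hk⟩ := (mem_powers_iff_mem_zpowers.2 hz : QuotientGroup.mk' _ b ∈ Submonoid.powers _)
    have hk' : a ^ k = b := hinj (by rw [← pow_mul, mul_comm, pow_mul, hap, one_pow]) hbp (by rw [map_pow]; exact hk)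
    refine hind (k : F) (expNil_inj ?_ (hnil _ s₂.cube) ((hnil _ s₁.cube).smul _) h2 (LinearMap.ext fun x => ?_))
    · exact (show Commute D₂ D₁ from LinearMap.ext fun x => (hcomm x).symm).smul_right _
    rw [← hb, ← hk']
    have hpow : ∀ j : ℕ, ∀ x, act (a ^ j) x = expNil ((j : F) • D₁) x := by
      intro j
      induction j with
      | zero => intro x; rw [pow_zero, act_one, Nat.cast_zero, zero_smul, expNil_zero]; rfl
      | succ j ih =>
        intro x
        rw [pow_succ, act_mul, ih, ha]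
        have := expNil_smul_mul h2 s₁.cube (j : F) 1
        rw [one_smul] at this
        rw [Nat.cast_succ, ← this]
        rfl
    exact hpow k x

end Cfsg.Agent.InvRankP.Orth
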