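import Cfsg.Agent.Lib.AutPOmega.Roots
import Cfsg.Agent.Lib.Elusive.FormIso
import Mathlib.FieldTheory.Finite.Basic
import Mathlib.LinearAlgebra.Dimension.Finrank
import Mathlib.Tactic.ComputeDegree

/-!
A semisimilarity with scalar square commutes with two independent commuting nilpotent elements of the
orthogonal Lie algebra.
-/

set_option autoImplicit false
set_option linter.unusedSectionVars false
set_option linter.style.haveILetI false

namespace Cfsg.Agent.InvRankP.Orth

open Matrix Cfsg.Agent.Transvec Cfsg.Agent.Transvec.Orth Module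

variable {ι : Type} [Fintype ι] [DecidableEq ι] {F : Type*} [Field F] {Q : (ι → F) → F}

local notation "Vι" => ι → F

/-- A semisimilarity with scalar square. -/
structure SSim (Q : (ι → F) → F) (τ : F ≃+* F) (c μ : F) (Φ : (ι → F) → (ι → F)) : Prop where
  add : ∀ x y, Φ (x + y) = Φ x + Φ y
  smul : ∀ (a : F) x, Φ (a • x) = τ a • Φ x
  mult : ∀ x, Q (Φ x) = c * τ (Q x)
  c0 : c ≠ 0
  sq : ∀ x, Φ (Φ x) = μ • x
  μ0 : μ ≠ 0
  inv : ∀ a, τ (τ a) = a

/-- A skew element with vanishing cube. -/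
structure Sk (Q : (ι → F) → F) (D : Module.End F (ι → F)) : Prop where
  skew : ∀ x y, pol Q (D x) y = -pol Q x (D y)
  cube : ∀ x, D (D (D x)) = 0

/-- Two independent commuting skew elements fixed by `Φ`. -/
def Twin (Q : (ι → F) → F) (Φ : (ι → F) → (ι → F)) : Prop :=
  ∃ D₁ D₂ : Module.End F (ι → F), Sk Q D₁ ∧ Sk Q D₂ ∧ (∀ x, D₁ (D₂ x) = D₂ (D₁ x)) ∧
    (∀ x, D₁ (Φ x) = Φ (D₁ x)) ∧ (∀ x, D₂ (Φ x) = Φ (D₂ x)) ∧ D₁ ≠ 0 ∧ ∀ k : F, D₂ ≠ k • D₁

omit [Fintype ι] [DecidableEq ι] in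
theorem one_app (a : F) : (1 : F ≃+* F) a = a := rfl

section Norm

variable [Finite F] (h2 : (2 : F) ≠ 0) {τ : F ≃+* F} (hτ : ∀ a, τ (τ a) = a) (hne : τ ≠ 1)
include hτ hne

omit [Finite F] in
theorem exists_anti : ∃ θ : F, θ ≠ 0 ∧ τ θ = -θ := by
  by_contra hno
  push Not at hno
  refine hne (RingEquiv.ext fun a => ?_)
  have h := hno (a - τ a)
  by_contra ha
  exact h (sub_ne_zero.2 fun e => ha e.symm) (by rw [map_sub, hτ, neg_sub])

include h2

/-- The norm onto the fixed field is surjective. -/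
theorem norm_surj {r : F} (hr : τ r = r) : ∃ a, a * τ a = r := by
  classical
  obtain ⟨θ, hθ, hθτ⟩ := exists_anti hτ hne
  let K : Subfield F := RingHom.eqLocusField τ.toRingHom (RingHom.id F)
  haveI : Fintype K := Fintype.ofFinite K
  have hK : ringChar K ≠ 2 := fun h => h2 (by
    haveI := ringChar.of_eq h
    have h' := congrArg (Subfield.subtype K) (CharTwo.two_eq_zero (R := K))
    rwa [map_ofNat, map_zero] at h')
  let δ : K := ⟨θ * θ, show τ (θ * θ) = θ * θ by rw [map_mul, hθτ, neg_mul_neg]⟩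
  let r' : K := ⟨r, hr⟩
  have hδ : δ ≠ 0 := fun e => mul_ne_zero hθ hθ (congrArg Subtype.val e)
  obtain ⟨x, y, hxy⟩ := FiniteField.exists_root_sum_quadratic (R := K) (f := (Polynomial.X : Polynomial K) ^ 2)
    (g := Polynomial.C (-δ) * Polynomial.X ^ 2 - Polynomial.C r') (by simp)
    (by compute_degree!) (Nat.odd_iff.1 (Nat.odd_iff.2 (FiniteField.odd_card_of_char_ne_two hK)))
  refine ⟨(x : F) + y * θ, ?_⟩
  rw [map_add, map_mul, hθτ, show τ (x : F) = x from x.2, show τ (y : F) = y from y.2]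
  simp only [Polynomial.eval_pow, Polynomial.eval_X, Polynomial.eval_sub, Polynomial.eval_mul, Polynomial.eval_C] at hxy
  have e := congrArg Subtype.val hxy
  change (x : F) ^ 2 + (-(θ * θ) * (y : F) ^ 2 - r) = 0 at e
  linear_combination e

end Norm

variable (hQ : Geo.IsNondegenerateQuadraticForm Q)

/-- The bivector of `u` and `y`. -/
def biv (u y : Vι) : Module.End F Vι := (formQ hQ u).smulRight y - (formQ hQ y).smulRight u

theorem biv_apply (u y z : Vι) : biv hQ u y z = pol Q z u • y - pol Q z y • u := rfl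

include hQ

theorem biv_skew (u y a b : Vι) : pol Q (biv hQ u y a) b = -pol Q a (biv hQ u y b) := by
  simp only [biv_apply, pol_sub_left hQ, pol_sub_right hQ, pol_smul_left hQ, pol_smul_right hQ]
  rw [pol_comm b u, pol_comm b y]
  ring

variable {τ : F ≃+* F} {c μ : F} {Φ : (ι → F) → (ι → F)}

theorem SSim.pol_map (hΦ : SSim Q τ c μ Φ) (x y : Vι) : pol Q (Φ x) (Φ y) = c * τ (pol Q x y) := by
  simp only [pol, QuadraticMap.polar, ← hΦ.add, hΦ.mult, map_sub, mul_sub]

theorem SSim.map_biv (hΦ : SSim Q τ c μ Φ) (u y z : Vι) :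
    Φ (biv hQ u y z) = c⁻¹ • biv hQ (Φ u) (Φ y) (Φ z) := by
  have hs : ∀ v w, Φ (v - w) = Φ v - Φ w := fun v w => map_sub (AddMonoidHom.mk' Φ hΦ.add) v w
  rw [biv_apply, biv_apply, hs, hΦ.smul, hΦ.smul, hΦ.pol_map hQ, hΦ.pol_map hQ, smul_sub, smul_smul, smul_smul,
    ← mul_assoc, ← mul_assoc, inv_mul_cancel₀ hΦ.c0, one_mul, one_mul]

theorem exists_pol_one {u : Vι} (hu : u ≠ 0) : ∃ z, pol Q z u = 1 := by
  obtain ⟨x, hx⟩ := (hQ.nondegenerate u hu).1
  exact ⟨(pol Q x u)⁻¹ • x, by rw [pol_smul_left hQ]; exact inv_mul_cancel₀ hx⟩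

theorem le_finrank_ker (u : Vι) : Fintype.card ι ≤ finrank F (LinearMap.ker (formQ hQ u)) + 1 := by
  have h := LinearMap.finrank_range_add_finrank_ker (formQ hQ u)
  rw [Module.finrank_fintype_fun_eq_card] at h
  have := Submodule.finrank_le (LinearMap.range (formQ hQ u))
  rw [Module.finrank_self] at this
  omega

theorem finrank_inf_ge (X Y : Submodule F Vι) :
    finrank F X + finrank F Y ≤ finrank F ↥(X ⊓ Y) + Fintype.card ι := by
  have h := Submodule.finrank_sup_add_finrank_inf_eq X Y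
  have := Submodule.finrank_le (X ⊔ Y)
  rw [Module.finrank_fintype_fun_eq_card] at this
  omega

omit hQ in
theorem span_pair_le (u v : Vι) : finrank F (Submodule.span F ({u, v} : Set Vι)) ≤ 2 := by
  classical
  refine (finrank_span_le_card ({u, v} : Set Vι)).trans ?_
  rw [Set.toFinset_card]
  exact (Fintype.card_of_finset' {u, v} (by simp)).le.trans Finset.card_le_two

variable (h2 : (2 : F) ≠ 0) (hΦ : SSim Q τ c μ Φ)
include hΦ

/-- An isotropic fixed line whose orthogonal space is spanned by fixed vectors. -/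
theorem twin_of_line {u : Vι} {l : F} (hu0 : u ≠ 0) (hu : Q u = 0) (hl : Φ u = l • u) (S : Set Vι)
    (hS : ∀ y ∈ S, pol Q y u = 0 ∧ (l / c) • Φ y = y) (h3 : 3 ≤ finrank F (Submodule.span F S)) :
    Twin Q Φ := by
  obtain ⟨z, hz⟩ := exists_pol_one hQ hu0
  have huu : pol Q u u = 0 := by rw [pol_self hQ, hu, mul_zero]
  have hpick : ∀ v : Vι, ∃ y ∈ S, y ∉ Submodule.span F ({u, v} : Set Vι) := by
    intro v
    by_contra hall
    push Not at hall
    have := (Submodule.finrank_mono (Submodule.span_le.2 hall)).trans (span_pair_le u v)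
    omega
  have hD : ∀ y ∈ S, Sk Q (biv hQ u y) ∧ ∀ x, biv hQ u y (Φ x) = Φ (biv hQ u y x) := by
    intro y hy
    obtain ⟨hyu, hfix⟩ := hS y hy
    have kill : biv hQ u y u = 0 := by rw [biv_apply, huu, pol_comm u y, hyu, zero_smul, zero_smul, sub_zero]
    refine ⟨⟨biv_skew hQ u y, fun x => ?_⟩, fun x => ?_⟩
    · rw [biv_apply hQ u y x, map_sub, map_smul, map_smul, kill, smul_zero, sub_zero, biv_apply hQ u y y, hyu,
        zero_smul, zero_sub, map_smul, map_neg, map_smul, kill, smul_zero, neg_zero, smul_zero]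
    · rw [hΦ.map_biv hQ, hl]
      conv_lhs => rw [← hfix]
      simp only [biv_apply, pol_smul_right hQ]
      module
  obtain ⟨y₁, hy₁, hy₁'⟩ := hpick u
  obtain ⟨y₂, hy₂, hy₂'⟩ := hpick y₁
  refine ⟨biv hQ u y₁, biv hQ u y₂, (hD y₁ hy₁).1, (hD y₂ hy₂).1, fun x => ?_, (hD y₁ hy₁).2, (hD y₂ hy₂).2,
    fun e => ?_, fun k e => ?_⟩
  · have e1 := (hS y₁ hy₁).1
    have e2 := (hS y₂ hy₂).1
    simp only [biv_apply, map_sub, map_smul, huu, e1, e2, pol_comm u y₁, pol_comm u y₂, pol_comm y₂ y₁,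
      pol_sub_left hQ, pol_smul_left hQ, zero_smul, sub_zero, smul_zero, mul_zero]
  · have h := LinearMap.congr_fun e z
    rw [LinearMap.zero_apply, biv_apply, hz, one_smul, sub_eq_zero] at h
    exact hy₁' (h ▸ Submodule.smul_mem _ _ (Submodule.subset_span (Set.mem_insert _ _)))
  · have h := LinearMap.congr_fun e z
    rw [LinearMap.smul_apply, biv_apply, biv_apply, hz, one_smul, one_smul, sub_eq_iff_eq_add] at h
    refine hy₂' (h ▸ ?_)
    have hmu : u ∈ Submodule.span F ({u, y₁} : Set Vι) := Submodule.subset_span (Set.mem_insert _ _)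
    exact add_mem (Submodule.smul_mem _ _ (sub_mem (Submodule.subset_span (Set.mem_insert_of_mem _ rfl))
      (Submodule.smul_mem _ _ hmu))) (Submodule.smul_mem _ _ hmu)

include h2

/-- Semilinear case: a fixed isotropic line. -/
theorem exists_line [Finite F] (hne : τ ≠ 1) (hn : 7 ≤ Fintype.card ι) :
    ∃ (u : Vι) (l : F), u ≠ 0 ∧ Q u = 0 ∧ Φ u = l • u := by
  obtain ⟨u, -, hu0, hu⟩ := exists_singular hQ (X := ⊤) (by rw [finrank_top, Module.finrank_fintype_fun_eq_card]; omega)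
  obtain ⟨W, hW⟩ := Submodule.exists_isCompl (Submodule.span F ({u} : Set Vι))
  have hX : 3 ≤ finrank F ↥(LinearMap.ker (formQ hQ u) ⊓ W) := by
    have h1 := finrank_inf_ge hQ (LinearMap.ker (formQ hQ u)) W
    have h2' := le_finrank_ker hQ u
    have h3 := Submodule.finrank_add_eq_of_isCompl hW
    rw [finrank_span_singleton hu0, Module.finrank_fintype_fun_eq_card] at h3
    omega
  obtain ⟨v, ⟨hvu, hvW⟩, hv0, hv⟩ := exists_singular hQ hX
  have hvu' : pol Q v u = 0 := hvu
  have hind : ∀ a b : F, a • u + b • v = 0 → a = 0 ∧ b = 0 := by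
    intro a b e
    have hmem : b • v ∈ Submodule.span F ({u} : Set Vι) ⊓ W :=
      ⟨Submodule.mem_span_singleton.2 ⟨-a, by linear_combination (norm := module) -e⟩, W.smul_mem _ hvW⟩
    rw [hW.inf_eq_bot, Submodule.mem_bot] at hmem
    rw [hmem, add_zero] at e
    exact ⟨(smul_eq_zero.1 e).resolve_right hu0, (smul_eq_zero.1 hmem).resolve_right hv0⟩
  have hμ : τ μ = μ := by
    have h1 : Φ (Φ (Φ u)) = μ • Φ u := hΦ.sq _
    rw [hΦ.sq u, hΦ.smul] at h1
    have hΦu : Φ u ≠ 0 := fun e => by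
      have := hΦ.sq u
      rw [e, show Φ 0 = 0 from map_zero (AddMonoidHom.mk' Φ hΦ.add)] at this
      exact hu0 ((smul_eq_zero.1 this.symm).resolve_left hΦ.μ0)
    exact smul_left_injective F hΦu h1
  -- the form `x ↦ pol x (Φ x)` has a zero on the plane
  obtain ⟨x, hx0, hx, hxx⟩ : ∃ x : Vι, x ≠ 0 ∧ Q x = 0 ∧ pol Q x (Φ x) = 0 := by
    have hsym : ∀ x y, pol Q y (Φ x) = c / μ * τ (pol Q x (Φ y)) := by
      intro x y
      have h := hΦ.pol_map hQ x (Φ y)
      rw [hΦ.sq, pol_smul_right hQ, pol_comm (Φ x) y] at h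
      rw [div_mul_eq_mul_div, eq_div_iff hΦ.μ0, mul_comm _ μ, h]
    by_cases h11 : pol Q u (Φ u) = 0
    · exact ⟨u, hu0, hu, h11⟩
    set h11' := pol Q u (Φ u) with hh11
    obtain ⟨k, hk⟩ : ∃ k, τ k = pol Q u (Φ v) / h11' := ⟨τ (pol Q u (Φ v) / h11'), hΦ.inv _⟩
    set v' := v + (-k) • u with hv'
    have h12 : pol Q u (Φ v') = 0 := by
      rw [hv', hΦ.add, hΦ.smul, pol_add_right hQ, pol_smul_right hQ, map_neg, hk, ← hh11]
      field_simp
      ring
    have h21 : pol Q v' (Φ u) = 0 := by rw [hsym, h12, map_zero, mul_zero]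
    have hv'q : Q v' = 0 := by
      rw [hv', q_add hQ, q_smul hQ, hu, hv, pol_smul_right hQ, hvu']
      ring
    have hv'u : pol Q v' u = 0 := by
      rw [hv', pol_add_left hQ, pol_smul_left hQ, hvu', pol_self hQ, hu]
      ring
    have e1 := hsym u u
    have e2 := hsym v' v'
    rw [← hh11] at e1
    set h22 := pol Q v' (Φ v') with hh22
    have hr : τ (-h22 / h11') = -h22 / h11' := by
      have hm : μ ≠ 0 := hΦ.μ0
      have hc : c ≠ 0 := hΦ.c0
      have t0 : τ h11' ≠ 0 := (map_ne_zero τ).2 h11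
      rw [map_div₀, map_neg, div_eq_div_iff t0 h11]
      conv_lhs => rw [e1]
      conv_rhs => rw [e2]
      ring
    obtain ⟨a, ha⟩ := norm_surj h2 hΦ.inv hne hr
    refine ⟨a • u + v', fun e => ?_, ?_, ?_⟩
    · have := hind (a - k) 1 (by rw [← e, hv']; module)
      exact one_ne_zero this.2
    · rw [q_add hQ, q_smul hQ, hu, hv'q, pol_smul_left hQ, pol_comm u v', hv'u]; ring
    · rw [hΦ.add, hΦ.smul, pol_add_left hQ, pol_add_right hQ, pol_add_right hQ, pol_smul_left hQ, pol_smul_left hQ,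
        pol_smul_right hQ, pol_smul_right hQ, h12, h21, ← hh11, ← hh22]
      have : a * τ a * h11' = -h22 := by rw [ha, div_mul_cancel₀ _ h11]
      linear_combination this
  by_cases hline : ∃ l : F, Φ x = l • x
  · obtain ⟨l, hl⟩ := hline
    exact ⟨x, l, hx0, hx, hl⟩
  obtain ⟨l, hl⟩ := norm_surj h2 hΦ.inv hne hμ
  have hl0 : τ l ≠ 0 := fun e => hΦ.μ0 (by rw [← hl, e, mul_zero])
  refine ⟨Φ x + l • x, τ l, fun e => hline ⟨-l, ?_⟩, ?_, ?_⟩
  · rw [neg_smul]; exact eq_neg_of_add_eq_zero_left e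
  · rw [q_add hQ, hΦ.mult, q_smul hQ, hx, map_zero, pol_smul_right hQ, pol_comm (Φ x) x, hxx]; ring
  · rw [hΦ.add, hΦ.sq, hΦ.smul, ← hl, smul_add, smul_smul, mul_comm (τ l) l]
    module

/-- The semilinear case. -/
theorem twin_semilinear [Finite F] (hne : τ ≠ 1) (hn : 7 ≤ Fintype.card ι) : Twin Q Φ := by
  obtain ⟨u, l, hu0, hu, hl⟩ := exists_line hQ h2 hΦ hne hn
  obtain ⟨θ, hθ, hθτ⟩ := exists_anti hΦ.inv hne
  have hl0 : l ≠ 0 := fun e => by
    have := hΦ.sq u
    rw [hl, e, zero_smul, show Φ 0 = 0 from map_zero (AddMonoidHom.mk' Φ hΦ.add)] at this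
    exact hu0 ((smul_eq_zero.1 this.symm).resolve_left hΦ.μ0)
  have hlμ : τ l * l = μ := by
    have := hΦ.sq u
    rw [hl, hΦ.smul, hl, smul_smul] at this
    exact smul_left_injective F hu0 this
  have hcc : c * τ c = μ * μ := by
    obtain ⟨v, hv⟩ : ∃ v : Vι, Q v ≠ 0 := by
      obtain ⟨v, -, hv⟩ := exists_anisotropic hQ (nondeg_top hQ) (fun e => hu0 (by
        simpa [e] using (Submodule.mem_top : u ∈ (⊤ : Submodule F Vι))))
      exact ⟨v, hv⟩
    have := hΦ.mult (Φ v)
    rw [hΦ.sq, q_smul hQ, hΦ.mult, map_mul, hΦ.inv] at this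
    exact mul_right_cancel₀ hv (by linear_combination -this)
  have hψ : ∀ w, (l / c) • Φ ((l / c) • Φ w) = w := fun w => by
    rw [hΦ.smul, hΦ.sq, smul_smul, smul_smul, map_div₀]
    have hτc : τ c ≠ 0 := (map_ne_zero τ).2 hΦ.c0
    have hc0 := hΦ.c0
    have : l / c * (τ l / τ c * μ) = 1 := by
      field_simp
      linear_combination μ * hlμ - hcc
    rw [← mul_assoc] at this
    first
      | rw [this, one_smul]
      | rw [← mul_assoc, this, one_smul]
  refine twin_of_line hQ hΦ hu0 hu hl {y | pol Q y u = 0 ∧ (l / c) • Φ y = y} (fun y hy => hy) ?_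
  refine le_trans ?_ (Submodule.finrank_mono (s := LinearMap.ker (formQ hQ u)) fun w hw => ?_)
  · have := le_finrank_ker hQ u
    omega
  have hw' : pol Q w u = 0 := hw
  have hperp : ∀ w, pol Q w u = 0 → pol Q ((l / c) • Φ w) u = 0 := fun w hw' => by
    have := hΦ.pol_map hQ w u
    rw [hw', map_zero, mul_zero, hl, pol_smul_right hQ] at this
    rw [pol_smul_left hQ, (mul_eq_zero.1 this).resolve_left hl0, mul_zero]
  have mk : ∀ w, pol Q w u = 0 → w + (l / c) • Φ w ∈ Submodule.span F {y | pol Q y u = 0 ∧ (l / c) • Φ y = y} :=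
    fun w hw' => Submodule.subset_span ⟨by rw [pol_add_left hQ, hw', hperp w hw', add_zero], by
      rw [hΦ.add, smul_add, hψ, add_comm]⟩
  have h1 := mk w hw'
  have h3 := mk (θ • w) (by rw [pol_smul_left hQ, hw', mul_zero])
  rw [hΦ.smul, hθτ, smul_smul, mul_neg, mul_comm (l / c), neg_smul, ← sub_eq_add_neg, ← smul_smul, ← smul_sub] at h3
  have h4 := Submodule.smul_mem _ (2 : F)⁻¹ (add_mem h1 (Submodule.smul_mem _ θ⁻¹ h3))
  rwa [inv_smul_smul₀ hθ, show w + (l / c) • Φ w + (w - (l / c) • Φ w) = (2 : F) • w by module,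
    inv_smul_smul₀ h2] at h4

omit hΦ

/-- The linear case with square `μ`. -/
theorem twin_square [Finite F] (hΦ : SSim Q 1 c μ Φ) (hn : 7 ≤ Fintype.card ι) {s : F} (hs : s * s = μ) :
    Twin Q Φ := by
  obtain ⟨L, hL⟩ : ∃ L : Module.End F Vι, ∀ x, L x = Φ x :=
    ⟨{ toFun := Φ, map_add' := hΦ.add, map_smul' := fun a x => hΦ.smul a x }, fun x => rfl⟩
  let E : F → Submodule F Vι := fun e => LinearMap.ker (L - e • LinearMap.id)
  have hE : ∀ {e x}, x ∈ E e ↔ Φ x = e • x := fun {e x} => by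
    rw [LinearMap.mem_ker, LinearMap.sub_apply, LinearMap.smul_apply, LinearMap.id_apply, hL, sub_eq_zero]
  have hs0 : s ≠ 0 := fun e => hΦ.μ0 (by rw [← hs, e, mul_zero])
  have hcover : Fintype.card ι ≤ finrank F (E s) + finrank F (E (-s)) := by
    have htop : E s ⊔ E (-s) = ⊤ := eq_top_iff.2 fun x _ => Submodule.mem_sup.2
      ⟨(2 * s)⁻¹ • (s • x + Φ x), hE.2 (by
        rw [hΦ.smul, hΦ.add, hΦ.smul, hΦ.sq, ← hs]; simp only [one_app]; module),
        (2 * s)⁻¹ • (s • x - Φ x), hE.2 (by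
        rw [hΦ.smul, show Φ (s • x - Φ x) = Φ (s • x) - Φ (Φ x) from map_sub (AddMonoidHom.mk' Φ hΦ.add) _ _,
          hΦ.smul, hΦ.sq, ← hs]; simp only [one_app]; module),
        by rw [← smul_add, show s • x + Φ x + (s • x - Φ x) = (2 * s) • x by module,
          inv_smul_smul₀ (mul_ne_zero h2 hs0)]⟩
    have h := Submodule.finrank_add_le_finrank_add_finrank (E s) (E (-s))
    rw [htop, finrank_top, Module.finrank_fintype_fun_eq_card] at h
    exact h
  obtain ⟨v, hv⟩ : ∃ v : Vι, Q v ≠ 0 := by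
    obtain ⟨v, -, hv⟩ := exists_anisotropic hQ (nondeg_top hQ) (fun e => by
      have h := congrArg (fun U : Submodule F Vι => finrank F U) e
      simp only [finrank_top, Module.finrank_fintype_fun_eq_card, finrank_bot] at h
      omega)
    exact ⟨v, hv⟩
  have hcc : c * c = μ * μ := by
    have := hΦ.mult (Φ v)
    rw [hΦ.sq, q_smul hQ, hΦ.mult] at this
    simp only [one_app] at this
    exact mul_right_cancel₀ hv (by linear_combination -this)
  have step : ∀ (e : F) (u : Vι), u ≠ 0 → Q u = 0 → Φ u = e • u → ∀ e' : F, e / c * e' = 1 →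
      4 ≤ finrank F (E e') → Twin Q Φ := by
    intro e u hu0 hu hl e' he he4
    refine twin_of_line hQ hΦ hu0 hu hl ↑(LinearMap.ker (formQ hQ u) ⊓ E e') (fun y hy => ⟨hy.1, ?_⟩) ?_
    · rw [hE.1 hy.2, smul_smul, he, one_smul]
    · rw [Submodule.span_eq]
      have := finrank_inf_ge hQ (LinearMap.ker (formQ hQ u)) (E e')
      have := le_finrank_ker hQ u
      omega
  obtain ⟨e, hee, he4⟩ : ∃ e, e * e = μ ∧ 4 ≤ finrank F (E e) := by
    rcases le_or_gt 4 (finrank F (E s)) with h | h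
    · exact ⟨s, hs, h⟩
    · exact ⟨-s, by rw [neg_mul_neg, hs], by omega⟩
  have he0 : e ≠ 0 := fun e' => hΦ.μ0 (by rw [← hee, e', mul_zero])
  rcases (mul_self_eq_mul_self_iff.1 hcc).imp_left Eq.symm with rfl | rfl
  · obtain ⟨u, hu, hu0, huq⟩ := exists_singular hQ (X := E e) (by omega)
    exact step e u hu0 huq (hE.1 hu) e (by rw [← hee]; field_simp) he4
  · obtain ⟨u, hu, hu0⟩ : ∃ u ∈ E (-e), u ≠ 0 := by
      refine (Submodule.ne_bot_iff _).1 fun hbot => ?_
      have hfull : E e = ⊤ := by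
        refine Submodule.eq_top_of_finrank_eq (le_antisymm (Submodule.finrank_le _) ?_)
        rw [Module.finrank_fintype_fun_eq_card]
        rcases mul_self_eq_mul_self_iff.1 (hee.trans hs.symm) with rfl | rfl
        · rw [hbot, finrank_bot] at hcover; omega
        · rw [neg_neg] at hbot
          rw [hbot, finrank_bot] at hcover; omega
      have h := hΦ.mult v
      rw [hE.1 (hfull ▸ Submodule.mem_top : v ∈ E e), q_smul hQ] at h
      simp only [one_app] at h
      exact hΦ.μ0 ((mul_eq_zero.1 (show (2 * μ) * Q v = 0 by linear_combination h + Q v * (-1) * hee)).resolve_right hv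
        |> (fun h => (mul_eq_zero.1 h).resolve_left h2))
    have huq : Q u = 0 := by
      have h := hΦ.mult u
      rw [hE.1 hu, q_smul hQ] at h
      simp only [one_app] at h
      have h3 : (2 * μ) * Q u = 0 := by linear_combination h + Q u * (-1) * hee
      exact (mul_eq_zero.1 h3).resolve_left (mul_ne_zero h2 hΦ.μ0)
    exact step (-e) u hu0 huq (hE.1 hu) e (by rw [← hee]; field_simp) he4

/-- The linear case with non-square `μ`. -/
theorem twin_nonsquare [Finite F] (hΦ : SSim Q 1 c μ Φ) (hn : 7 ≤ Fintype.card ι) (hμ : ∀ s : F, s * s ≠ μ) :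
    Twin Q Φ := by
  obtain ⟨L, hL⟩ : ∃ L : Module.End F Vι, ∀ x, L x = Φ x :=
    ⟨{ toFun := Φ, map_add' := hΦ.add, map_smul' := fun a x => hΦ.smul a x }, fun x => rfl⟩
  obtain ⟨v, hv⟩ : ∃ v : Vι, Q v ≠ 0 := by
    obtain ⟨v, -, hv⟩ := exists_anisotropic hQ (nondeg_top hQ) (fun e => by
      have h := congrArg (fun U : Submodule F Vι => finrank F U) e
      simp only [finrank_top, Module.finrank_fintype_fun_eq_card, finrank_bot] at h
      omega)
    exact ⟨v, hv⟩
  have hcc : c * c = μ * μ := by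
    have := hΦ.mult (Φ v)
    rw [hΦ.sq, q_smul hQ, hΦ.mult] at this
    simp only [one_app] at this
    exact mul_right_cancel₀ hv (by linear_combination -this)
  have hpm : ∀ x y, pol Q (Φ x) (Φ y) = c * pol Q x y := fun x y => hΦ.pol_map hQ x y
  have hadj : ∀ x y, pol Q (Φ x) y = c / μ * pol Q x (Φ y) := fun x y => by
    have h := hpm x (Φ y)
    rw [hΦ.sq, pol_smul_right hQ] at h
    rw [div_mul_eq_mul_div, eq_div_iff hΦ.μ0, mul_comm _ μ, h]
  have hmul : ∀ (a : F) x, Φ (a • x) = a • Φ x := fun a x => hΦ.smul a x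
  -- `Φ` moves every vector off a stable plane
  have hoff : ∀ u y : Vι, y ∉ Submodule.span F ({u, Φ u} : Set Vι) → ∀ a : F,
      Φ y - a • y ∉ Submodule.span F ({u, Φ u} : Set Vι) := by
    intro u y hy a hmem
    set P := Submodule.span F ({u, Φ u} : Set Vι) with hP
    have hPu : u ∈ P := Submodule.subset_span (Set.mem_insert _ _)
    have hPΦ : Φ u ∈ P := Submodule.subset_span (Set.mem_insert_of_mem _ rfl)
    obtain ⟨p, q, hpq⟩ := Submodule.mem_span_pair.1 hmem
    have h := congrArg Φ hpq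
    rw [hΦ.add, hmul, hmul, hΦ.sq, show Φ (Φ y - a • y) = Φ (Φ y) - Φ (a • y) from
      map_sub (AddMonoidHom.mk' Φ hΦ.add) _ _, hΦ.sq, hmul] at h
    have h2' : (μ - a * a) • y = (p • Φ u + q • μ • u) + a • (Φ y - a • y) := by rw [h]; module
    have h3 : (μ - a * a) • y ∈ P := h2' ▸ add_mem (add_mem (P.smul_mem _ hPΦ) (P.smul_mem _ (P.smul_mem _ hPu)))
      (P.smul_mem _ hmem)
    exact hy ((P.smul_mem_iff (sub_ne_zero.2 (hμ a).symm)).1 h3)
  have hzero : ∀ u : Vι, u ≠ 0 → Φ u ∉ Submodule.span F ({u} : Set Vι) := by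
    intro u hu0 hmem
    obtain ⟨a, ha⟩ := Submodule.mem_span_singleton.1 hmem
    have h := congrArg Φ ha
    rw [hmul, hΦ.sq, ← ha, smul_smul] at h
    exact hμ a (smul_left_injective F hu0 h)
  have hchoose : ∀ u : Vι, 3 ≤ finrank F ↥((LinearMap.ker (formQ hQ u) ⊓ LinearMap.ker (formQ hQ (Φ u))) ⊓
      (Submodule.exists_isCompl (Submodule.span F ({u, Φ u} : Set Vι))).choose) := by
    intro u
    have hc := (Submodule.exists_isCompl (Submodule.span F ({u, Φ u} : Set Vι))).choose_spec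
    have h1 := finrank_inf_ge hQ (LinearMap.ker (formQ hQ u)) (LinearMap.ker (formQ hQ (Φ u)))
    have h3 := finrank_inf_ge hQ (LinearMap.ker (formQ hQ u) ⊓ LinearMap.ker (formQ hQ (Φ u)))
      (Submodule.exists_isCompl (Submodule.span F ({u, Φ u} : Set Vι))).choose
    have h4 := Submodule.finrank_add_eq_of_isCompl hc
    rw [Module.finrank_fintype_fun_eq_card] at h4
    have := span_pair_le u (Φ u)
    have := le_finrank_ker hQ u
    have := le_finrank_ker hQ (Φ u)
    omega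
  have hout : ∀ u y : Vι, y ∈ (Submodule.exists_isCompl (Submodule.span F ({u, Φ u} : Set Vι))).choose → y ≠ 0 →
      y ∉ Submodule.span F ({u, Φ u} : Set Vι) := by
    intro u y hy hy0 hmem
    have hc := (Submodule.exists_isCompl (Submodule.span F ({u, Φ u} : Set Vι))).choose_spec
    exact hy0 (Submodule.disjoint_def.1 hc.disjoint y hmem hy)
  rcases (mul_self_eq_mul_self_iff.1 hcc).imp_left Eq.symm with rfl | rfl
  · -- self-adjoint
    have hadj' : ∀ x y, pol Q (Φ x) y = pol Q x (Φ y) := fun x y => by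
      rw [hadj, div_self hΦ.μ0, one_mul]
    have : Fintype F := Fintype.ofFinite F
    let B : Module.End F Vι → (Vι →ₗ[F] Vι →ₗ[F] F) := fun M => LinearMap.mk₂ F (fun x y => pol Q x (M y))
      (fun a b y => pol_add_left hQ a b _) (fun a x y => pol_smul_left hQ a x _)
      (fun x a b => by rw [map_add, pol_add_right hQ]) (fun a x y => by rw [map_smul, pol_smul_right hQ]; rfl)
    obtain ⟨u, -, hu0, hB⟩ := Cfsg.Agent.Elusive.exists_common_zero (κ := Bool)
      (fun k => bif k then B LinearMap.id else B L) ⊤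
      (by rw [finrank_top, Module.finrank_fintype_fun_eq_card, Fintype.card_bool]; omega)
    have hu : Q u = 0 := by
      have h := hB true
      change pol Q u u = 0 at h
      rw [pol_self hQ] at h
      exact (mul_eq_zero.1 h).resolve_left h2
    have huΦ : pol Q u (Φ u) = 0 := by
      have h := hB false
      change pol Q u (L u) = 0 at h
      rwa [hL] at h
    obtain ⟨y, ⟨⟨hyu, hyΦ⟩, hyW⟩, hy0⟩ := (Submodule.ne_bot_iff ((LinearMap.ker (formQ hQ u) ⊓
      LinearMap.ker (formQ hQ (Φ u))) ⊓ (Submodule.exists_isCompl (Submodule.span F ({u, Φ u} : Set Vι))).choose)).1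
      (fun e => by
      have h := hchoose u
      rw [e, finrank_bot] at h
      omega)
    have hyu' : pol Q y u = 0 := hyu
    have hyΦ' : pol Q y (Φ u) = 0 := hyΦ
    have hy' := hout u y hyW hy0
    let D : Vι → Module.End F Vι := fun y => biv hQ u y + μ⁻¹ • biv hQ (Φ u) (Φ y)
    have hDz : ∀ y z, D y z = pol Q z u • y - pol Q z y • u + μ⁻¹ • (pol Q z (Φ u) • Φ y - pol Q z (Φ y) • Φ u) :=
      fun y z => rfl
    let Xp : Vι → Prop := fun y => pol Q y u = 0 ∧ pol Q y (Φ u) = 0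
    have hXΦ : ∀ y, Xp y → Xp (Φ y) := fun y hy => ⟨by rw [hadj']; exact hy.2, by rw [hpm, hy.1, mul_zero]⟩
    have huu : pol Q u u = 0 := by rw [pol_self hQ, hu, mul_zero]
    have hP : Xp u := ⟨huu, huΦ⟩
    have hP' : Xp (Φ u) := hXΦ u hP
    have kill : ∀ y, Xp y → D y u = 0 ∧ D y (Φ u) = 0 := by
      intro y hy
      have h1 : pol Q u y = 0 := by rw [pol_comm]; exact hy.1
      have h2 : pol Q (Φ u) y = 0 := by rw [pol_comm]; exact hy.2
      have h3 : pol Q u (Φ y) = 0 := by rw [pol_comm]; exact (hXΦ y hy).1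
      have h4 : pol Q (Φ u) (Φ y) = 0 := by rw [pol_comm]; exact (hXΦ y hy).2
      exact ⟨by rw [hDz, hP.1, hP.2, h1, h3]; module, by rw [hDz, hP'.1, hP'.2, h2, h4]; module⟩
    have hin : ∀ y w, Xp w → D y w = -(pol Q w y) • u - (μ⁻¹ * pol Q w (Φ y)) • Φ u := by
      intro y w hw
      rw [hDz, hw.1, hw.2]; module
    have hfix : ∀ y x, D y (Φ x) = Φ (D y x) := by
      intro y x
      rw [hDz, hDz, hΦ.add, hmul, show ∀ a b, Φ (a - b) = Φ a - Φ b from map_sub (AddMonoidHom.mk' Φ hΦ.add),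
        show ∀ a b, Φ (a - b) = Φ a - Φ b from map_sub (AddMonoidHom.mk' Φ hΦ.add), hmul, hmul, hmul, hmul, hΦ.sq,
        hΦ.sq, hpm, hpm, hadj', hadj']
      match_scalars <;> field_simp [hΦ.μ0]
    have hcomm : ∀ y y', Xp y → Xp y' → ∀ x, D y (D y' x) = D y' (D y x) := by
      intro y y' hy hy' x
      rw [hDz y' x, hDz y x]
      simp only [map_add, map_sub, map_smul, (kill y hy).1, (kill y hy).2, (kill y' hy').1, (kill y' hy').2,
        hin y y' hy', hin y (Φ y') (hXΦ y' hy'), hin y' y hy, hin y' (Φ y) (hXΦ y hy), smul_zero, sub_zero]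
      rw [pol_comm y' y, hadj' y' y, hpm y' y, hadj' y y', hpm y y', pol_comm y' (Φ y), hadj' y y', pol_comm y' y]
    have hsk : ∀ y, Xp y → Sk Q (D y) := by
      intro y hy
      refine ⟨fun a b => ?_, fun x => ?_⟩
      · show pol Q (biv hQ u y a + μ⁻¹ • biv hQ (Φ u) (Φ y) a) b = -pol Q a (biv hQ u y b + μ⁻¹ • biv hQ (Φ u) (Φ y) b)
        rw [pol_add_left hQ, pol_add_right hQ, pol_smul_left hQ, pol_smul_right hQ, biv_skew hQ, biv_skew hQ]
        ring
      · rw [hDz y x]
        simp only [map_add, map_sub, map_smul, (kill y hy).1, (kill y hy).2, hin y y hy, hin y (Φ y) (hXΦ y hy),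
          map_neg, neg_smul, smul_zero, sub_zero, add_zero, neg_zero]
    obtain ⟨z, hz⟩ : ∃ z, pol Q z u = 1 ∧ pol Q z (Φ u) = 0 := by
      obtain ⟨f, hf, hf1⟩ := exists_dual (W := Submodule.span F ({Φ u} : Set Vι)) (u := u) (fun hmem => by
        obtain ⟨a, ha⟩ := Submodule.mem_span_singleton.1 hmem
        refine hzero u hu0 ?_
        have ha0 : a ≠ 0 := fun e => hu0 (by rw [← ha, e, zero_smul])
        exact Submodule.mem_span_singleton.2 ⟨a⁻¹, by conv_lhs => rw [← ha]
                                                      rw [inv_smul_smul₀ ha0]⟩)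
      obtain ⟨z, hz⟩ := exists_eq_pol hQ f
      exact ⟨z, by rw [pol_comm, ← hz, hf1], by
        rw [pol_comm, ← hz]; exact hf _ (Submodule.mem_span_singleton_self _)⟩
    have hDz' : ∀ y, D y z = y - pol Q z y • u - (μ⁻¹ * pol Q z (Φ y)) • Φ u := fun y => by
      rw [hDz, hz.1, hz.2]; module
    have hPu : u ∈ Submodule.span F ({u, Φ u} : Set Vι) := Submodule.subset_span (Set.mem_insert _ _)
    have hPΦ : Φ u ∈ Submodule.span F ({u, Φ u} : Set Vι) := Submodule.subset_span (Set.mem_insert_of_mem _ rfl)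
    have hXy : Xp y := ⟨hyu', hyΦ'⟩
    refine ⟨D y, D (Φ y), hsk y hXy, hsk _ (hXΦ y hXy), hcomm y _ hXy (hXΦ y hXy), hfix y, hfix _, fun e => ?_,
      fun k e => ?_⟩
    · have h := LinearMap.congr_fun e z
      rw [hDz', LinearMap.zero_apply, sub_sub, sub_eq_zero] at h
      exact hy' (h.symm ▸ add_mem (Submodule.smul_mem _ _ hPu) (Submodule.smul_mem _ _ hPΦ))
    · have h := LinearMap.congr_fun e z
      rw [LinearMap.smul_apply, hDz', hDz'] at h
      refine hoff u y hy' k ?_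
      rw [show Φ y - k • y = pol Q z (Φ y) • u + (μ⁻¹ * pol Q z (Φ (Φ y))) • Φ u -
        k • (pol Q z y • u + (μ⁻¹ * pol Q z (Φ y)) • Φ u) by linear_combination (norm := module) h]
      exact sub_mem (add_mem (Submodule.smul_mem _ _ hPu) (Submodule.smul_mem _ _ hPΦ))
        (Submodule.smul_mem _ _ (add_mem (Submodule.smul_mem _ _ hPu) (Submodule.smul_mem _ _ hPΦ)))
  · -- skew
    have hadj' : ∀ x y, pol Q (Φ x) y = -pol Q x (Φ y) := fun x y => by
      rw [hadj, neg_div, div_self hΦ.μ0, neg_one_mul]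
    have halt : ∀ x, pol Q x (Φ x) = 0 := fun x => by
      have h := hadj' x x
      rw [pol_comm (Φ x) x] at h
      exact (mul_eq_zero.1 (show (2 : F) * pol Q x (Φ x) = 0 by linear_combination h)).resolve_left h2
    obtain ⟨u, -, hu0, hu⟩ := exists_singular hQ (X := (⊤ : Submodule F Vι))
      (by rw [finrank_top, Module.finrank_fintype_fun_eq_card]; omega)
    obtain ⟨y, ⟨⟨hyu, hyΦ⟩, hyW⟩, hy0, hy⟩ := exists_singular hQ (hchoose u)
    have hyu' : pol Q y u = 0 := hyu
    have hyΦ' : pol Q y (Φ u) = 0 := hyΦ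
    have hy' := hout u y hyW hy0
    have hq : ∀ x, Q x = 0 → Q (Φ x) = 0 := fun x hx => by rw [hΦ.mult, hx, map_zero, mul_zero]
    have hfix : ∀ a x, biv hQ a (Φ a) (Φ x) = Φ (biv hQ a (Φ a) x) := by
      intro a x
      rw [hΦ.map_biv hQ, hΦ.sq, biv_apply, biv_apply, pol_smul_right hQ]
      match_scalars <;> field_simp [hΦ.μ0]
    have hkill : ∀ a b, pol Q b a = 0 → pol Q b (Φ a) = 0 → biv hQ a (Φ a) b = 0 := fun a b h1 h2 => by
      rw [biv_apply, h1, h2, zero_smul, zero_smul, sub_zero]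
    have hsk : ∀ a, Q a = 0 → Sk Q (biv hQ a (Φ a)) := fun a ha => by
      refine ⟨biv_skew hQ _ _, fun x => ?_⟩
      have e1 : biv hQ a (Φ a) a = 0 := hkill a a (by rw [pol_self hQ, ha, mul_zero]) (halt a)
      have e2 : biv hQ a (Φ a) (Φ a) = 0 :=
        hkill a _ (by rw [pol_comm]; exact halt a) (by rw [pol_self hQ, hq a ha, mul_zero])
      rw [biv_apply hQ a (Φ a) x, map_sub, map_smul, map_smul, e1, e2, smul_zero, smul_zero, sub_zero, map_zero]
    have k1 : biv hQ u (Φ u) y = 0 := hkill u y hyu' hyΦ'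
    have k2 : biv hQ u (Φ u) (Φ y) = 0 := hkill u _ (by rw [hadj', hyΦ', neg_zero]) (by rw [hpm, hyu', mul_zero])
    have k3 : biv hQ y (Φ y) u = 0 := hkill y u (by rw [pol_comm]; exact hyu') (by
      rw [pol_comm, hadj', hyΦ', neg_zero])
    have k4 : biv hQ y (Φ y) (Φ u) = 0 := hkill y _ (by rw [pol_comm]; exact hyΦ') (by
      rw [pol_comm, hpm, hyu', mul_zero])
    have hne : ∀ a, a ≠ 0 → ∀ P : Submodule F Vι, (∀ b : F, Φ a - b • a ∉ P) → ∀ M : Module.End F Vι,
        (∀ x, M x ∈ P) → biv hQ a (Φ a) ≠ M := by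
      intro a ha P hP M hM e
      obtain ⟨z, hz⟩ := exists_pol_one hQ ha
      have h := LinearMap.congr_fun e z
      rw [biv_apply, hz, one_smul] at h
      exact hP _ (h ▸ hM z)
    refine ⟨biv hQ u (Φ u), biv hQ y (Φ y), hsk u hu, hsk y hy, fun x => ?_, hfix u, hfix y, ?_, fun k => ?_⟩
    · rw [biv_apply hQ y (Φ y) x, biv_apply hQ u (Φ u) x, map_sub, map_sub, map_smul, map_smul, map_smul, map_smul,
        k1, k2, k3, k4, smul_zero, smul_zero, smul_zero, smul_zero]
    · refine hne u hu0 ⊥ (fun b hb => hzero u hu0 ?_) 0 fun x => rfl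
      rw [sub_eq_zero.1 ((Submodule.mem_bot F).1 hb)]
      exact Submodule.smul_mem _ _ (Submodule.mem_span_singleton_self u)
    · refine hne y hy0 _ (hoff u y hy') _ fun x => ?_
      rw [LinearMap.smul_apply, biv_apply]
      exact Submodule.smul_mem _ _ (sub_mem (Submodule.smul_mem _ _ (Submodule.subset_span (Set.mem_insert_of_mem _ rfl)))
        (Submodule.smul_mem _ _ (Submodule.subset_span (Set.mem_insert _ _))))

/-- Two skew elements in every case. -/
theorem exists_twin [Finite F] (hΦ : SSim Q τ c μ Φ) (hn : 7 ≤ Fintype.card ι) : Twin Q Φ := by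
  by_cases hτ : τ = 1
  · subst hτ
    by_cases hs : ∃ s : F, s * s = μ
    · obtain ⟨s, hs⟩ := hs
      exact twin_square hQ h2 hΦ hn hs
    · push Not at hs
      exact twin_nonsquare hQ h2 hΦ hn hs
  · exact twin_semilinear hQ h2 hΦ hτ hn

end Cfsg.Agent.InvRankP.Orth
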