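import Cfsg.Agent.Lib.InvRankP.Defs
import Cfsg.Agent.Lib.ChevAut.TwAutG2
import Cfsg.Agent.Lib.Lie.Ree5
import Cfsg.Agent.Lib.CTRec.TypeE

/-!
The small Ree groups: an involutory automorphism is inner, the involutions are conjugate to the torus
element `a₀`, and this commutes with the elementary abelian group of the `e(0, u, 0)`.
-/

set_option autoImplicit false
set_option linter.style.haveILetI false
set_option linter.unusedSectionVars false

namespace Cfsg.Agent.InvRankP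

open Cfsg.Lie Cfsg.Agent.Chev Cfsg.Agent.Chev.Tab Cfsg.Agent.ChevAut

universe u

section
variable {F : Type} [Field F] [Fintype F] [CharP F 3] {m : ℕ} (hK : Fintype.card F = 3 ^ (2 * m + 1))

theorem a0_eq_pT : Ree.a0 hK = TwOutG2.pT hK (TwOutG2.sU m (-1)) := by
  refine Subtype.ext ?_
  have h : TwOutG2.sU m (-1 : Fˣ) = -1 := by
    have ho : Odd (3 ^ m) := (by decide : Odd 3).pow
    rw [TwOutG2.sU, ho.neg_one_pow, (by decide : Odd 3).neg_one_pow]
    simp
  rw [h]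
  exact Ree.Hh_val hK (-1)

include hK in
theorem a0_comm_mid (u : F) :
    Ree.a0 hK * TwOutG2.e hK 0 u 0 * (Ree.a0 hK)⁻¹ = TwOutG2.e hK 0 u 0 := by
  rw [a0_eq_pT hK]
  have h := TwOutG2.pT_conj hK (-1) 0 u 0
  have ho : Odd (3 ^ m) := (by decide : Odd 3).pow
  rw [Units.val_neg, Units.val_one, ho.neg_one_pow, (by decide : Odd 3).neg_one_pow] at h
  simpa using h

include hK in
theorem twoFix_a0 (hm : 1 ≤ m) : TwoFix 3 (MulAut.conj (Ree.a0 hK : ↥(TwG2.X hK).G1)) := by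
  classical
  have hcard : 3 < Fintype.card F := by
    rw [hK]
    calc 3 < 3 ^ 3 := by norm_num
      _ ≤ _ := Nat.pow_le_pow_right (by norm_num) (by omega)
  obtain ⟨x, hx⟩ : ∃ x : F, x ∉ ({0, 1, -1} : Finset F) := by
    by_contra hne
    push Not at hne
    have := le_trans (Finset.card_le_card (s := Finset.univ) fun x _ => hne x) Finset.card_le_three
    rw [Finset.card_univ] at this
    omega
  simp only [Finset.mem_insert, Finset.mem_singleton, not_or] at hx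
  have h3 : ∀ u : F, u + u + u = 0 := fun u => by
    rw [show u + u + u = 3 * u by ring, TwG2.three_zero, zero_mul]
  have hcube : ∀ u : F, TwOutG2.e hK 0 u 0 ^ 3 = 1 := fun u => by
    rw [pow_succ, pow_two, TwOutG2.mid_mul, TwOutG2.mid_mul, h3, TwOutG2.e_zero]
  refine ⟨TwOutG2.e hK 0 1 0, TwOutG2.e hK 0 x 0, hcube 1, hcube x, ?_, a0_comm_mid hK 1, a0_comm_mid hK x,
    fun h => ?_, fun hz => ?_⟩
  · rw [TwOutG2.mid_mul, TwOutG2.mid_mul, add_comm]
  · rw [← TwOutG2.e_zero hK] at h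
    exact one_ne_zero (TwOutG2.e_inj hK h).2.1
  · obtain ⟨k, hk⟩ := Subgroup.mem_zpowers_iff.1 hz
    rw [← Int.emod_add_mul_ediv k 3, zpow_add, zpow_mul, zpow_ofNat, hcube, one_zpow, mul_one] at hk
    rcases (by omega : k % 3 = 0 ∨ k % 3 = 1 ∨ k % 3 = 2) with e | e | e <;> rw [e] at hk
    · rw [zpow_zero, ← TwOutG2.e_zero hK] at hk
      exact hx.1 (TwOutG2.e_inj hK hk).2.1.symm
    · rw [zpow_one] at hk
      exact hx.2.1 (TwOutG2.e_inj hK hk).2.1.symm
    · rw [zpow_ofNat, pow_two, TwOutG2.mid_mul] at hk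
      exact hx.2.2 (by linear_combination -(TwOutG2.e_inj hK hk).2.1 + h3 1)

include hK in
theorem rank2_ree (hm : 1 ≤ m) : Rank2 3 ↥(TwG2.X hK).G1 := by
  classical
  haveI : Fact (Nat.Prime 3) := ⟨Nat.prime_three⟩
  obtain ⟨hsimple, hna⟩ := (TwG2.X hK).simple (TwG2.blocks hK) (TwG2.hq (m := m)) (TwG2.hblk hK) TwG2.connOK
    (TwG2.sep hK) Nat.one_pos (TwG2.derived hK hm)
  haveI := hsimple
  have hz : Subgroup.center ↥(TwG2.X hK).G1 = ⊥ := CTRec.center_eq_bot (by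
    by_contra h
    push Not at h
    exact hna ⟨⟨h⟩⟩)
  intro φ h2
  have hin : φ ∈ Cfsg.Inn ↥(TwG2.X hK).G1 := by
    rw [← QuotientGroup.eq_one_iff, ← orderOf_eq_one_iff]
    have h1 : orderOf (φ : Cfsg.Out ↥(TwG2.X hK).G1) ∣ 2 := orderOf_dvd_of_pow_eq_one (by
      rw [← QuotientGroup.mk_pow, pow_two, h2, QuotientGroup.mk_one])
    have hc : Nat.card (Cfsg.Out ↥(TwG2.X hK).G1) = 2 * m + 1 := TwOutG2.card_out hK hm
    rcases (Nat.dvd_prime Nat.prime_two).1 h1 with h | h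
    · exact h
    · have := h ▸ orderOf_dvd_natCard (φ : Cfsg.Out ↥(TwG2.X hK).G1)
      rw [hc] at this
      omega
  obtain ⟨g, rfl⟩ : ∃ g, MulAut.conj g = φ := hin
  by_cases hg : g = 1
  · subst hg
    obtain ⟨a, b, ha, hb, hab, -, -, ha1, hbz⟩ := twoFix_a0 hK hm
    exact ⟨a, b, ha, hb, hab, by simp, by simp, ha1, hbz⟩
  have hgg : g * g = 1 := by
    rw [← Subgroup.mem_bot, ← hz, Subgroup.mem_center_iff]
    intro y
    have h := DFunLike.congr_fun h2 y
    rw [← map_mul, MulAut.conj_apply, MulAut.one_apply] at h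
    exact (mul_inv_eq_iff_eq_mul.1 h).symm
  obtain ⟨c, hc⟩ := Ree.invol_conj hK hm (z := g) hgg hg
  have h := (twoFix_a0 hK hm).conj (MulAut.conj c⁻¹)
  rw [← map_inv, ← map_mul, ← map_mul] at h
  rwa [show c⁻¹ * (Ree.a0 hK : ↥(TwG2.X hK).G1) * c⁻¹⁻¹ = g by rw [← hc]; group] at h

end

/-- Seat D: the Ree groups. -/
theorem ree : ReeStmt.{u} := by
  rintro G _ _ ⟨K, i1, i2, m, hm, hK, ⟨e⟩⟩
  haveI : Fact (Nat.Prime 3) := ⟨Nat.prime_three⟩
  haveI : CharP K 3 := charP_of_card_eq_prime_pow (f := 2 * m + 1) hK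
  exact (rank2_ree hK hm).congr e

end Cfsg.Agent.InvRankP
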