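import Cfsg.Agent.Lib.InvRankP.ClassicalBase
import Cfsg.Agent.Lib.AutPSp.Final

/-!
S2876, symplectic groups: every automorphism of order at most 2 of `PSp_{2m}` (`m ≥ 2`, not `PSp₄(p)`)
fixes an elementary abelian group of order `p²`.
-/

set_option autoImplicit false
set_option linter.style.haveILetI false

namespace Cfsg.Agent.InvRankP.Symp

open Matrix Module Cfsg.Agent.InvRankP.Classical

variable {F : Type*} [Field F] {m : ℕ}

local notation "Vm" => Fin m ⊕ Fin m → F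
local notation "Mm" => Matrix (Fin m ⊕ Fin m) (Fin m ⊕ Fin m) F
local notation "Spm" => Matrix.symplecticGroup (Fin m) F
local notation "PSpm" => Cfsg.PSp m F
local notation "GSpm" => Cfsg.GSp m F
local notation "GLm" => GL (Fin m ⊕ Fin m) F

/-- The alternating form. -/
def form : Form F (Fin m ⊕ Fin m) where
  b := AutPSp.B
  σ := 1
  ε := -1
  sq := one_mul 1
  unit := by simp
  add_right := AutPSp.add_right
  smul_right := AutPSp.smul_right
  swap x y := by rw [AutPSp.swap x y, neg_one_mul]; rfl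
  nondeg _ h := AutPSp.nondeg h

local notation "Φ" => (form (F := F) (m := m))

theorem form_σ (a : F) : (Φ).σ a = a := rfl

theorem form_σε : (Φ).σ (Φ).ε = -1 := rfl

theorem self_zero (x : Vm) : (Φ).b x x = 0 := AutPSp.self_zero x

theorem finrank_V : finrank F Vm = m + m := by
  rw [Module.finrank_fintype_fun_eq_card, Fintype.card_sum, Fintype.card_fin]

theorem neg_ne {p : ℕ} [Fact p.Prime] [CharP F p] (hp : p ≠ 2) {r : F} (hr : r ≠ 0) :
    (Φ).σ ((Φ).ε * r) ≠ r := by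
  rw [form_σ, show (Φ).ε = -1 from rfl, neg_one_mul]
  exact fun e => hr ((mul_eq_zero.1 (show (2 : F) * r = 0 by linear_combination -e)).resolve_left
    (two_ne_zero' p hp))

/-- The matrix of an element of `Sp`. -/
def toMat : Spm →* Mm where
  toFun s := s
  map_one' := rfl
  map_mul' _ _ := rfl

theorem twoFix (p : ℕ) [Fact p.Prime] [CharP F p] (hp : p ≠ 2) (hm : 0 < m) {g : GSpm} {τ : F ≃+* F}
    {A B : Mm} (hP : IsPair A B) (hA : (Φ).Skew A) (hB : (Φ).Skew B)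
    (hcA : (Semi.ofGL (g : GLm) τ).Comm A) (hcB : (Semi.ofGL (g : GLm) τ).Comm B) :
    TwoFix p (AutPSp.semi g τ : MulAut PSpm) := by
  haveI : Nonempty (Fin m ⊕ Fin m) := ⟨Sum.inl ⟨0, hm⟩⟩
  have mem : ∀ N : Mm, N * N * N = 0 → (Φ).Skew N → ex N ∈ Spm := fun N h3 hN =>
    (ClassicalSp.mem_iff_preserves _).2 fun u v => (Φ).ex_pres (two_ne_zero' p hp) h3 hN u v
  have fix : ∀ (N : Mm) (s : Spm), (s : Mm) = ex N → (Semi.ofGL (g : GLm) τ).Comm N →
      (AutPSp.semi g τ : MulAut PSpm) (QuotientGroup.mk s) = QuotientGroup.mk s := by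
    intro N s hs hN
    rw [AutPSp.semi_mk]
    refine congrArg QuotientGroup.mk (Subtype.ext ?_)
    rw [AutPSp.spConj_coe, hs]
    exact conj_eq_of_comm _ (Semi.Comm.ex _ hN)
  refine twoFix_of_pair p hp (QuotientGroup.mk' (Subgroup.center Spm)) toMat
    (fun _ _ e => Subtype.ext e) (fun s hs => ?_) hP
    (a := ⟨ex A, mem A hP.aaa hA⟩) (b := ⟨ex B, mem B hP.bbb hB⟩) rfl rfl
    (fix A _ rfl hcA) (fix B _ rfl hcB)
  obtain ⟨c, hc⟩ := (AutPSp.mem_center_iff s).1 ((QuotientGroup.eq_one_iff s).1 hs)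
  refine ⟨c, Matrix.ext_of_mulVec_single fun i => ?_⟩
  rw [Matrix.smul_mulVec, Matrix.one_mulVec]
  exact hc _

variable [Finite F]

/-- The case of a nontrivial field automorphism. -/
theorem exists_pair_field (p : ℕ) [Fact p.Prime] [CharP F p] (hp : p ≠ 2) (hm : 2 ≤ m)
    {τ : F ≃+* F} (hττ : τ * τ = 1) (hτ : τ ≠ 1) (T : Semi τ (Fin m ⊕ Fin m)) {a μ : F}
    (ha : a ≠ 0) (hTT : ∀ x, T.S (T.S x) = a • x) (hμ : μ ≠ 0)
    (hsim : ∀ x y, (Φ).b (T.S x) (T.S y) = μ * τ ((Φ).b x y)) :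
    ∃ A B : Mm, IsPair A B ∧ (Φ).Skew A ∧ (Φ).Skew B ∧ T.Comm A ∧ T.Comm B := by
  have h2 := two_ne_zero' (F := F) p hp
  have hss : ∀ r : F, τ (τ r) = r := invol_apply hττ
  obtain ⟨e0, he0⟩ : ∃ e : Vm, e ≠ 0 := ⟨Pi.single (Sum.inl ⟨0, by omega⟩) 1, fun e => by
    simpa using congrFun e (Sum.inl ⟨0, by omega⟩)⟩
  have hτa : τ a = a := by
    have h := (congrArg T.S (hTT e0)).symm.trans (hTT (T.S e0))
    rw [T.map_smul] at h
    exact smul_left_injective F (fun e => he0 (T.inj (e.trans T.map_zero.symm))) h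
  obtain ⟨δ, hδ, hδτ⟩ := exists_imag hττ hτ
  obtain ⟨s, r, hs, hr, hsr⟩ := exists_fixed_sol h2 τ (A := 1) (B := -δ * δ) (C := -a⁻¹) (map_one τ)
    (by rw [map_mul, map_neg, hδτ]; ring) (by rw [map_neg, map_inv₀, hτa]) one_ne_zero
    (mul_ne_zero (neg_ne_zero.2 hδ) hδ)
  obtain ⟨t, htdef⟩ : ∃ t, t = s + r * δ := ⟨_, rfl⟩
  have hN : t * τ t = a⁻¹ := by
    rw [htdef, map_add, map_mul, hs, hr, hδτ]
    linear_combination hsr
  have ht : t ≠ 0 := fun e => inv_ne_zero ha (by rw [← hN, e, zero_mul])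
  obtain ⟨T₁, hT₁⟩ : ∃ T₁, T₁ = T.scale t ht := ⟨_, rfl⟩
  have hS₁ : ∀ x, T₁.S x = t • T.S x := fun x => by rw [hT₁]; rfl
  have hinv : ∀ x, T₁.S (T₁.S x) = x := fun x => by
    rw [hS₁, hS₁, T.map_smul, hTT, smul_smul, smul_smul, hN, inv_mul_cancel₀ ha, one_smul]
  obtain ⟨μ₁, hμ₁d⟩ : ∃ μ₁, μ₁ = t * t * μ := ⟨_, rfl⟩
  have hμ₁ : μ₁ ≠ 0 := hμ₁d ▸ mul_ne_zero (mul_ne_zero ht ht) hμ
  have hsim₁ : ∀ x y, (Φ).b (T₁.S x) (T₁.S y) = μ₁ * τ ((Φ).b x y) := fun x y => by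
    rw [hS₁, hS₁, (Φ).smul_left, (Φ).smul_right, hsim, form_σ, hμ₁d]
    ring
  have hμτ : μ₁ * τ μ₁ = 1 := by
    obtain ⟨w, hw⟩ := (Φ).exists_one he0
    have h := hsim₁ (T₁.S e0) (T₁.S w)
    rw [hinv, hinv, hsim₁, hw, map_mul, map_one, map_one, mul_one] at h
    exact h.symm
  obtain ⟨v, -, hv0, hv⟩ := T₁.exists_fixed_outside h2 hττ hτ ⊤ ⊥ (fun _ _ => trivial)
    (fun u _ => hinv u) (fun h => he0 (by simpa using h (Submodule.mem_top (x := e0))))
  have hvne : v ≠ 0 := fun e => hv0 (e ▸ Submodule.zero_mem _)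
  obtain ⟨T₂, hT₂⟩ : ∃ T₂, T₂ = T₁.scale μ₁⁻¹ (inv_ne_zero hμ₁) := ⟨_, rfl⟩
  have hS₂ : ∀ x, T₂.S x = μ₁⁻¹ • T₁.S x := fun x => by rw [hT₂]; rfl
  obtain ⟨w, hw, hwv, hwfix⟩ := T₂.exists_fixed_outside h2 hττ hτ (LinearMap.ker ((Φ).lin v)) (F ∙ v)
    (fun u hu => by
      rw [LinearMap.mem_ker, Form.lin_apply] at hu ⊢
      rw [hS₂, (Φ).smul_right, ← hv, hsim₁, hu, map_zero, mul_zero, mul_zero])
    (fun u _ => by
      rw [hS₂, hS₂, T₁.map_smul, hinv, smul_smul, map_inv₀, ← mul_inv, hμτ, inv_one, one_smul])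
    (fun h => by
      obtain ⟨w, hw, hwv⟩ := (Φ).exists_perp_outside v (by
        rw [Fintype.card_sum, Fintype.card_fin]; omega)
      exact hwv (h (LinearMap.mem_ker.2 hw)))
  rw [LinearMap.mem_ker, Form.lin_apply] at hw
  obtain ⟨r₁, hr₁, hr₁τ⟩ := exists_ratio hττ hτ hμτ
  have hc1 : T₁.S v = (1 : F) • v := by rw [hv, one_smul]
  have hcomm : ∀ u, (((Φ).σ 1) / μ₁) • T₁.S u = u → T.Comm ((Φ).sie v u) := fun u hu =>
    Semi.Comm.of_scale T ht (hT₁ ▸ (Φ).comm_sie T₁ hμ₁ rfl (by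
      show τ (-1) = -1
      rw [map_neg, map_one]) hsim₁ one_ne_zero hc1 hu)
  refine ⟨_, _, (Φ).pair_sie_self hvne (self_zero v) hw hwv (neg_ne hp hr₁), (Φ).sie_skew _ _,
    (Φ).sie_skew _ _, hcomm _ ?_, hcomm _ ?_⟩
  · rw [map_one, T₁.map_smul, hv, smul_smul, hr₁τ, ← mul_assoc, one_div, inv_mul_cancel₀ hμ₁,
      one_mul]
  · rw [map_one, one_div, ← hS₂]
    exact hwfix

/-- An eigenspace. -/
def eig (T : Semi (1 : F ≃+* F) (Fin m ⊕ Fin m)) (e : F) : Submodule F Vm where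
  carrier := {x | T.S x = e • x}
  add_mem' {x y} (hx : T.S x = _) (hy : T.S y = _) := by
    show T.S (x + y) = _
    rw [T.map_add, hx, hy, smul_add]
  zero_mem' := by
    show T.S 0 = _
    rw [T.map_zero, smul_zero]
  smul_mem' c x (hx : T.S x = _) := by
    show T.S (c • x) = _
    rw [T.map_smul, hx, smul_comm]
    rfl

omit [Finite F] in
theorem mem_eig {T : Semi (1 : F ≃+* F) (Fin m ⊕ Fin m)} {e : F} {x : Vm} :
    x ∈ eig T e ↔ T.S x = e • x := Iff.rfl

/-- The square case. -/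
theorem exists_pair_square (p : ℕ) [Fact p.Prime] [CharP F p] [Fintype F] (hp : p ≠ 2) (hm : 2 ≤ m)
    (hq : m = 2 → p < Fintype.card F) (T : Semi (1 : F ≃+* F) (Fin m ⊕ Fin m)) {μ : F}
    (hTT : ∀ x, T.S (T.S x) = x) (hsim : ∀ x y, (Φ).b (T.S x) (T.S y) = μ * (Φ).b x y) :
    ∃ A B : Mm, IsPair A B ∧ (Φ).Skew A ∧ (Φ).Skew B ∧ T.Comm A ∧ T.Comm B := by
  have h2 := two_ne_zero' (F := F) p hp
  obtain ⟨e0, he0⟩ : ∃ e : Vm, e ≠ 0 := ⟨Pi.single (Sum.inl ⟨0, by omega⟩) 1, fun e => by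
    simpa using congrFun e (Sum.inl ⟨0, by omega⟩)⟩
  obtain ⟨w0, hw0⟩ := (Φ).exists_one he0
  have hμ2 : μ * μ = 1 := by
    have h := hsim (T.S e0) (T.S w0)
    rw [hTT, hTT, hsim, hw0, mul_one] at h
    exact h.symm
  have hμ0 : μ ≠ 0 := left_ne_zero_of_mul_eq_one hμ2
  have hsum : m + m ≤ finrank F (eig T 1) + finrank F (eig T (-1)) := by
    have htop : eig T 1 ⊔ eig T (-1) = ⊤ := eq_top_iff.2 fun x _ => by
      have hx : x = (2 : F)⁻¹ • (x + T.S x) + (2 : F)⁻¹ • (x - T.S x) := by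
        rw [← smul_add, show x + T.S x + (x - T.S x) = (2 : F) • x by rw [two_smul]; abel, smul_smul,
          inv_mul_cancel₀ h2, one_smul]
      rw [hx]
      refine Submodule.add_mem_sup ((eig T 1).smul_mem _ ?_) ((eig T (-1)).smul_mem _ ?_)
      · rw [mem_eig, T.map_add, hTT, one_smul, add_comm]
      · rw [mem_eig, T.map_sub, hTT, neg_one_smul, neg_sub]
    have h := Submodule.finrank_add_le_finrank_add_finrank (eig T 1) (eig T (-1))
    rwa [htop, finrank_top, finrank_V] at h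
  have hcomm : ∀ (e : F), e * e = 1 → ∀ v u : Vm, T.S v = e • v → T.S u = (μ * e) • u →
      T.Comm ((Φ).sie v u) := by
    intro e he v u hv hu
    refine (Φ).comm_sie T (μ := μ) hμ0 rfl rfl hsim (left_ne_zero_of_mul_eq_one he) hv ?_
    rw [hu, smul_smul, form_σ, show e / μ * (μ * e) = e * e by field_simp, he, one_smul]
  obtain ⟨e, he, hbig⟩ : ∃ e : F, e * e = 1 ∧ m ≤ finrank F (eig T e) := by
    by_cases h : m ≤ finrank F (eig T 1)
    · exact ⟨1, one_mul 1, h⟩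
    · exact ⟨-1, by ring, by omega⟩
  rcases mul_self_eq_one_iff.1 hμ2 with hμ | hμ
  · obtain ⟨e', he', hbig', hbig3⟩ : ∃ e' : F, e' * e' = 1 ∧ m ≤ finrank F (eig T e') ∧
        (3 ≤ m → 3 ≤ finrank F (eig T e')) := ⟨e, he, hbig, fun h => le_trans h hbig⟩
    obtain ⟨v, hvE, -, hv0⟩ := Form.exists_ker_outside ![] (eig T e') ⊥
      (by rw [finrank_bot]; omega)
    have hv : v ≠ 0 := fun h => hv0 (h ▸ Submodule.zero_mem _)
    have hvv := self_zero v
    have hE : ∀ u ∈ eig T e', T.Comm ((Φ).sie v u) := fun u hu =>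
      hcomm e' he' v u hvE (by rw [hμ, one_mul]; exact hu)
    by_cases h : m = 2
    · obtain ⟨t, ht⟩ := exists_gen_top (F := F) p (hq h)
      refine ⟨_, _, (Φ).pair_sie hvv hvv (b := t • v) (by rw [(Φ).smul_right, hvv, mul_zero]) ?_ ?_
        (fun j => ?_), (Φ).sie_skew _ _, (Φ).sie_skew _ _, hE v hvE,
        hE _ ((eig T e').smul_mem t hvE)⟩
      · rw [(Φ).smul_right, (Φ).smul_left, hvv, mul_zero, mul_zero]
      · have := (Φ).sie_self_ne_zero hv (neg_ne hp (one_ne_zero (α := F)))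
        rwa [one_smul] at this
      · rw [← Nat.cast_smul_eq_nsmul F, ← add_smul]
        exact (Φ).sie_self_ne_zero hv (neg_ne hp (ht j))
    · obtain ⟨w, hwE, hw, hwv⟩ := Form.exists_ker_outside ![(Φ).lin v] (eig T e') (F ∙ v) (by
        have := Form.finrank_span_le_one (F := F) v
        have := hbig3 (by omega)
        omega)
      exact ⟨_, _, (Φ).pair_sie_self hv hvv (hw 0) hwv (neg_ne hp (one_ne_zero (α := F))),
        (Φ).sie_skew _ _, (Φ).sie_skew _ _, hE _ ((eig T e').smul_mem 1 hvE), hE w hwE⟩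
  · have hiso : ∀ f : F, f * f = 1 → ∀ x y : Vm, T.S x = f • x → T.S y = f • y → (Φ).b x y = 0 := by
      intro f hf x y hx hy
      have h := hsim x y
      rw [hx, hy, (Φ).smul_left, (Φ).smul_right, form_σ, ← mul_assoc, hf, one_mul, hμ,
        neg_one_mul] at h
      exact (mul_eq_zero.1 (show (2 : F) * (Φ).b x y = 0 by linear_combination h)).resolve_left h2
    have hne : -e ≠ e := fun h => left_ne_zero_of_mul_eq_one he
      ((mul_eq_zero.1 (show (2 : F) * e = 0 by linear_combination -h)).resolve_left h2)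
    obtain ⟨v, hvE, hv⟩ : ∃ v ∈ eig T (-e), v ≠ 0 := by
      refine Submodule.exists_mem_ne_zero_of_ne_bot fun hbot => ?_
      have h0 : finrank F (eig T (-e)) = 0 := by rw [hbot, finrank_bot]
      have htop : eig T e = ⊤ := by
        refine Submodule.eq_top_of_finrank_eq ?_
        have hle := Submodule.finrank_le (eig T e)
        rw [finrank_V] at hle ⊢
        rcases mul_self_eq_one_iff.1 he with h | h <;> rw [h] at h0 hle ⊢
        · omega
        · rw [neg_neg] at h0; omega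
      refine he0 ((Φ).nondeg e0 fun y => hiso e he e0 y ?_ ?_) <;>
        (rw [← mem_eig, htop]; trivial)
    have hvv := self_zero v
    have hE : ∀ u ∈ eig T e, T.Comm ((Φ).sie v u) := fun u hu =>
      hcomm (-e) (by linear_combination he) v u hvE (by
        rw [hμ, show -1 * -e = e by ring]; exact hu)
    have hout : ∀ u ∈ eig T e, u ≠ 0 → u ∉ F ∙ v := by
      intro u hu hu0 hm
      obtain ⟨r, hr⟩ := Submodule.mem_span_singleton.1 hm
      have h1 : T.S u = -e • u := by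
        conv_lhs => rw [← hr, T.map_smul, show T.S v = -e • v from hvE]
        rw [show (1 : F ≃+* F) r = r from rfl, smul_comm, hr]
      rw [mem_eig.1 hu] at h1
      exact hu0 ((smul_eq_zero.1 (show (e - -e) • u = 0 by rw [sub_smul, h1, sub_self])).resolve_left
        fun h => hne (by linear_combination -h))
    obtain ⟨w, hwE, hw, hw0⟩ := Form.exists_ker_outside ![(Φ).lin v] (eig T e) ⊥ (by
      rw [finrank_bot]; omega)
    have hwne : w ≠ 0 := fun h => hw0 (h ▸ Submodule.zero_mem _)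
    by_cases h : m = 2
    · obtain ⟨t, ht⟩ := exists_gen_top (F := F) p (hq h)
      exact ⟨_, _, (Φ).pair_sie_smul hv hvv (hw 0) (hout w hwE hwne) ht (Or.inl rfl),
        (Φ).sie_skew _ _, (Φ).sie_skew _ _, hE w hwE, hE _ ((eig T e).smul_mem t hwE)⟩
    · obtain ⟨w', hwE', hw', hwv'⟩ := Form.exists_ker_outside ![(Φ).lin v] (eig T e) (F ∙ w) (by
        have := Form.finrank_span_le_one (F := F) w
        omega)
      refine ⟨_, _, (Φ).pair_sie hvv (hw 0) (hw' 0) ?_ ((Φ).sie_ne_zero hv (hout w hwE hwne))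
        (fun j => ?_), (Φ).sie_skew _ _, (Φ).sie_skew _ _, hE w hwE, hE w' hwE'⟩
      · rw [hiso e he w w' hwE hwE', hiso e he w' w hwE' hwE]
      · have hmem : j • w ∈ F ∙ w :=
          (F ∙ w).smul_of_tower_mem j (Submodule.mem_span_singleton_self w)
        refine (Φ).sie_ne_zero hv (hout _ ((eig T e).add_mem hwE' ((eig T e).smul_of_tower_mem j hwE))
          fun h0 => hwv' ?_)
        rw [eq_neg_of_add_eq_zero_left h0]
        exact neg_mem hmem

omit [Finite F] in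
theorem exists_dual {v u : Vm} (hv : v ∉ F ∙ u) : ∃ x, (Φ).b v x = 1 ∧ (Φ).b u x = 0 := by
  obtain ⟨x, hx, hx'⟩ : ∃ x, (Φ).b u x = 0 ∧ (Φ).b v x ≠ 0 := by
    by_contra! h
    by_cases hu : u = 0
    · refine hv ?_
      rw [(Φ).nondeg v fun x => h x (by rw [hu, (Φ).zero_left])]
      exact Submodule.zero_mem _
    · obtain ⟨x0, hx0⟩ := (Φ).exists_one hu
      refine hv (Submodule.mem_span_singleton.2 ⟨(Φ).b v x0, ?_⟩)
      refine ((sub_eq_zero.1 ((Φ).nondeg (v - (Φ).b v x0 • u) fun x => ?_))).symm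
      have h1 := h (x - (Φ).b u x • x0) (by
        rw [(Φ).sub_right, (Φ).smul_right, hx0, mul_one, sub_self])
      rw [(Φ).sub_right, (Φ).smul_right] at h1
      rw [sub_eq_add_neg, ← neg_smul, (Φ).add_left, (Φ).smul_left, form_σ]
      linear_combination h1
  exact ⟨((Φ).b v x)⁻¹ • x, by rw [(Φ).smul_right, inv_mul_cancel₀ hx'],
    by rw [(Φ).smul_right, hx, mul_zero]⟩

/-- The nonsquare case. -/
theorem exists_pair_nonsquare (p : ℕ) [Fact p.Prime] [CharP F p] [Fintype F] (hp : p ≠ 2)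
    (hm : 2 ≤ m) (hq : m = 2 → p < Fintype.card F) (T : Semi (1 : F ≃+* F) (Fin m ⊕ Fin m))
    {a μ : F} (hns : ∀ c : F, c * c ≠ a) (hTT : ∀ x, T.S (T.S x) = a • x) (hμ : μ ≠ 0)
    (hsim : ∀ x y, (Φ).b (T.S x) (T.S y) = μ * (Φ).b x y) :
    ∃ A B : Mm, IsPair A B ∧ (Φ).Skew A ∧ (Φ).Skew B ∧ T.Comm A ∧ T.Comm B := by
  have h2 := two_ne_zero' (F := F) p hp
  have ha : a ≠ 0 := fun h => hns 0 (by rw [h, mul_zero])
  have hid : ∀ r : F, (1 : F ≃+* F) r = r := fun _ => rfl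
  obtain ⟨e0, he0⟩ : ∃ e : Vm, e ≠ 0 := ⟨Pi.single (Sum.inl ⟨0, by omega⟩) 1, fun e => by
    simpa using congrFun e (Sum.inl ⟨0, by omega⟩)⟩
  obtain ⟨w0, hw0⟩ := (Φ).exists_one he0
  have hμ2 : μ * μ = a * a := by
    have h := hsim (T.S e0) (T.S w0)
    rw [hTT, hTT, hsim, hw0, mul_one, (Φ).smul_left, (Φ).smul_right, form_σ, hw0, mul_one] at h
    exact h.symm
  have hfree : ∀ x : Vm, x ≠ 0 → x ∉ F ∙ T.S x := by
    intro x hx hmem
    obtain ⟨r, hr⟩ := Submodule.mem_span_singleton.1 hmem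
    have h1 := congrArg T.S hr
    rw [T.map_smul, hid, hTT, smul_smul] at h1
    have hr0 : r ≠ 0 := fun e => hx (by rw [← hr, e, zero_smul])
    have h3 : (r * r * a) • x = x := by rw [mul_assoc, mul_smul, h1, hr]
    have h4 : r * r * a = 1 := smul_left_injective F hx (h3.trans (one_smul F x).symm)
    exact hns r⁻¹ (by field_simp; linear_combination -h4)
  obtain ⟨v, hv, hvu⟩ : ∃ v : Vm, v ≠ 0 ∧ (Φ).b v (T.S v) = 0 := by
    rcases mul_self_eq_mul_self_iff.1 hμ2 with hμa | hμa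
    · refine ⟨e0, he0, ?_⟩
      have h := hsim e0 (T.S e0)
      rw [hTT, (Φ).smul_right, hμa, (Φ).swap e0 (T.S e0), form_σ, show (Φ).ε = -1 from rfl] at h
      exact (mul_eq_zero.1 (show (2 * a) * (Φ).b e0 (T.S e0) = 0 by
        linear_combination -h)).resolve_left (mul_ne_zero h2 ha)
    · let Ψ : Form F (Fin m ⊕ Fin m) :=
        { b := fun x y => (Φ).b x (T.S y)
          σ := 1
          ε := 1
          sq := one_mul 1
          unit := by simp
          add_right := fun x y z => by rw [T.map_add, (Φ).add_right]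
          smul_right := fun c x y => by rw [T.map_smul, hid, (Φ).smul_right]
          swap := fun x y => by
            have h := hsim x (T.S y)
            rw [hTT, (Φ).smul_right, hμa] at h
            rw [one_mul, hid, (Φ).swap (T.S x) y, form_σ, show (Φ).ε = -1 from rfl]
            exact mul_left_cancel₀ ha (by linear_combination -h)
          nondeg := fun x hx => (Φ).nondeg x fun y => by
            have h := hx (a⁻¹ • T.S y)
            rwa [T.map_smul, hid, hTT, smul_smul, inv_mul_cancel₀ ha, one_smul] at h }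
      obtain ⟨v, -, hv, hvv⟩ := Ψ.exists_iso h2 rfl ⊤ (by rw [finrank_top, finrank_V]; omega)
      exact ⟨v, hv, hvv⟩
  obtain ⟨u, hu⟩ : ∃ u, u = T.S v := ⟨_, rfl⟩
  rw [← hu] at hvu
  have huv : (Φ).b u v = 0 := (Φ).eq_zero_comm hvu
  have huu := self_zero u
  have hvv := self_zero v
  obtain ⟨M, hM⟩ : ∃ M : Vm → Mm, ∀ w, M w = (Φ).sie v w + μ⁻¹ • (Φ).sie u (T.S w) :=
    ⟨_, fun _ => rfl⟩
  have hMx : ∀ w x, M w *ᵥ x = (Φ).b v x • w + (Φ).b w x • v +
      μ⁻¹ • ((Φ).b u x • T.S w + (Φ).b (T.S w) x • u) := fun w x => by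
    rw [hM, Matrix.add_mulVec, Matrix.smul_mulVec, (Φ).sie_mulVec, (Φ).sie_mulVec, form_σε]
    simp only [neg_one_mul, neg_smul, sub_neg_eq_add]
  have hskew : ∀ w, (Φ).Skew (M w) := fun w =>
    hM w ▸ Form.Skew.add Φ ((Φ).sie_skew _ _) (Form.Skew.smul Φ rfl ((Φ).sie_skew _ _))
  have hswapT : ∀ z x, μ * (Φ).b z (T.S x) = a * (Φ).b (T.S z) x := fun z x => by
    have h := hsim z (T.S x)
    rw [hTT, (Φ).smul_right] at h
    exact h.symm
  have hcomm : ∀ w, T.Comm (M w) := by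
    intro w x
    have e1 : (Φ).b v (T.S x) = μ⁻¹ * (a * (Φ).b u x) := by
      rw [hu, ← hswapT, ← mul_assoc, inv_mul_cancel₀ hμ, one_mul]
    have e2 : (Φ).b w (T.S x) = μ⁻¹ * (a * (Φ).b (T.S w) x) := by
      rw [← hswapT, ← mul_assoc, inv_mul_cancel₀ hμ, one_mul]
    have e3 : (Φ).b u (T.S x) = μ * (Φ).b v x := by rw [hu, hsim]
    rw [hMx, hMx, e1, e2, e3, hsim w x]
    simp only [T.map_add, T.map_smul, hid, hTT, ← hu, show T.S u = a • v from hu ▸ hTT v, smul_smul,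
      smul_add, mul_assoc, inv_mul_cancel_left₀ hμ]
    simp only [mul_comm a]
    abel
  have hMadd : ∀ w w', M (w + w') = M w + M w' := fun w w' => Form.ext_mulVec fun x => by
    simp only [hMx, Matrix.add_mulVec, (Φ).add_left, T.map_add, smul_add, add_smul]
    abel
  have hM0 : M 0 = 0 := by
    have := hMadd 0 0
    rwa [add_zero, left_eq_add] at this
  have hMn : ∀ (j : ℕ) (w : Vm), M (j • w) = j • M w := fun j w => by
    induction j with
    | zero => rw [zero_smul, zero_smul, hM0]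
    | succ j ih => rw [succ_nsmul, hMadd, ih, succ_nsmul]
  have hlin : ∀ (r : F) (x : Vm), M (r • v) *ᵥ x = (r * (Φ).b v x + r * (Φ).b v x) • v +
      (μ⁻¹ * (r * (Φ).b u x + r * (Φ).b u x)) • u := fun r x => by
    rw [hMx, (Φ).smul_left, T.map_smul, hid, form_σ, ← hu, (Φ).smul_left, form_σ, smul_smul,
      smul_add, smul_smul, smul_smul, smul_smul, ← add_smul, ← add_smul]
    congr 2 <;> ring
  obtain ⟨x1, hx1v, hx1u⟩ := exists_dual (v := v) (u := u) (hu ▸ hfree v hv)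
  have hne : ∀ r : F, r ≠ 0 → M (r • v) ≠ 0 := fun r hr e => by
    have h := hlin r x1
    rw [e, Matrix.zero_mulVec, hx1v, hx1u, mul_one, mul_zero, add_zero, mul_zero, zero_smul,
      add_zero, eq_comm, smul_eq_zero, or_iff_left hv] at h
    exact hr ((mul_eq_zero.1 (show (2 : F) * r = 0 by linear_combination h)).resolve_left h2)
  have hkillL : ∀ w, (Φ).b v w = 0 → (Φ).b u w = 0 → M w *ᵥ v = 0 ∧ M w *ᵥ u = 0 := by
    intro w hwv hwu
    have e1 : (Φ).b (T.S w) v = 0 := by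
      have h := hswapT w v
      rw [← hu, (Φ).eq_zero_comm hwu, mul_zero] at h
      exact (mul_eq_zero.1 h.symm).resolve_left ha
    have e2 : (Φ).b (T.S w) u = 0 := by rw [hu, hsim, (Φ).eq_zero_comm hwv, mul_zero]
    constructor
    · rw [hMx, hvv, huv, (Φ).eq_zero_comm hwv, e1]; simp
    · rw [hMx, hvu, huu, (Φ).eq_zero_comm hwu, e2]; simp
  have hAkill : ∀ r : F, ∀ z, (Φ).b v z = 0 → (Φ).b u z = 0 → M (r • v) *ᵥ z = 0 := fun r z h1 h1' => by
    rw [hlin, h1, h1']; simp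
  have hAA : ∀ r s : F, M (r • v) * M (s • v) = 0 := fun r s => Form.ext_mulVec fun x => by
    rw [← Matrix.mulVec_mulVec, hlin s x, Matrix.mulVec_add, Matrix.mulVec_smul, Matrix.mulVec_smul,
      hAkill r v hvv huv, hAkill r u hvu huu, smul_zero, smul_zero, add_zero, Matrix.zero_mulVec]
  by_cases h : m = 2
  · obtain ⟨t, ht⟩ := exists_gen_top (F := F) p (hq h)
    refine ⟨M ((1 : F) • v), M (t • v), ⟨by rw [hAA, hAA], by rw [hAA, zero_mul],
      by rw [hAA, zero_mul], by rw [hAA, zero_mul], by rw [hAA, zero_mul], hne 1 one_ne_zero,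
      fun j => ?_⟩, hskew _, hskew _, hcomm _, hcomm _⟩
    rw [← hMn, ← hMadd, one_smul, ← Nat.cast_smul_eq_nsmul F, ← add_smul]
    exact hne _ (ht j)
  · obtain ⟨w, -, hw, hwL⟩ := Form.exists_ker_outside ![(Φ).lin v, (Φ).lin u] ⊤
      ((F ∙ v) ⊔ (F ∙ u)) (by
        rw [finrank_top, finrank_V]
        have := Submodule.finrank_add_le_finrank_add_finrank (F ∙ v) (F ∙ u)
        have := Form.finrank_span_le_one (F := F) v
        have := Form.finrank_span_le_one (F := F) u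
        omega)
    have hwv : (Φ).b v w = 0 := hw 0
    have hwu : (Φ).b u w = 0 := hw 1
    have hTwv : (Φ).b v (T.S w) = 0 := by
      have h := hswapT v w
      rw [← hu, hwu, mul_zero] at h
      exact (mul_eq_zero.1 h).resolve_left hμ
    have hTwu : (Φ).b u (T.S w) = 0 := by rw [hu, hsim, hwv, mul_zero]
    obtain ⟨k1, k2⟩ := hkillL w hwv hwu
    have kw : ∀ z, (Φ).b v z = 0 → (Φ).b u z = 0 → M w *ᵥ (M w *ᵥ z) = 0 := fun z h1 h1' => by
      rw [hMx w z, h1, h1']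
      simp [Matrix.mulVec_add, Matrix.mulVec_smul, k1, k2]
    have hAB : M ((1 : F) • v) * M w = 0 := Form.ext_mulVec fun x => by
      rw [← Matrix.mulVec_mulVec, hMx w x]
      simp only [Matrix.mulVec_add, Matrix.mulVec_smul, hAkill 1 _ hwv hwu, hAkill 1 _ hvv huv,
        hAkill 1 _ hTwv hTwu, hAkill 1 _ hvu huu, smul_zero, add_zero, Matrix.zero_mulVec]
    have hBA : M w * M ((1 : F) • v) = 0 := Form.ext_mulVec fun x => by
      rw [← Matrix.mulVec_mulVec, hlin 1 x, Matrix.mulVec_add, Matrix.mulVec_smul, Matrix.mulVec_smul,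
        k1, k2, smul_zero, smul_zero, add_zero, Matrix.zero_mulVec]
    have hBBB : M w * M w * M w = 0 := Form.ext_mulVec fun x => by
      rw [mul_assoc, ← Matrix.mulVec_mulVec, ← Matrix.mulVec_mulVec, Matrix.zero_mulVec, hMx w x]
      simp only [Matrix.mulVec_add, Matrix.mulVec_smul, k1, k2, kw _ hwv hwu, kw _ hTwv hTwu,
        smul_zero, add_zero]
    refine ⟨_, _, ⟨by rw [hAB, hBA], by rw [hAA, zero_mul], by rw [hAA, zero_mul],
      by rw [hAB, zero_mul], hBBB, hne 1 one_ne_zero, fun j e => hwL ?_⟩, hskew _, hskew _,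
      hcomm ((1 : F) • v), hcomm w⟩
    rw [← hMn, ← hMadd, one_smul] at e
    obtain ⟨z, hz⟩ : ∃ z, z = w + j • v := ⟨_, rfl⟩
    rw [← hz] at e
    have hzx := congrArg (· *ᵥ x1) e
    simp only [Matrix.zero_mulVec, hMx, hx1v, hx1u, one_smul, zero_smul, zero_add, smul_smul] at hzx
    rw [add_assoc] at hzx
    have hzmem : z ∈ (F ∙ v) ⊔ (F ∙ u) := by
      rw [eq_neg_of_add_eq_zero_left hzx]
      exact neg_mem (Submodule.add_mem_sup ((F ∙ v).smul_mem _ (Submodule.mem_span_singleton_self v))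
        ((F ∙ u).smul_mem _ (Submodule.mem_span_singleton_self u)))
    have hj : j • v ∈ (F ∙ v) ⊔ (F ∙ u) := le_sup_left (a := F ∙ v)
      ((F ∙ v).smul_of_tower_mem j (Submodule.mem_span_singleton_self v))
    rw [show w = z - j • v by rw [hz, add_sub_cancel_right]]
    exact sub_mem hzmem hj

theorem twoFix_semi [Fintype F] (p : ℕ) [Fact p.Prime] [CharP F p] (hp : p ≠ 2) (hm : 2 ≤ m)
    (hq : m = 2 → p < Fintype.card F) {g : GSpm} {τ : F ≃+* F}
    (h : (AutPSp.semi g τ : MulAut PSpm) * AutPSp.semi g τ = 1) :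
    TwoFix p (AutPSp.semi g τ : MulAut PSpm) := by
  rw [AutPSp.semi_mul] at h
  obtain ⟨hττ, a, hax⟩ := (AutPSp.semi_eq_one_iff hm).1 h
  obtain ⟨T, hT⟩ : ∃ T, T = Semi.ofGL (g : GLm) τ := ⟨_, rfl⟩
  have hTT : ∀ x, T.S (T.S x) = a • x := fun x => by
    subst hT
    show AutPSp.sm (g : GLm) τ (AutPSp.sm (g : GLm) τ x) = _
    rw [AutPSp.sm_comp, hττ, AutPSp.sm]
    exact hax x
  obtain ⟨μ, hμ, hsim'⟩ := AutPSp.sm_pres g.2 τ
  have hsim : ∀ x y, (Φ).b (T.S x) (T.S y) = μ * τ ((Φ).b x y) := fun x y => hT ▸ hsim' x y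
  have ha : a ≠ 0 := fun e => by
    have h0 : (Pi.single (Sum.inl ⟨0, by omega⟩) 1 : Vm) = 0 := T.inj (T.inj (by
      rw [hTT, hTT, e, zero_smul, zero_smul]))
    simpa using congrFun h0 (Sum.inl ⟨0, by omega⟩)
  obtain ⟨A, B, hP, hA, hB, hcA, hcB⟩ : ∃ A B : Mm, IsPair A B ∧ (Φ).Skew A ∧ (Φ).Skew B ∧
      T.Comm A ∧ T.Comm B := by
    by_cases hτ : τ = 1
    · subst hτ
      have hid : ∀ r : F, (1 : F ≃+* F) r = r := fun _ => rfl
      simp only [hid] at hsim
      by_cases hsq : ∃ c, c * c = a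
      · obtain ⟨c, hc⟩ := hsq
        have hc0 : c ≠ 0 := fun e => ha (by rw [← hc, e, zero_mul])
        obtain ⟨A, B, hP, hA, hB, hcA, hcB⟩ := exists_pair_square p hp hm hq
          (T.scale c⁻¹ (inv_ne_zero hc0)) (μ := c⁻¹ * c⁻¹ * μ)
          (fun x => by
            show c⁻¹ • T.S (c⁻¹ • T.S x) = x
            rw [T.map_smul, hid, hTT, smul_smul, smul_smul, show c⁻¹ * c⁻¹ * a = 1 by
              rw [← hc]; field_simp, one_smul])
          (fun x y => by
            show (Φ).b (c⁻¹ • T.S x) (c⁻¹ • T.S y) = _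
            rw [(Φ).smul_left, (Φ).smul_right, hsim, form_σ]
            ring)
        exact ⟨A, B, hP, hA, hB, Semi.Comm.of_scale T _ hcA, Semi.Comm.of_scale T _ hcB⟩
      · push Not at hsq
        exact exists_pair_nonsquare p hp hm hq T hsq hTT hμ hsim
    · exact exists_pair_field p hp hm hττ hτ T ha hTT hμ hsim
  exact twoFix p hp (by omega) hP hA hB (hT ▸ hcA) (hT ▸ hcB)

end Cfsg.Agent.InvRankP.Symp

namespace Cfsg.Agent.InvRankP

theorem pSpStmt_holds : PSpStmt := by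
  intro F _ _ p _ _ m hp hm hex φ hφ
  have hq : m = 2 → p < Fintype.card F := fun h2 => by
    obtain ⟨k, -, hk⟩ := FiniteField.card F p
    rcases lt_or_eq_of_le (Nat.le_self_pow k.ne_zero p) with h | h
    · rwa [hk]
    · exact absurd ⟨h2, by rw [hk, ← h]⟩ hex
  obtain ⟨g, τ, rfl⟩ := AutPSp.exists_semi' hm (Or.inl (Classical.two_ne_zero' p hp)) φ
  exact Symp.twoFix_semi p hp hm hq hφ

end Cfsg.Agent.InvRankP
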