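import Cfsg.Agent.Lib.InvRankP.TwistedMono
import Cfsg.Agent.Lib.InvRankP.Defs
import Cfsg.Agent.Lib.FiniteGroup.CyclicPGroup
import Cfsg.Agent.Lib.Lie.ChevBlocks
import Mathlib.LinearAlgebra.Matrix.CharP

/-!
Levels on the roots given by linear functions.  The root elements of level at least `c > 0` generate a
`p`-group, and the coefficient at a root of level exactly `c` is additive on it.
-/

set_option autoImplicit false
set_option linter.unusedSectionVars false
set_option linter.style.haveILetI false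

namespace Cfsg.Agent.InvRankP.Tws

open Cfsg.Lie Cfsg.Agent.Chev Cfsg.Agent.Chev.Tab
open Matrix hiding zpow_mul inv_zpow mul_inv_rev zpow_add zpow_neg

/-- A fixed noncyclic `p`-group gives two independent fixed elements of order `p`. -/
theorem twoFix_of_noncyclic {G : Type*} [Group G] [Finite G] {p : ℕ} [Fact p.Prime] (hp : p ≠ 2)
    {φ : MulAut G} {Q : Subgroup G} (hQ : IsPGroup p Q) (hfix : ∀ x ∈ Q, φ x = x) (hc : ¬ IsCyclic Q) :
    TwoFix p φ := by
  obtain ⟨A, hA, hAn⟩ := CyclicPGroup.exists_noncyclic_abelian hp Q hQ hc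
  haveI := hA
  obtain ⟨q, E, hq, hE, hexp⟩ := CoprimeAct.exists_elementary_of_not_isCyclic hAn
  obtain rfl : q = p := by
    obtain ⟨k, hk⟩ := IsPGroup.iff_card.1 ((hQ.to_subgroup A).to_subgroup E)
    have : q ∣ p ^ k := hk ▸ hE ▸ dvd_pow_self q two_ne_zero
    exact (Nat.prime_dvd_prime_iff_eq hq Fact.out).1 (hq.dvd_of_dvd_pow this)
  let e : E → G := fun x => (((x : A) : Q) : G)
  have einj : Function.Injective e :=
    fun x y h => Subtype.ext (Subtype.ext (Subtype.ext h))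
  haveI : Nontrivial E := by
    rw [← Finite.one_lt_card_iff_nontrivial, hE]
    exact Nat.one_lt_pow two_ne_zero hq.one_lt
  obtain ⟨a, ha⟩ := exists_ne (1 : E)
  have hoa : orderOf a = q := orderOf_eq_prime (hexp a) ha
  obtain ⟨b, hb⟩ : ∃ b : E, b ∉ Subgroup.zpowers a := by
    by_contra h
    push Not at h
    have : Subgroup.zpowers a = ⊤ := (Subgroup.eq_top_iff' _).2 h
    have h2 := Nat.card_zpowers a
    rw [this, Subgroup.card_top, hE, hoa] at h2
    have h3 := hq.two_le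
    nlinarith
  refine ⟨e a, e b, congrArg e (hexp a), congrArg e (hexp b),
    congrArg (fun x : A => ((x : Q) : G)) (mul_comm' (a : A) (b : A)),
    hfix _ ((a : A) : Q).2, hfix _ ((b : A) : Q).2, fun h => ha (einj h), fun h => hb ?_⟩
  obtain ⟨k, hk⟩ := Subgroup.mem_zpowers_iff.1 h
  exact Subgroup.mem_zpowers_iff.2 ⟨k, einj hk⟩

/-- A finite field with more than `p` elements is not spanned by one element over the prime field. -/
theorem exists_not_int_mul {F : Type*} [Field F] [Finite F] (p : ℕ) [Fact p.Prime] [CharP F p]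
    (hF : p < Nat.card F) (a : F) : ∃ t : F, ∀ k : ℤ, t ≠ (k : F) * a := by
  by_contra h
  push Not at h
  have hs : Function.Surjective fun k : ZMod p => ZMod.castHom dvd_rfl F k * a := fun t => by
    obtain ⟨k, rfl⟩ := h t
    exact ⟨(k : ZMod p), by simp⟩
  have := Nat.card_le_card_of_surjective _ hs
  rw [Nat.card_zmod] at this
  omega

variable {T : Tab} {F : Type*} [Field F]

/-- Functions on the roots linear in the Cartan integers. -/
structure Lin (T : Tab) (ψ : ℕ → ℤ) : Prop where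
  neg : ∀ r < T.n, ψ (T.neg r) = -ψ r
  add : ∀ r < T.n, ∀ s < T.n, ∀ t < T.n, ∀ k : ℤ,
    (∀ j < T.l, T.A j t = T.A j r + k * T.A j s) → ψ t = ψ r + k * ψ s

theorem lin_sum (g : T.Good) {J : List ℕ} (hJ : ∀ j ∈ J, j < T.l) :
    Lin T fun s => (J.map fun j => T.A j s).sum := by
  constructor
  · intro r hr
    induction J with
    | nil => simp
    | cons j J ih =>
      simp only [List.map_cons, List.sum_cons, ((g.sign' hr).1 j (hJ j List.mem_cons_self)).2.2.2,
        ih (fun i hi => hJ i (List.mem_cons_of_mem _ hi))]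
      ring
  · intro r hr s hs t ht k h
    induction J with
    | nil => simp
    | cons j J ih =>
      simp only [List.map_cons, List.sum_cons, h j (hJ j List.mem_cons_self),
        ih (fun i hi => hJ i (List.mem_cons_of_mem _ hi))]
      ring

theorem Lin.comp (g : T.Good) {ψ : ℕ → ℤ} (h : Lin T ψ) {L : List ℕ} (hL : T.Wd L) :
    Lin T fun s => ψ (T.rw' L s) :=
  ⟨fun r hr => by rw [rw'_neg g hL hr, h.neg _ (rw'_lt g hL hr)],
    fun r hr s hs t ht k hk => h.add _ (rw'_lt g hL hr) _ (rw'_lt g hL hs) _ (rw'_lt g hL ht) k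
      (A_rw'_linear g hL hr hs ht k hk)⟩

theorem Lin.addf {ψ ψ' : ℕ → ℤ} (h : Lin T ψ) (h' : Lin T ψ') : Lin T fun s => ψ s + ψ' s :=
  ⟨fun r hr => by rw [h.neg r hr, h'.neg r hr]; ring,
    fun r hr s hs t ht k hk => by rw [h.add r hr s hs t ht k hk, h'.add r hr s hs t ht k hk]; ring⟩

theorem Lin.negf {ψ : ℕ → ℤ} (h : Lin T ψ) : Lin T fun s => -ψ s :=
  ⟨fun r hr => by rw [h.neg r hr],
    fun r hr s hs t ht k hk => by rw [h.add r hr s hs t ht k hk]; ring⟩

/-- Level of a basis vector. -/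
def lev (T : Tab) (ψ : ℕ → ℤ) : T.D.Idx → ℤ
  | Sum.inl _ => 0
  | Sum.inr s => ψ s.val

/-- Unipotent and raising the level by at least `c`. -/
def Raise (f : T.D.Idx → ℤ) (c : ℤ) (M : Matrix T.D.Idx T.D.Idx F) : Prop :=
  ∀ a b, f a < f b + c → M a b = (1 : Matrix T.D.Idx T.D.Idx F) a b

theorem Raise.mul {f : T.D.Idx → ℤ} {c : ℤ} {M M' : Matrix T.D.Idx T.D.Idx F} (hc : 0 < c)
    (h : Raise f c M) (h' : Raise f c M') : Raise f c (M * M') := by
  intro a b hab
  rw [Matrix.mul_apply, Finset.sum_eq_single a]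
  · rw [h a a (by omega), Matrix.one_apply_eq, one_mul, h' a b hab]
  · intro k _ hne
    by_cases hak : f a < f k + c
    · rw [h a k hak, Matrix.one_apply_ne (Ne.symm hne), zero_mul]
    · rw [h' k b (by omega), Matrix.one_apply_ne (fun e => by subst e; omega), mul_zero]
  · simp

theorem Raise.toUT {f : T.D.Idx → ℤ} {c : ℤ} {M : Matrix T.D.Idx T.D.Idx F} (hc : 0 < c)
    (h : Raise f c M) : UT f M := fun a b hab => h a b (by omega)

theorem xg_raise (g : T.Good) {ψ : ℕ → ℤ} (hψ : Lin T ψ) {r : ℕ} (hr : r < T.n) {c : ℤ}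
    (hc : 0 < c) (hcr : c ≤ ψ r) (t : F) : Raise (lev T ψ) c (T.D.x F r t) := by
  have hneg := hψ.neg r hr
  intro a b hab
  rw [apply_eq_col g (T.D.x F r t) a b, one_apply_bas g a b]
  rcases b with ⟨v, hv⟩ | ⟨s, hs⟩
  · have hv' : v < T.l := by rw [g.rank_eq] at hv; exact hv
    rw [show T.code (Sum.inl ⟨v, hv⟩) = v from rfl, col_h g hr hv']
    by_cases ha : T.code a = T.l + r
    · rcases a with ⟨u, hu⟩ | ⟨u, hu⟩ <;> simp only [code] at ha
      · rw [g.rank_eq] at hu; omega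
      · obtain rfl : u = r := by omega
        simp only [lev] at hab
        omega
    · simp [bas_ne ha]
  · have hs' : s < T.n := by rw [g.nroots_eq] at hs; exact hs
    rw [show T.code (Sum.inr ⟨s, hs⟩) = T.l + s from rfl]
    by_cases h1 : s = r
    · subst h1; rw [col_self g hr]
    by_cases h2 : s = T.neg r
    · subst h2
      rw [col_neg g hr]
      have ha : T.code a ≠ T.l + r := by
        intro ha
        rcases a with ⟨u, hu⟩ | ⟨u, hu⟩ <;> simp only [code] at ha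
        · rw [g.rank_eq] at hu; omega
        · obtain rfl : u = r := by omega
          simp only [lev] at hab
          omega
      have ha' : ¬ T.code a < T.l := by
        intro ha'
        rcases a with ⟨u, hu⟩ | ⟨u, hu⟩ <;> simp only [code] at ha'
        · simp only [lev] at hab
          omega
        · omega
      simp only [Pi.add_apply, Pi.sub_apply, Pi.smul_apply, Finset.sum_apply, bas_ne ha, smul_zero,
        sub_zero, add_eq_left]
      rw [Finset.sum_eq_zero, smul_zero]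
      intro j hj
      rw [bas_ne (by have := Finset.mem_range.1 hj; omega), smul_zero]
    · rw [col_other g hr hs' h1 h2, Pi.add_apply, add_eq_left, list_sum_apply]
      refine List.sum_eq_zero fun x hx => ?_
      simp only [List.mem_map] at hx
      obtain ⟨q, hq, rfl⟩ := hx
      by_cases ha : T.code a = T.l + q.1.1
      · exfalso
        have hch : T.chRoot r s (q.2 + 1) = some q.1.1 := by
          have := (List.mk_mem_zipIdx_iff_getElem?).1 (show (q.1, q.2) ∈ _ from hq)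
          simp [chRoot, this]
        obtain ⟨hk, hA, -⟩ := chRoot_spec g hr hs' (Nat.le_add_left 1 q.2) hch
        have hlin := hψ.add s hs' r hr q.1.1 hk _ hA
        rcases a with ⟨u, hu⟩ | ⟨u, hu⟩ <;> simp only [code] at ha
        · rw [g.rank_eq] at hu; omega
        · obtain rfl : u = q.1.1 := by omega
          simp only [lev, Nat.cast_add, Nat.cast_one] at hab hlin
          nlinarith
      · simp [bas_ne ha]

theorem genS_raise (g : T.Good) {ψ : ℕ → ℤ} (hψ : Lin T ψ) {c : ℤ} (hc : 0 < c)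
    {x : GL T.D.Idx F} (hx : x ∈ genS g F {s | s < T.n ∧ c ≤ ψ s}) :
    Raise (lev T ψ) c (x : Matrix T.D.Idx T.D.Idx F) :=
  genS_induction g (p := fun x : GL T.D.Idx F => Raise (lev T ψ) c (x : Matrix T.D.Idx T.D.Idx F))
    (by intro a b _; simp) (fun r hr t y hy => by
      rw [Units.val_mul, xg_val]; exact (xg_raise g hψ hr.1 hc hr.2 t).mul hc hy) hx

/-- The group of level at least `c` is a `p`-group. -/
theorem genS_pow (g : T.Good) {ψ : ℕ → ℤ} (hψ : Lin T ψ) {c : ℤ} (hc : 0 < c) (p : ℕ) [Fact p.Prime]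
    [CharP F p] (hn : 0 < T.n) {x : GL T.D.Idx F} (hx : x ∈ genS g F {s | s < T.n ∧ c ≤ ψ s}) :
    ∃ k, x ^ p ^ k = 1 := by
  classical
  haveI : Nonempty T.D.Idx := ⟨Sum.inr ⟨0, g.nroots_eq.symm ▸ hn⟩⟩
  let B : ℕ := ∑ a : T.D.Idx, (lev T ψ a).natAbs
  refine ⟨2 * B + 1, Units.ext ?_⟩
  have hlt : (2 * B + 1 : ℕ) < p ^ (2 * B + 1) := Nat.lt_pow_self (Fact.out : p.Prime).one_lt
  have h0 : ((x : Matrix T.D.Idx T.D.Idx F) - 1) ^ p ^ (2 * B + 1) = 0 := by
    ext a b
    refine ((genS_raise g hψ hc hx).toUT hc).sub_one_pow _ a b ?_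
    have hle : ∀ a, (lev T ψ a).natAbs ≤ B := fun a =>
      Finset.single_le_sum (f := fun a => (lev T ψ a).natAbs) (fun _ _ => Nat.zero_le _) (Finset.mem_univ a)
    have := hle a
    have := hle b
    omega
  rw [sub_pow_char_pow_of_commute _ _ (Commute.one_right _), one_pow, sub_eq_zero] at h0
  rw [Units.val_pow_eq_pow_val, h0, Units.val_one]

section Coef

variable (g : T.Good)

/-- basis index of a root -/
def rI {r : ℕ} (hr : r < T.n) : T.D.Idx := Sum.inr ⟨r, g.nroots_eq.symm ▸ hr⟩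

/-- basis index of a torus coordinate -/
def hI {i : ℕ} (hi : i < T.l) : T.D.Idx := Sum.inl ⟨i, g.rank_eq.symm ▸ hi⟩

/-- coefficient at the root `r`, read off in the coordinate `i` -/
def coef {r i : ℕ} (hr : r < T.n) (hi : i < T.l) (x : GL T.D.Idx F) : F :=
  (x : Matrix T.D.Idx T.D.Idx F) (rI g hr) (hI g hi)

variable {r i : ℕ} (hr : r < T.n) (hi : i < T.l)

theorem coef_one : coef g hr hi (1 : GL T.D.Idx F) = 0 := by
  rw [coef, Units.val_one, Matrix.one_apply_ne]
  simp [rI, hI]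

theorem coef_xg {s : ℕ} (hs : s < T.n) (t : F) :
    coef g hr hi (xg g s t) = if s = r then -((T.A i s : F) * t) else 0 := by
  rw [coef, xg_val, apply_eq_col g (T.D.x F s t) (rI g hr) (hI g hi), show T.code (hI g hi) = i from rfl,
    col_h g hs hi]
  have e : T.code (rI g hr) = T.l + r := rfl
  by_cases h : s = r
  · subst h; simp [bas, e]; omega
  · simp [bas, e, h, Ne.symm h, show ¬ T.l + r = i by omega]

theorem coef_mul {ψ : ℕ → ℤ} (hψ : Lin T ψ) (hc : 0 < ψ r) {x y : GL T.D.Idx F}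
    (hx : x ∈ genS g F {s | s < T.n ∧ ψ r ≤ ψ s}) (hy : y ∈ genS g F {s | s < T.n ∧ ψ r ≤ ψ s}) :
    coef g hr hi (x * y) = coef g hr hi x + coef g hr hi y := by
  have Hx := genS_raise g hψ hc hx
  have Hy := genS_raise g hψ hc hy
  have e1 : lev T ψ (rI g hr) = ψ r := rfl
  have e2 : lev T ψ (hI g hi) = 0 := rfl
  have hne : rI g hr ≠ hI g hi := by simp [rI, hI]
  rw [coef, Units.val_mul, Matrix.mul_apply, Finset.sum_eq_add (rI g hr) (hI g hi) hne]
  · rw [Hx _ _ (by omega), Hy (hI g hi) (hI g hi) (by omega), Matrix.one_apply_eq, Matrix.one_apply_eq,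
      one_mul, mul_one]
    exact add_comm _ _
  · intro k _ hk
    by_cases h1 : lev T ψ (rI g hr) < lev T ψ k + ψ r
    · rw [Hx _ _ h1, Matrix.one_apply_ne (Ne.symm hk.1), zero_mul]
    · rw [Hy _ _ (by omega), Matrix.one_apply_ne hk.2, mul_zero]
  · simp
  · simp

theorem coef_pow {ψ : ℕ → ℤ} (hψ : Lin T ψ) (hc : 0 < ψ r) {x : GL T.D.Idx F}
    (hx : x ∈ genS g F {s | s < T.n ∧ ψ r ≤ ψ s}) :
    ∀ n : ℕ, coef g hr hi (x ^ n) = (n : F) * coef g hr hi x
  | 0 => by rw [pow_zero, coef_one, Nat.cast_zero, zero_mul]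
  | n + 1 => by
    rw [pow_succ, coef_mul g hr hi hψ hc (pow_mem hx n) hx, coef_pow hψ hc hx n]
    push_cast
    ring

theorem coef_inv {ψ : ℕ → ℤ} (hψ : Lin T ψ) (hc : 0 < ψ r) {x : GL T.D.Idx F}
    (hx : x ∈ genS g F {s | s < T.n ∧ ψ r ≤ ψ s}) : coef g hr hi x⁻¹ = -coef g hr hi x := by
  have h := coef_mul g hr hi hψ hc hx (inv_mem hx)
  rw [mul_inv_cancel, coef_one] at h
  linear_combination -h

theorem coef_zpow {ψ : ℕ → ℤ} (hψ : Lin T ψ) (hc : 0 < ψ r) {x : GL T.D.Idx F}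
    (hx : x ∈ genS g F {s | s < T.n ∧ ψ r ≤ ψ s}) :
    ∀ n : ℤ, coef g hr hi (x ^ n) = (n : F) * coef g hr hi x
  | Int.ofNat n => by simp [coef_pow g hr hi hψ hc hx n]
  | Int.negSucc n => by
    rw [zpow_negSucc, coef_inv g hr hi hψ hc (pow_mem hx _), coef_pow g hr hi hψ hc hx]
    push_cast
    ring

/-- A product of root elements has as coefficient the sum over the factors at `r`. -/
theorem coef_word {ψ : ℕ → ℤ} (hψ : Lin T ψ) (hc : 0 < ψ r) :
    ∀ w : List (ℕ × F), (∀ e ∈ w, e.1 < T.n ∧ ψ r ≤ ψ e.1) →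
      coef g hr hi (w.map fun e => xg g e.1 e.2).prod =
        (w.map fun e => if e.1 = r then -((T.A i e.1 : F) * e.2) else 0).sum
  | [], _ => by simp [coef_one]
  | e :: w, h => by
    have hm : ∀ e ∈ w, e.1 < T.n ∧ ψ r ≤ ψ e.1 := fun j hj => h j (List.mem_cons_of_mem _ hj)
    simp only [List.map_cons, List.prod_cons, List.sum_cons]
    rw [coef_mul g hr hi hψ hc (xg_mem_genS g (S := {s | s < T.n ∧ ψ r ≤ ψ s}) (h e List.mem_cons_self) _)
      (Subgroup.list_prod_mem _ fun y hy => by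
        obtain ⟨e', he', rfl⟩ := List.mem_map.1 hy
        exact xg_mem_genS g (S := {s | s < T.n ∧ ψ r ≤ ψ s}) (hm e' he') _),
      coef_xg g hr hi (h e List.mem_cons_self).1, coef_word hψ hc w hm]

end Coef

/-- some Cartan integer of a root is invertible in odd characteristic -/
theorem exists_A_ne (g : T.Good) {r : ℕ} (hr : r < T.n) (p : ℕ) [CharP F p] (hp : p ≠ 2) :
    ∃ i < T.l, ((T.A i r : ℤ) : F) ≠ 0 := by
  by_contra h
  push Not at h
  have h2 := congrArg (Int.cast (R := F)) (g.sign' hr).2.1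
  rw [Int.cast_sum, Finset.sum_eq_zero fun j hj => by
    rw [Int.cast_mul, h j (Finset.mem_range.1 hj), mul_zero]] at h2
  exact hp ((Nat.prime_dvd_prime_iff_eq (CharP.char_is_prime_or_zero F p |>.resolve_right (fun e => by
    have h3 := (CharP.cast_eq_zero_iff F p 2).1 (by push_cast at h2; push_cast; exact h2.symm)
    rw [e] at h3; omega)) Nat.prime_two).1 ((CharP.cast_eq_zero_iff F p 2).1 (by push_cast at h2; push_cast; exact h2.symm)))

variable {K : List (List ℕ)} {g : T.GoodK K} {X : Twist g F} [Finite F] {p : ℕ} [Fact p.Prime]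
  [CharP F p]

/-- Fixed elements of level at least `ψ r` with all coefficients at `r`. -/
theorem twoFix_of_coef (hp : p ≠ 2) (hF : p < Nat.card F) {μ : MulAut ↥X.G1} {ψ : ℕ → ℤ} (hψ : Lin T ψ)
    {r i : ℕ} (hr : r < T.n) (hi : i < T.l) (hc : 0 < ψ r)
    (h : ∀ t : F, ∃ y : ↥X.G1, μ y = y ∧
      (y : GL T.D.Idx F) ∈ genS g.toGood F {s | s < T.n ∧ ψ r ≤ ψ s} ∧
      coef g.toGood hr hi (y : GL T.D.Idx F) = t) : TwoFix p μ := by
  classical
  haveI : Fintype F := Fintype.ofFinite F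
  haveI : Finite ↥X.G1 := Finite.of_injective _ Subtype.val_injective
  let Q : Subgroup ↥X.G1 :=
    { carrier := {y | μ y = y ∧ (y : GL T.D.Idx F) ∈ genS g.toGood F {s | s < T.n ∧ ψ r ≤ ψ s}}
      mul_mem' := fun {a b} ha hb => ⟨by rw [map_mul, ha.1, hb.1], mul_mem ha.2 hb.2⟩
      one_mem' := ⟨map_one μ, one_mem _⟩
      inv_mem' := fun {a} ha => ⟨by rw [map_inv, ha.1], inv_mem ha.2⟩ }
  refine twoFix_of_noncyclic hp (Q := Q) (fun x => ?_) (fun x hx => hx.1) fun hQ => ?_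
  · obtain ⟨k, hk⟩ := genS_pow g.toGood hψ hc p (by omega) x.2.2
    exact ⟨k, Subtype.ext (Subtype.ext (by simpa using hk))⟩
  · obtain ⟨g0, hg0⟩ := hQ.exists_zpow_surjective
    obtain ⟨t, ht⟩ := exists_not_int_mul p hF (coef g.toGood hr hi ((g0 : ↥X.G1) : GL T.D.Idx F))
    obtain ⟨y, hy1, hy2, hy3⟩ := h t
    obtain ⟨k, hk⟩ := hg0 ⟨y, hy1, hy2⟩
    refine ht k ?_
    have e : (y : GL T.D.Idx F) = ((g0 : ↥X.G1) : GL T.D.Idx F) ^ k := by
      have := congrArg (fun z : Q => ((z : ↥X.G1) : GL T.D.Idx F)) hk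
      simpa using this.symm
    rw [← hy3, e, coef_zpow g.toGood hr hi hψ hc g0.2.2]

/-- An involution moving an element off the root `r` fixes elements with every coefficient at `r`. -/
theorem twoFix_of_moved (hp : p ≠ 2) (hF : p < Nat.card F) {μ : MulAut ↥X.G1} (hμ : μ * μ = 1)
    {ψ : ℕ → ℤ} (hψ : Lin T ψ) {r i : ℕ} (hr : r < T.n) (hi : i < T.l) (hc : 0 < ψ r)
    (hP : ∀ y : ↥X.G1, (y : GL T.D.Idx F) ∈ genS g.toGood F {s | s < T.n ∧ ψ r ≤ ψ s} →
      ((μ y : ↥X.G1) : GL T.D.Idx F) ∈ genS g.toGood F {s | s < T.n ∧ ψ r ≤ ψ s})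
    (h : ∀ t : F, ∃ z : ↥X.G1, (z : GL T.D.Idx F) ∈ genS g.toGood F {s | s < T.n ∧ ψ r ≤ ψ s} ∧
      coef g.toGood hr hi (z : GL T.D.Idx F) = t ∧
      coef g.toGood hr hi ((μ z : ↥X.G1) : GL T.D.Idx F) = 0) : TwoFix p μ := by
  refine twoFix_of_coef hp hF hψ hr hi hc fun t => ?_
  obtain ⟨z, hz, hfz, hfμz⟩ := h t
  have hμμ : ∀ y, μ (μ y) = y := fun y => by rw [← MulAut.mul_apply, hμ, MulAut.one_apply]
  set u := z * μ z with hu
  set d := u⁻¹ * μ u with hd
  have hmu : μ u = μ z * z := by rw [hu, map_mul, hμμ]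
  have hdd : μ d = d⁻¹ := by
    rw [hd, map_mul, map_inv, hμμ, mul_inv_rev, inv_inv]
  have hzP := hP z hz
  have huP : (u : GL T.D.Idx F) ∈ genS g.toGood F {s | s < T.n ∧ ψ r ≤ ψ s} := by
    rw [hu, Subgroup.coe_mul]; exact mul_mem hz hzP
  have hmuP : ((μ u : ↥X.G1) : GL T.D.Idx F) ∈ genS g.toGood F {s | s < T.n ∧ ψ r ≤ ψ s} := hP u huP
  have hdP : (d : GL T.D.Idx F) ∈ genS g.toGood F {s | s < T.n ∧ ψ r ≤ ψ s} := by
    rw [hd, Subgroup.coe_mul, Subgroup.coe_inv]; exact mul_mem (inv_mem huP) hmuP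
  obtain ⟨k, hk⟩ := genS_pow g.toGood hψ hc p (by omega) hdP
  have hk' : d ^ p ^ k = 1 := Subtype.ext (by simpa using hk)
  obtain ⟨j, hj⟩ : Odd (p ^ k) := ((Fact.out : p.Prime).odd_of_ne_two hp).pow
  refine ⟨u * d ^ (j + 1), ?_, ?_, ?_⟩
  · rw [map_mul, map_pow, hdd, show μ u = u * d by rw [hd]; group, mul_assoc, mul_right_inj, inv_pow,
      mul_inv_eq_iff_eq_mul, ← pow_add, show j + 1 + (j + 1) = p ^ k + 1 by omega, pow_succ, hk', one_mul]
  · rw [Subgroup.coe_mul, Subgroup.coe_pow]; exact mul_mem huP (pow_mem hdP _)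
  · have e1 : coef g.toGood hr hi (u : GL T.D.Idx F) = t := by
      rw [hu, Subgroup.coe_mul, coef_mul g.toGood hr hi hψ hc hz hzP, hfz, hfμz, add_zero]
    have e2 : coef g.toGood hr hi ((μ u : ↥X.G1) : GL T.D.Idx F) = t := by
      rw [hmu, Subgroup.coe_mul, coef_mul g.toGood hr hi hψ hc hzP hz, hfz, hfμz, zero_add]
    have e3 : coef g.toGood hr hi (d : GL T.D.Idx F) = 0 := by
      rw [hd, Subgroup.coe_mul, Subgroup.coe_inv, coef_mul g.toGood hr hi hψ hc (inv_mem huP) hmuP,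
        coef_inv g.toGood hr hi hψ hc huP, e1, e2, neg_add_cancel]
    rw [Subgroup.coe_mul, Subgroup.coe_pow, coef_mul g.toGood hr hi hψ hc huP (pow_mem hdP _),
      coef_pow g.toGood hr hi hψ hc hdP, e1, e3, mul_zero, add_zero]

end Cfsg.Agent.InvRankP.Tws
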