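import Cfsg.Agent.Lib.ChevAut.TwAutPerm
import Cfsg.Agent.Lib.ChevAut.AutLinear
import Cfsg.Agent.Lib.Lie.InvCell
import Cfsg.Prelude.Def_ChevAutomorphisms

/-!
Involutory automorphisms of a twisted group are conjugate to monomial ones `conj m ∘ θ`: `θ` diagonal
times field, `m` a monomial element whose Weyl group element is an involution or trivial.
-/

set_option autoImplicit false
set_option linter.unusedSectionVars false

namespace Cfsg.Agent.InvRankP.Tws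

open Cfsg.Lie Cfsg.Agent.Chev Cfsg.Agent.Chev.Tab Cfsg.Agent.Chev.Tab.InvC Cfsg.Agent.ChevAut Cfsg.Agent.ChevAut.Tw

variable {T : Tab} {K : List (List ℕ)} {F : Type*} [Field F] {g : T.GoodK K} {X : Twist g F}

/-- An element of the twisted group, in the Chevalley group. -/
def up (y : ↥X.G1) : ↥(T.D.group F) := ⟨(y : GL T.D.Idx F), X.G1_le_group y.2⟩

@[simp] theorem coe_up (y : ↥X.G1) : ((up y : ↥(T.D.group F)) : GL T.D.Idx F) = y := rfl

theorem up_mul (y z : ↥X.G1) : up (y * z) = up y * up z := rfl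

theorem up_inv (y : ↥X.G1) : up y⁻¹ = (up y)⁻¹ := rfl

theorem up_injective : Function.Injective (up (X := X)) := fun _ _ h =>
  Subtype.ext (congrArg (fun z : ↥(T.D.group F) => (z : GL T.D.Idx F)) h)

/-- `θ` extends to an endomorphism of the Chevalley group carrying `x_r(t)` to `x_{wr}(ν_r σ t)`. -/
structure Ext (θ : MulAut ↥X.G1) (L : List ℕ) (ν : ℕ → Fˣ) (σ : F ≃+* F) : Prop where
  wd : T.Wd L
  neg : ∀ r < T.n, ν (T.neg r) = (ν r)⁻¹
  ex : ∃ a : ↥(T.D.group F) →* ↥(T.D.group F), (∀ y : ↥X.G1, (θ y : GL T.D.Idx F) = a (up y)) ∧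
    ∀ r < T.n, ∀ t : F, (a (xe g.toGood r t) : GL T.D.Idx F) =
      xg g.toGood (T.rw' L r) ((ν r : F) * σ t)

namespace Ext

variable {θ θ' : MulAut ↥X.G1} {L L' : List ℕ} {ν ν' : ℕ → Fˣ} {σ σ' : F ≃+* F}

theorem lt (h : Ext θ L ν σ) {r : ℕ} (hr : r < T.n) : T.rw' L r < T.n := rw'_lt g.toGood h.wd hr

/-- Images of products of root elements. -/
theorem word (h : Ext θ L ν σ) (w : List (ℕ × F)) (hw : ∀ e ∈ w, e.1 < T.n) (y : ↥X.G1)
    (hy : (y : GL T.D.Idx F) = (w.map fun e => xg g.toGood e.1 e.2).prod) :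
    (θ y : GL T.D.Idx F) =
      (w.map fun e => xg g.toGood (T.rw' L e.1) ((ν e.1 : F) * σ e.2)).prod := by
  obtain ⟨a, ha, hx⟩ := h.ex
  rw [ha]
  have key : ∀ w : List (ℕ × F), (∀ e ∈ w, e.1 < T.n) → ∀ z : ↥(T.D.group F),
      (z : GL T.D.Idx F) = (w.map fun e => xg g.toGood e.1 e.2).prod →
      (a z : GL T.D.Idx F) =
        (w.map fun e => xg g.toGood (T.rw' L e.1) ((ν e.1 : F) * σ e.2)).prod := by
    intro w
    induction w with
    | nil =>
      intro _ z hz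
      rw [show z = 1 from Subtype.ext (by simpa using hz), map_one]
      simp
    | cons e w ih =>
      intro hlt z hz
      simp only [List.map_cons, List.prod_cons] at hz ⊢
      let z' : ↥(T.D.group F) := (xe g.toGood e.1 e.2)⁻¹ * z
      have hz' : (z' : GL T.D.Idx F) = (w.map fun e => xg g.toGood e.1 e.2).prod := by simp [z', hz]
      have := ih (fun j hj => hlt j (List.mem_cons_of_mem _ hj)) z' hz'
      rw [show z = xe g.toGood e.1 e.2 * z' by simp [z'], map_mul, Subgroup.coe_mul, this,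
        hx _ (hlt e List.mem_cons_self)]
  exact key w hw (up y) hy

/-- Images of the subgroups generated by root groups. -/
theorem image (h : Ext θ L ν σ) {S : Set ℕ} (hS : ∀ r ∈ S, r < T.n) {y : ↥X.G1}
    (hy : (y : GL T.D.Idx F) ∈ genS g.toGood F S) :
    (θ y : GL T.D.Idx F) ∈ genS g.toGood F (T.rw' L '' S) := by
  obtain ⟨a, ha, hx⟩ := h.ex
  rw [ha]
  have key : ∀ z : GL T.D.Idx F, z ∈ genS g.toGood F S → ∀ hz : z ∈ T.D.group F,
      (a ⟨z, hz⟩ : GL T.D.Idx F) ∈ genS g.toGood F (T.rw' L '' S) := by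
    intro z hzS
    refine genS_induction g.toGood
      (p := fun z => ∀ hz : z ∈ T.D.group F, (a ⟨z, hz⟩ : GL T.D.Idx F) ∈ genS g.toGood F (T.rw' L '' S))
      ?_ ?_ hzS
    · intro hz
      rw [show (⟨1, hz⟩ : ↥(T.D.group F)) = 1 from rfl, map_one]
      exact one_mem _
    · intro r hr t z ih hz
      have hz' : z ∈ T.D.group F := by
        simpa using mul_mem (inv_mem (xg_mem_group g.toGood r t)) hz
      rw [show (⟨xg g.toGood r t * z, hz⟩ : ↥(T.D.group F)) = xe g.toGood r t * ⟨z, hz'⟩ from rfl, map_mul,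
        Subgroup.coe_mul, hx r (hS r hr)]
      exact mul_mem (xg_mem_genS g.toGood (Set.mem_image_of_mem _ hr) _) (ih hz')
  exact key _ hy _

theorem comp (h : Ext θ L ν σ) (h' : Ext θ' L' ν' σ') :
    Ext (θ * θ') (L ++ L') (fun r => ν (T.rw' L' r) * Units.map σ.toMonoidHom (ν' r))
      (σ'.trans σ) := by
  refine ⟨Wd.append_iff.2 ⟨h.wd, h'.wd⟩, fun r hr => ?_, ?_⟩
  · rw [rw'_neg g.toGood h'.wd hr, h.neg _ (h'.lt hr), h'.neg r hr, map_inv, mul_inv]
  obtain ⟨a, ha, hx⟩ := h.ex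
  obtain ⟨a', ha', hx'⟩ := h'.ex
  refine ⟨a.comp a', fun y => ?_, fun r hr t => ?_⟩
  · rw [MulAut.mul_apply, ha, MonoidHom.comp_apply]
    congr 2
    exact Subtype.ext (ha' y)
  · rw [MonoidHom.comp_apply, show a' (xe g.toGood r t) =
      xe g.toGood (T.rw' L' r) ((ν' r : F) * σ' t) from Subtype.ext (hx' r hr t), hx _ (h'.lt hr), rw'_append]
    simp [map_mul, mul_assoc]

end Ext

/-- Conjugation by a monomial element. -/
theorem ext_conj {L : List ℕ} (hL : T.Wd L) (c : ℕ → Fˣ) {m : ↥X.G1}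
    (hm : (m : GL T.D.Idx F) = tor T F c * nWd g.toGood F L) :
    ∃ ν, Ext (MulAut.conj m) L ν (RingEquiv.refl F) := by
  classical
  have hg := g.toGood
  have key : ∀ r, ∃ ε : Fˣ, r < T.n → ε * ε = 1 ∧ ∀ t : F,
      nWd hg F L * xg hg r t * (nWd hg F L)⁻¹ = xg hg (T.rw' L r) ((ε : F) * t) ∧
      nWd hg F L * xg hg (T.neg r) t * (nWd hg F L)⁻¹ = xg hg (T.neg (T.rw' L r)) ((ε : F) * t) := by
    intro r
    by_cases hr : r < T.n
    · obtain ⟨ε, h1, h2⟩ := nWd_conj (F := F) hg hL hr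
      exact ⟨ε, fun _ => ⟨h1, h2⟩⟩
    · exact ⟨1, fun h => absurd h hr⟩
  choose ε hε using key
  refine ⟨fun r => wt T F c (T.rw' L r) * ε r, hL, fun r hr => ?_, ?_⟩
  · have e1 := ((hε r hr).2 1).2
    have e2 := ((hε (T.neg r) (neg_lt hr)).2 1).1
    rw [rw'_neg hg hL hr, e1] at e2
    have e3 : ε (T.neg r) = ε r := Units.ext (by
      simpa using (xg_injective hg (neg_lt (rw'_lt hg hL hr)) e2).symm)
    show wt T F c (T.rw' L (T.neg r)) * ε (T.neg r) = (wt T F c (T.rw' L r) * ε r)⁻¹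
    rw [e3, rw'_neg hg hL hr, wt_neg hg (rw'_lt hg hL hr), mul_inv]
    congr 1
    exact (inv_eq_of_mul_eq_one_right (hε r hr).1).symm
  refine ⟨(MulAut.conj (up m)).toMonoidHom, fun y => rfl, fun r hr t => ?_⟩
  show (m : GL T.D.Idx F) * xg hg r t * (m : GL T.D.Idx F)⁻¹ = _
  rw [hm, show ∀ a b x : GL T.D.Idx F, a * b * x * (a * b)⁻¹ = a * (b * x * b⁻¹) * a⁻¹ from
    fun a b x => by group, ((hε r hr).2 t).1, tor_xg hg c (rw'_lt hg hL hr), Units.val_mul]
  simp [mul_assoc]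

variable (X) in
/-- The normalised automorphisms are diagonal times field automorphisms. -/
def Semi : Prop :=
  ∀ θ ∈ Tw.normAut X, ∃ χ σ, T.D.IsRootCharacter χ ∧ Ext θ [] χ σ

section
variable [Finite F]

/-- An automorphism fixing all root groups is normalised. -/
theorem Ext.mem_normAut {θ : MulAut ↥X.G1} {L : List ℕ} {ν : ℕ → Fˣ} {σ : F ≃+* F}
    (h : Ext θ L ν σ) (hid : ∀ r < T.n, T.rw' L r = r) : θ ∈ Tw.normAut X := by
  have key : ∀ S : Set ℕ, (∀ r ∈ S, r < T.n) → ∀ y : ↥X.G1, (y : GL T.D.Idx F) ∈ genS g.toGood F S →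
      (θ y : GL T.D.Idx F) ∈ genS g.toGood F S := fun S hS y hy => by
    refine genS_mono g.toGood ?_ (h.image hS hy)
    rintro _ ⟨r, hr, rfl⟩
    rwa [hid r (hS r hr)]
  have maps : ∀ S : Set ℕ, (∀ r ∈ S, r < T.n) → MapsIn θ (genS g.toGood F S) (genS g.toGood F S) := by
    intro S hS y
    refine ⟨key S hS y, fun hy => ?_⟩
    let A := {y : ↥X.G1 // (y : GL T.D.Idx F) ∈ genS g.toGood F S}
    let f : A → A := fun z => ⟨θ z.1, key S hS _ z.2⟩
    have hf : Function.Injective f := fun a b e => Subtype.ext (θ.injective (congrArg Subtype.val e))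
    obtain ⟨z, hz⟩ := Finite.injective_iff_surjective.1 hf ⟨θ y, hy⟩
    rw [← θ.injective (congrArg Subtype.val hz)]
    exact z.2
  exact ⟨maps _ fun r hr => hr.2,
    maps _ fun r hr => by have := n_def (T := T); have : r < T.N := hr; omega⟩

/-- The inverse of a monomial element. -/
theorem mono_inv {L : List ℕ} (hL : T.Wd L) (c : ℕ → Fˣ) :
    ∃ d, (tor T F c * nWd g.toGood F L)⁻¹ = tor T F d * nWd g.toGood F L.reverse := by
  have hg := g.toGood
  obtain ⟨⟨d, hd⟩, -⟩ := nWd_torus_of_pos (F := F) hg _ le_rfl (Wd.append_iff.2 ⟨hL.reverse, hL⟩)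
    (fun s h1 h2 => by rwa [rw'_append, rw'_rev hg hL h2])
  rw [nWd_append] at hd
  obtain ⟨e, he⟩ := torus_pass hg (nWd_mem_wSub (F := F) hg hL.reverse) (c⁻¹)
  refine ⟨d⁻¹ * e, ?_⟩
  have h1 : (nWd hg F L)⁻¹ = tor T F d⁻¹ * nWd hg F L.reverse := by
    rw [map_inv, eq_inv_mul_iff_mul_eq, ← hd]; group
  rw [mul_inv_rev, h1, ← map_inv (tor T F) c, mul_assoc, he, map_mul, mul_assoc]

theorem conj_inv_norm (hX : ∃ Ls, Setup X Ls) {h : ↥X.G1} (hh : MulAut.conj h ∈ Tw.normAut X) :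
    ∃ e, (h : GL T.D.Idx F) = tor T F e := by
  obtain ⟨Ls, hS⟩ := hX
  exact Tw.conj_mem_normAut hS hh

/-- `θ` fixes a monomial element up to the torus. -/
theorem theta_mono (hX : ∃ Ls, Setup X Ls) (hs : Semi X) {θ : MulAut ↥X.G1} (hθ : θ ∈ Tw.normAut X)
    {L : List ℕ} (hL : T.Wd L) {c : ℕ → Fˣ} {m : ↥X.G1}
    (hm : (m : GL T.D.Idx F) = tor T F c * nWd g.toGood F L) :
    ∃ e, ((θ m : ↥X.G1) : GL T.D.Idx F) = tor T F e * (m : GL T.D.Idx F) := by
  obtain ⟨ν, hν⟩ := ext_conj hL c hm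
  obtain ⟨χ, σ, -, hχ⟩ := hs θ hθ
  obtain ⟨χ', σ', -, hχ'⟩ := hs θ⁻¹ (inv_mem hθ)
  obtain ⟨d, hd⟩ := mono_inv (g := g) hL c
  obtain ⟨ν', hν'⟩ := ext_conj (X := X) (m := m⁻¹) hL.reverse d (by rw [Subgroup.coe_inv, hm, hd])
  have hh : MulAut.conj (θ m * m⁻¹) ∈ Tw.normAut X := by
    have e : MulAut.conj (θ m * m⁻¹) = θ * MulAut.conj m * θ⁻¹ * MulAut.conj m⁻¹ := by
      ext y : 1
      simp [MulAut.mul_apply, MulAut.conj_apply, mul_assoc]
    rw [e]
    refine ((hχ.comp hν).comp hχ').comp hν' |>.mem_normAut fun r hr => ?_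
    simp only [List.nil_append, List.append_nil, rw'_append]
    exact rw'_rev' g.toGood hL hr
  obtain ⟨e, he⟩ := conj_inv_norm hX hh
  refine ⟨e, ?_⟩
  rw [← he]
  simp

/-- A `p`-element whose inverse has a square root in the torus direction. -/
theorem sq_root {H : Type*} [Group H] (f : H ≃* H) {v : H} (hv : f v = v⁻¹) (hodd : Odd (orderOf v)) :
    ∃ y : H, y * (f y)⁻¹ = v ∧ y ∈ Subgroup.zpowers v := by
  obtain ⟨k, hk⟩ := hodd
  refine ⟨v ^ (k + 1), ?_, Subgroup.npow_mem_zpowers _ _⟩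
  rw [map_pow, hv, inv_pow, inv_inv, ← pow_add, show k + 1 + (k + 1) = orderOf v + 1 by omega, pow_succ,
    pow_orderOf_eq_one, one_mul]

/-- Every involutory automorphism `conj h ∘ θ` is conjugate to a monomial one in the cell of `h`. -/
theorem exists_mono {p : ℕ} [Fact p.Prime] [CharP F p] (hp : p ≠ 2) (hX : ∃ Ls, Setup X Ls) (hs : Semi X)
    {θ : MulAut ↥X.G1} (hθ : θ ∈ Tw.normAut X) {h : ↥X.G1}
    (hφ : MulAut.conj h * θ * (MulAut.conj h * θ) = 1) :
    ∃ (L : List ℕ) (m : ↥X.G1) (c : ℕ → Fˣ) (ν : ℕ → Fˣ) (σ : F ≃+* F) (ψ : MulAut ↥X.G1),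
      X.Comm L ∧ (∀ r < T.n, T.rw' L (T.rw' L r) = r) ∧
      (m : GL T.D.Idx F) = tor T F c * nWd g.toGood F L ∧ InCell g.toGood F (h : GL T.D.Idx F) L ∧
      ψ * (MulAut.conj h * θ) * ψ⁻¹ = MulAut.conj m * θ ∧
      (MulAut.conj m * θ) * (MulAut.conj m * θ) = 1 ∧ Ext (MulAut.conj m * θ) L ν σ := by
  classical
  haveI := Fintype.ofFinite F
  have hg := g.toGood
  have hS := hX
  obtain ⟨Ls, hS⟩ := hS
  obtain ⟨v, hv, hv1, L, hL, hcomm, c, hm, u, hu, hu1, e⟩ := X.g1_decomp h.2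
  let v' : ↥X.G1 := ⟨v, hv1⟩
  let m : ↥X.G1 := ⟨tor T F c * nWd hg F L, hm⟩
  let u' : ↥X.G1 := ⟨u, hu1⟩
  have hh : h = v' * m * u' := Subtype.ext e
  set z : ↥X.G1 := θ⁻¹ u' with hz
  have hθz : θ z = u' := by rw [hz, MulAut.inv_def, MulEquiv.apply_symm_apply]
  set v1 : ↥X.G1 := z * v' with hv1def
  have hv1U : (v1 : GL T.D.Idx F) ∈ genS hg F (Set.Ico T.N T.n) := by
    rw [hv1def, Subgroup.coe_mul]
    refine mul_mem ?_ hv
    exact ((inv_mem hθ : θ⁻¹ ∈ Tw.normAut X).1 u').1 (uMinus_le_pos hg _ hu)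
  set μ : MulAut ↥X.G1 := MulAut.conj m * θ with hμ
  have hconj : MulAut.conj z * (MulAut.conj h * θ) * (MulAut.conj z)⁻¹ = MulAut.conj v1 * μ := by
    have hθc : ∀ w : ↥X.G1, θ * MulAut.conj w = MulAut.conj (θ w) * θ := fun w => by
      ext y : 1
      simp [MulAut.mul_apply, MulAut.conj_apply]
    calc MulAut.conj z * (MulAut.conj h * θ) * (MulAut.conj z)⁻¹
        = MulAut.conj z * MulAut.conj h * (θ * MulAut.conj z⁻¹) := by rw [map_inv]; group
      _ = MulAut.conj (z * h * θ z⁻¹) * θ := by rw [hθc, map_mul, map_mul]; group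
      _ = _ := by
        rw [hμ, ← mul_assoc, ← map_mul]
        congr 2
        rw [map_inv, hθz, hh, hv1def]
        group
  have h2 : MulAut.conj v1 * μ * (MulAut.conj v1 * μ) = 1 := by
    rw [← hconj]
    calc _ = MulAut.conj z * (MulAut.conj h * θ * (MulAut.conj h * θ)) * (MulAut.conj z)⁻¹ := by group
      _ = 1 := by rw [hφ]; group
  have hμv : μ * MulAut.conj v1 = MulAut.conj (μ v1) * μ := by
    ext y : 1
    simp [MulAut.mul_apply, MulAut.conj_apply]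
  have hμ2 : μ * μ = MulAut.conj ((v1 * μ v1)⁻¹) := by
    rw [map_inv]
    refine eq_inv_of_mul_eq_one_right ?_
    rw [← h2, map_mul, show MulAut.conj v1 * μ * (MulAut.conj v1 * μ) =
      MulAut.conj v1 * (μ * MulAut.conj v1) * μ by group, hμv]
    group
  obtain ⟨e', he'⟩ := theta_mono hX hs hθ hL (c := c) (m := m) rfl
  have hθ2 : θ * θ = MulAut.conj ((m * θ m)⁻¹ * (v1 * μ v1)⁻¹) := by
    have e2 : μ * μ = MulAut.conj (m * θ m) * (θ * θ) := by
      ext y : 1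
      simp [hμ, MulAut.mul_apply, MulAut.conj_apply, mul_assoc]
    rw [map_mul, ← hμ2, e2, map_inv]
    group
  obtain ⟨e1, he1⟩ := conj_inv_norm hX (hθ2 ▸ mul_mem hθ hθ)
  have hμv1 : ((μ v1 : ↥X.G1) : GL T.D.Idx F) =
      (m : GL T.D.Idx F) * (θ v1 : GL T.D.Idx F) * (m : GL T.D.Idx F)⁻¹ := by
    simp [hμ, MulAut.mul_apply, MulAut.conj_apply]
  -- the cells of `m` and of its inverse agree
  have hw2 : ∀ r < T.n, T.rw' L (T.rw' L r) = r := by
    have hEq : (m : GL T.D.Idx F) * (θ v1 : GL T.D.Idx F) =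
        (v1 : GL T.D.Idx F)⁻¹ * (tor T F e1)⁻¹ * (m : GL T.D.Idx F)⁻¹ * (tor T F e')⁻¹ := by
      have hy : (((m * θ m)⁻¹ * (v1 * μ v1)⁻¹ : ↥X.G1) : GL T.D.Idx F) = tor T F e1 := he1
      simp only [Subgroup.coe_mul, Subgroup.coe_inv, hμv1, he'] at hy
      rw [← hy]
      group
    have hθv1 : ((θ v1 : ↥X.G1) : GL T.D.Idx F) ∈ genS hg F (Set.Ico T.N T.n) := (hθ.1 v1).1 hv1U
    have hB : ∀ {x : GL T.D.Idx F}, x ∈ genS hg F (Set.Ico T.N T.n) → x ∈ T.D.borelSubgroup F :=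
      fun hx => genS_pos_le_borel hg (fun r hr => hr) hx
    obtain ⟨d, hd⟩ := mono_inv (g := g) hL c
    have hcell : InCell hg F ((m : GL T.D.Idx F) * (θ v1 : GL T.D.Idx F)) L :=
      ⟨tor T F c, torus_le_borel hg c, _, hB hθv1, rfl⟩
    have hcell' : InCell hg F ((m : GL T.D.Idx F) * (θ v1 : GL T.D.Idx F)) L.reverse := by
      refine ⟨(v1 : GL T.D.Idx F)⁻¹ * (tor T F e1)⁻¹ * tor T F d, ?_, (tor T F e')⁻¹, ?_, ?_⟩
      · exact mul_mem (mul_mem (inv_mem (hB hv1U)) (inv_mem (torus_le_borel hg e1))) (torus_le_borel hg d)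
      · exact inv_mem (torus_le_borel hg e')
      · rw [hEq, show (m : GL T.D.Idx F)⁻¹ = tor T F d * nWd hg F L.reverse from hd]
        group
    intro r hr
    rw [incell_unique g.toGoodA hL hL.reverse hcell hcell' (rw'_lt hg hL hr), rw'_rev hg hL hr]
  obtain ⟨ν0, hν0⟩ := ext_conj hL c (m := m) rfl
  obtain ⟨χ, σ, -, hχ⟩ := hs θ hθ
  have hext := hν0.comp hχ
  rw [List.append_nil, ← hμ] at hext
  obtain ⟨e2, he2⟩ := conj_inv_norm hX (hμ2 ▸ (hext.comp hext).mem_normAut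
    (fun r hr => by rw [rw'_append]; exact hw2 r hr))
  obtain ⟨P, hP⟩ := Tw.exists_sylow X hS.nonTriv p
  have hv1P : v1 ∈ (P : Subgroup ↥X.G1) := by rw [hP]; exact Subgroup.mem_subgroupOf.2 hv1U
  obtain ⟨k, hk⟩ := P.isPGroup' ⟨v1, hv1P⟩
  have hk' : v1 ^ p ^ k = 1 := congrArg Subtype.val hk
  have hμU : ((μ v1 : ↥X.G1) : GL T.D.Idx F) ∈ genS hg F (Set.Ico T.N T.n) := by
    refine mem_posU_of_borel hg p ?_ (k := k) ?_
    · have hy : ((μ v1 : ↥X.G1) : GL T.D.Idx F) = (v1 : GL T.D.Idx F)⁻¹ * (tor T F e2)⁻¹ := by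
        rw [← he2]
        simp
      rw [hy]
      exact mul_mem (inv_mem (genS_pos_le_borel hg (fun r hr => hr) hv1U)) (inv_mem (torus_le_borel hg e2))
    · rw [← Subgroup.coe_pow, ← map_pow, hk', map_one, Subgroup.coe_one]
  have hone : v1 * μ v1 = 1 := by
    have h3 : (((v1 * μ v1)⁻¹ : ↥X.G1) : GL T.D.Idx F) ∈ genS hg F (Set.Ico T.N T.n) := by
      rw [Subgroup.coe_inv, Subgroup.coe_mul]
      exact inv_mem (mul_mem hv1U hμU)
    refine inv_eq_one.1 (Subtype.ext ?_)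
    refine pos_inf_torus hg h3 ?_
    rw [he2, diagonalSubgroup_eq hg]
    exact ⟨e2, rfl⟩
  have hμ1 : μ * μ = 1 := by rw [hμ2, hone, inv_one, map_one]
  have hodd : Odd (orderOf v1) := by
    obtain ⟨j, -, hj⟩ := (Nat.dvd_prime_pow Fact.out).1 (orderOf_dvd_of_pow_eq_one hk')
    rw [hj]
    exact ((Fact.out : p.Prime).odd_of_ne_two hp).pow
  obtain ⟨y, hy, -⟩ := sq_root μ (eq_inv_of_mul_eq_one_right hone) hodd
  refine ⟨L, m, c, _, _, (MulAut.conj y)⁻¹ * MulAut.conj z, hcomm, hw2, rfl, ?_, ?_, hμ1, hext⟩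
  · exact ⟨v * tor T F c, mul_mem (genS_pos_le_borel hg (fun r hr => hr) hv) (torus_le_borel hg c), u,
      genS_pos_le_borel hg (fun r hr => hr) (uMinus_le_pos hg _ hu), by rw [e]; group⟩
  · calc (MulAut.conj y)⁻¹ * MulAut.conj z * (MulAut.conj h * θ) * ((MulAut.conj y)⁻¹ * MulAut.conj z)⁻¹
        = (MulAut.conj y)⁻¹ * (MulAut.conj z * (MulAut.conj h * θ) * (MulAut.conj z)⁻¹) * MulAut.conj y := by
          group
      _ = (MulAut.conj y)⁻¹ * (MulAut.conj (y * (μ y)⁻¹) * μ) * MulAut.conj y := by rw [hconj, hy]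
      _ = MulAut.conj m * θ := by
          rw [← hμ, map_mul, map_inv]
          have : μ * MulAut.conj y = MulAut.conj (μ y) * μ := by
            ext w : 1
            simp [MulAut.mul_apply, MulAut.conj_apply]
          rw [show (MulAut.conj y)⁻¹ * (MulAut.conj y * (MulAut.conj (μ y))⁻¹ * μ) * MulAut.conj y =
            (MulAut.conj (μ y))⁻¹ * (μ * MulAut.conj y) by group, this]
          group

end

end Cfsg.Agent.InvRankP.Tws
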