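import Cfsg.Agent.Lib.InvRankP.ClassicalBase
import Cfsg.Agent.Lib.AutPSU.Final
import Cfsg.Agent.Lib.AutPSU.GraphInvAut

/-!
S2876, unitary groups: every automorphism of order at most 2 of `PSU n` (`n ≥ 3`, not `PSU₃(p)`) fixes
an elementary abelian group of order `p²`.
-/

set_option autoImplicit false
set_option linter.style.haveILetI false
set_option linter.unusedSectionVars false

namespace Cfsg.Agent.InvRankP.Unitary

open Matrix Module Cfsg.Agent.InvRankP.Classical

variable {F : Type*} [Field F] {n q : ℕ}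

local notation "Vn" => Fin n → F
local notation "Mn" => Matrix (Fin n) (Fin n) F
local notation "SUn" => Cfsg.SU n F q
local notation "PSUn" => Cfsg.PSU n F q
local notation "GUn" => Cfsg.GU n F q

/-- The hermitian form, linear in the second variable. -/
def form (C : AutPSU.Conj F q) : Form F (Fin n) where
  b x y := AutPSU.h (q := q) y x
  σ := C.σ
  ε := 1
  sq := RingEquiv.ext C.invol
  unit := by simp
  add_right x y z := AutPSU.add_left C y z x
  smul_right c x y := AutPSU.smul_left C c y x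
  swap x y := by rw [one_mul, ← AutPSU.symm C]
  nondeg x h := AutPSU.nondeg C fun w => (AutPSU.eq_zero_comm C).1 (h w)

theorem finrank_V : finrank F Vn = n := by
  rw [Module.finrank_fintype_fun_eq_card, Fintype.card_fin]

theorem conj_ne (C : AutPSU.Conj F q) : C.σ ≠ 1 := fun e => by
  obtain ⟨μ, hμ⟩ := C.ne_one
  exact hμ (RingEquiv.congr_fun e μ)

/-- The matrix of an element of `SU`. -/
def toMat : SUn →* Mn where
  toFun s := ((s : Matrix.SpecialLinearGroup (Fin n) F) : Mn)
  map_one' := rfl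
  map_mul' _ _ := rfl

variable [Fintype F]

theorem twoFix (p : ℕ) [Fact p.Prime] [CharP F p] (hp : p ≠ 2) (hn : 2 ≤ n)
    (hF : Fintype.card F = q ^ 2) (C : AutPSU.Conj F q) {g : GUn} {τ : F ≃+* F} {A B : Mn}
    (hP : IsPair A B) (hA : (form C).Skew A) (hB : (form C).Skew B)
    (hcA : (Semi.ofGL (g : GL (Fin n) F) τ).Comm A) (hcB : (Semi.ofGL (g : GL (Fin n) F) τ).Comm B) :
    TwoFix p (AutPSU.semi g τ : MulAut PSUn) := by
  haveI : Nonempty (Fin n) := ⟨⟨0, by omega⟩⟩
  have fix : ∀ (N : Mn) (s : SUn), ((s : Matrix.SpecialLinearGroup (Fin n) F) : Mn) = ex N →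
      (Semi.ofGL (g : GL (Fin n) F) τ).Comm N →
      (AutPSU.semi g τ : MulAut PSUn) (QuotientGroup.mk s) = QuotientGroup.mk s := by
    intro N s hs hN
    rw [AutPSU.semi_mk]
    refine congrArg QuotientGroup.mk (Subtype.ext (Subtype.ext ?_))
    rw [AutPSU.suConj_coe, hs]
    exact conj_eq_of_comm _ (Semi.Comm.ex _ hN)
  have pres : ∀ N : Mn, N * N * N = 0 → (form C).Skew N → ∀ u v : Vn,
      AutPSU.h (q := q) (ex N *ᵥ u) (ex N *ᵥ v) = AutPSU.h (q := q) u v :=
    fun N h3 hN u v => (form C).ex_pres (two_ne_zero' p hp) h3 hN v u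
  refine twoFix_of_pair p hp (QuotientGroup.mk' (Subgroup.center SUn)) toMat
    (fun _ _ e => Subtype.ext (Subtype.ext e)) (fun s hs => ?_) hP
    (a := ⟨⟨ex A, det_ex p hp hP.aaa⟩, pres A hP.aaa hA⟩)
    (b := ⟨⟨ex B, det_ex p hp hP.bbb⟩, pres B hP.bbb hB⟩) rfl rfl
    (fix A _ rfl hcA) (fix B _ rfl hcB)
  obtain ⟨c, hc⟩ := (AutPSU.mem_center_iff C hn hF s).1 ((QuotientGroup.eq_one_iff s).1 hs)
  refine ⟨c, Matrix.ext_of_mulVec_single fun i => ?_⟩
  rw [Matrix.smul_mulVec, Matrix.one_mulVec]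
  exact hc _

/-- An eigenspace. -/
def eig (T : Semi (1 : F ≃+* F) (Fin n)) (e : F) : Submodule F Vn where
  carrier := {x | T.S x = e • x}
  add_mem' {x y} (hx : T.S x = _) (hy : T.S y = _) := by
    show T.S (x + y) = _
    rw [T.map_add, hx, hy, smul_add]
  zero_mem' := by
    show T.S 0 = _
    rw [T.map_zero, smul_zero]
  smul_mem' c x (hx : T.S x = _) := by
    show T.S (c • x) = _
    rw [T.map_smul, hx, smul_comm]
    rfl

theorem mem_eig {T : Semi (1 : F ≃+* F) (Fin n)} {e : F} {x : Vn} :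
    x ∈ eig T e ↔ T.S x = e • x := Iff.rfl

theorem fixedBy_card (hF : Fintype.card F = q ^ 2) (C : AutPSU.Conj F q) :
    Nat.card (fixedBy C.σ) = q := by
  obtain ⟨σ', hσ', -, -, hq, -⟩ := HermStd.exists_sigma hF
  conv_rhs => rw [← hq]
  exact Nat.card_congr (Equiv.subtypeEquivRight fun a => by
    show C.σ a = a ↔ σ' a = a
    rw [C.apply_eq, hσ'])

/-- The linear case. -/
theorem exists_pair_linear (p : ℕ) [Fact p.Prime] [CharP F p] (hp : p ≠ 2) (hn : 3 ≤ n)
    (hF : Fintype.card F = q ^ 2) (hpq : p ≤ q) (hq : n = 3 → p < q) (C : AutPSU.Conj F q)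
    (T : Semi (1 : F ≃+* F) (Fin n)) {μ : F} (hμσ : C.σ μ = μ) (hTT : ∀ x, T.S (T.S x) = x)
    (hsim : ∀ x y, (form C).b (T.S x) (T.S y) = μ * (form C).b x y) :
    ∃ A B : Mn, IsPair A B ∧ (form C).Skew A ∧ (form C).Skew B ∧ T.Comm A ∧ T.Comm B := by
  have h2 := two_ne_zero' (F := F) p hp
  have hΦσ : ∀ r : F, (form (n := n) C).σ r = C.σ r := fun _ => rfl
  obtain ⟨e0, he0⟩ : ∃ e : Vn, e ≠ 0 := ⟨Pi.single ⟨0, by omega⟩ 1, fun e => by
    simpa using congrFun e ⟨0, by omega⟩⟩
  obtain ⟨w0, hw0⟩ := (form C).exists_one he0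
  have hμ2 : μ * μ = 1 := by
    have h := hsim (T.S e0) (T.S w0)
    rw [hTT, hTT, hsim, hw0, mul_one] at h
    exact h.symm
  have hμ0 : μ ≠ 0 := left_ne_zero_of_mul_eq_one hμ2
  have hfix1 : ∀ e : F, e * e = 1 → C.σ e = e := fun e he => by
    rcases mul_self_eq_one_iff.1 he with h | h <;> simp [h]
  have hsum : n ≤ finrank F (eig T 1) + finrank F (eig T (-1)) := by
    have htop : eig T 1 ⊔ eig T (-1) = ⊤ := eq_top_iff.2 fun x _ => by
      have hx : x = (2 : F)⁻¹ • (x + T.S x) + (2 : F)⁻¹ • (x - T.S x) := by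
        rw [← smul_add, show x + T.S x + (x - T.S x) = (2 : F) • x by rw [two_smul]; abel, smul_smul,
          inv_mul_cancel₀ h2, one_smul]
      rw [hx]
      refine Submodule.add_mem_sup ((eig T 1).smul_mem _ ?_) ((eig T (-1)).smul_mem _ ?_)
      · rw [mem_eig, T.map_add, hTT, one_smul, add_comm]
      · rw [mem_eig, T.map_sub, hTT, neg_one_smul, neg_sub]
    have h := Submodule.finrank_add_le_finrank_add_finrank (eig T 1) (eig T (-1))
    rwa [htop, finrank_top, finrank_V] at h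
  have hcomm : ∀ (e : F), e * e = 1 → ∀ v u : Vn, T.S v = e • v → T.S u = (μ * e) • u →
      T.Comm ((form C).sie v u) := by
    intro e he v u hv hu
    refine (form C).comm_sie T (μ := μ) hμ0 hμσ rfl hsim (left_ne_zero_of_mul_eq_one he) hv ?_
    rw [hu, smul_smul, hΦσ, hfix1 e he, show e / μ * (μ * e) = e * e by field_simp, he, one_smul]
  obtain ⟨e, he, hbig, hbig'⟩ : ∃ e : F, e * e = 1 ∧
      n ≤ 2 * finrank F (eig T e) ∧ n ≤ finrank F (eig T e) + finrank F (eig T (-e)) := by
    by_cases h : n ≤ 2 * finrank F (eig T 1)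
    · exact ⟨1, one_mul 1, h, hsum⟩
    · exact ⟨-1, by ring, by omega, by rw [neg_neg]; omega⟩
  have hne : -e ≠ e := fun h => left_ne_zero_of_mul_eq_one he
    ((mul_eq_zero.1 (show (2 : F) * e = 0 by linear_combination -h)).resolve_left h2)
  have hout : ∀ f : F, -f ≠ f → ∀ v ∈ eig T (-f), ∀ u ∈ eig T f, u ≠ 0 → u ∉ F ∙ v := by
    intro f hf v hv u hu hu0 hm
    obtain ⟨r, hr⟩ := Submodule.mem_span_singleton.1 hm
    have h1 : T.S u = -f • u := by
      conv_lhs => rw [← hr, T.map_smul, show T.S v = -f • v from hv]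
      rw [show (1 : F ≃+* F) r = r from rfl, smul_comm, hr]
    rw [mem_eig.1 hu] at h1
    exact hu0 ((smul_eq_zero.1 (show (f - -f) • u = 0 by rw [sub_smul, h1, sub_self])).resolve_left
      fun h => hf (by linear_combination -h))
  obtain ⟨δ, hδ, hδσ⟩ := exists_imag (RingEquiv.ext C.invol : C.σ * C.σ = 1) (conj_ne C)
  have hr : ∀ r : F, r ≠ 0 → C.σ r = -r → (form (n := n) C).σ ((form (n := n) C).ε * r) ≠ r := by
    intro r hr0 hrσ
    rw [show (form (n := n) C).ε = 1 from rfl, one_mul, hΦσ, hrσ]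
    exact fun e => hr0 ((mul_eq_zero.1 (show (2 : F) * r = 0 by linear_combination -e)).resolve_left h2)
  rcases mul_self_eq_one_iff.1 hμ2 with hμ | hμ
  · have hE : ∀ f : F, f * f = 1 → ∀ v ∈ eig T f, ∀ u ∈ eig T f, T.Comm ((form C).sie v u) :=
      fun f hf v hv u hu => hcomm f hf v u hv (by rw [hμ, one_mul]; exact hu)
    obtain ⟨v, hvE, hv, hvv⟩ := (form C).exists_iso_two h2 rfl (conj_ne C) (eig T e) (by omega)
    by_cases hgen : p < q
    · obtain ⟨t, ht, htj⟩ := exists_gen p (fixedBy C.σ) (by rw [fixedBy_card hF C]; exact hgen)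
      refine ⟨_, _, (form C).pair_sie hvv (a := δ • v) (b := (t * δ) • v)
        (by rw [(form C).smul_right, hvv, mul_zero]) (by rw [(form C).smul_right, hvv, mul_zero]) ?_
        ((form C).sie_self_ne_zero hv (hr δ hδ hδσ)) (fun j => ?_), (form C).sie_skew _ _,
        (form C).sie_skew _ _, hE e he v hvE _ ((eig T e).smul_mem _ hvE),
        hE e he v hvE _ ((eig T e).smul_mem _ hvE)⟩
      · simp [(form C).smul_left, (form C).smul_right, hvv]
      · rw [← Nat.cast_smul_eq_nsmul F, smul_smul, ← add_smul, ← add_mul]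
        refine (form C).sie_self_ne_zero hv (hr _ (mul_ne_zero (htj j) hδ) ?_)
        rw [map_mul, map_add, map_natCast, hδσ, show C.σ t = t from ht, mul_neg]
    have hn4 : 4 ≤ n := by
      by_contra h
      exact hgen (hq (by omega))
    by_cases h3 : 3 ≤ finrank F (eig T e)
    · obtain ⟨w, hwE, hw, hwv⟩ := Form.exists_ker_outside ![(form C).lin v] (eig T e) (F ∙ v) (by
        have := Form.finrank_span_le_one (F := F) v
        omega)
      exact ⟨_, _, (form C).pair_sie_self hv hvv (hw 0) hwv (hr δ hδ hδσ), (form C).sie_skew _ _,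
        (form C).sie_skew _ _, hE e he v hvE _ ((eig T e).smul_mem δ hvE), hE e he v hvE w hwE⟩
    obtain ⟨v', hvE', hv', hvv'⟩ := (form C).exists_iso_two h2 rfl (conj_ne C) (eig T (-e)) (by omega)
    have hperp : (form C).b v v' = 0 := by
      have h := hsim v v'
      rw [mem_eig.1 hvE, mem_eig.1 hvE', (form C).smul_left, (form C).smul_right, hΦσ, hfix1 e he, hμ,
        one_mul] at h
      exact (mul_eq_zero.1 (show (2 : F) * (form C).b v v' = 0 by
        linear_combination -h - (form C).b v v' * he)).resolve_left h2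
    have hperp' := (form C).eq_zero_comm hperp
    have hve : v' ∉ F ∙ v := hout (-e) (by rw [neg_neg]; exact Ne.symm hne) v (by rwa [neg_neg]) v'
      hvE' hv'
    have mul0 : ∀ a b : Vn, (form C).b a b = 0 →
        (form C).sie a (δ • a) * (form C).sie b (δ • b) = 0 := fun a b hab => Form.ext_mulVec fun x => by
      rw [← Matrix.mulVec_mulVec, (form C).sie_smul_self δ x, Matrix.mulVec_smul,
        (form C).sie_smul_self δ b, hab, mul_zero, zero_smul, smul_zero, Matrix.zero_mulVec]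
    refine ⟨(form C).sie v (δ • v), (form C).sie v' (δ • v'),
      ⟨by rw [mul0 _ _ hperp, mul0 _ _ hperp'], by rw [mul0 _ _ hvv, zero_mul],
        by rw [mul0 _ _ hvv, zero_mul], by rw [mul0 _ _ hperp, zero_mul],
        by rw [mul0 _ _ hvv', zero_mul], (form C).sie_self_ne_zero hv (hr δ hδ hδσ), fun j hj => ?_⟩,
      (form C).sie_skew _ _, (form C).sie_skew _ _, hE e he v hvE _ ((eig T e).smul_mem δ hvE),
      hE (-e) (by linear_combination he) v' hvE' _ ((eig T (-e)).smul_mem δ hvE')⟩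
    obtain ⟨x, hx⟩ := (form C).exists_one hv'
    have h := congrArg (· *ᵥ x) hj
    simp only [← Nat.cast_smul_eq_nsmul F, Matrix.add_mulVec, Matrix.smul_mulVec,
      (form C).sie_smul_self, hx, Matrix.zero_mulVec, mul_one, smul_smul] at h
    refine hve ?_
    have hcoef : δ - (form (n := n) C).σ ((form (n := n) C).ε * δ) ≠ 0 :=
      sub_ne_zero.2 (Ne.symm (hr δ hδ hδσ))
    have h' := eq_neg_of_add_eq_zero_left h
    rw [← neg_smul] at h'
    have h'' := congrArg ((δ - (form (n := n) C).σ ((form (n := n) C).ε * δ))⁻¹ • ·) h'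
    simp only [smul_smul, inv_mul_cancel₀ hcoef, one_smul] at h''
    rw [h'']
    exact (F ∙ v).smul_mem _ (Submodule.mem_span_singleton_self v)
  · have hiso : ∀ f : F, f * f = 1 → ∀ x y : Vn, T.S x = f • x → T.S y = f • y →
        (form C).b x y = 0 := by
      intro f hf x y hx hy
      have h := hsim x y
      rw [hx, hy, (form C).smul_left, (form C).smul_right, hΦσ, hfix1 f hf, ← mul_assoc, hf, one_mul,
        hμ, neg_one_mul] at h
      exact (mul_eq_zero.1 (show (2 : F) * (form C).b x y = 0 by linear_combination h)).resolve_left h2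
    obtain ⟨v, hvE, hv⟩ : ∃ v ∈ eig T (-e), v ≠ 0 := by
      refine Submodule.exists_mem_ne_zero_of_ne_bot fun hbot => ?_
      rw [hbot, finrank_bot] at hbig'
      have htop : eig T e = ⊤ := by
        refine Submodule.eq_top_of_finrank_eq ?_
        have hle := Submodule.finrank_le (eig T e)
        rw [finrank_V] at hle ⊢
        omega
      refine he0 ((form C).nondeg e0 fun y => hiso e he e0 y ?_ ?_) <;>
        (rw [← mem_eig, htop]; trivial)
    have hvv := hiso (-e) (by linear_combination he) v v hvE hvE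
    obtain ⟨w, hwE, hw, hw0⟩ := Form.exists_ker_outside ![(form C).lin v] (eig T e) ⊥ (by
      rw [finrank_bot]; omega)
    have hwne : w ≠ 0 := fun h => hw0 (h ▸ Submodule.zero_mem _)
    obtain ⟨t, ht⟩ := exists_gen_top (F := F) p (by
      rw [hF]
      have : 1 < p := (Fact.out : p.Prime).one_lt
      nlinarith)
    have hE : ∀ u ∈ eig T e, T.Comm ((form C).sie v u) := fun u hu =>
      hcomm (-e) (by linear_combination he) v u hvE (by
        rw [hμ, show -1 * -e = e by ring]; exact hu)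
    exact ⟨_, _, (form C).pair_sie_smul hv hvv (hw 0) (hout e hne v hvE w hwE hwne) ht
      (Or.inr (hiso e he w w hwE hwE)), (form C).sie_skew _ _, (form C).sie_skew _ _, hE w hwE,
      hE _ ((eig T e).smul_mem t hwE)⟩

/-- The semilinear case. -/
theorem exists_pair_conj (p : ℕ) [Fact p.Prime] [CharP F p] (hp : p ≠ 2) (hn : 3 ≤ n)
    (hF : Fintype.card F = q ^ 2) (hq : n = 3 → p < q) (C : AutPSU.Conj F q)
    (T : Semi C.σ (Fin n)) {μ : F} (hμ2 : μ * μ = 1) (hTT : ∀ x, T.S (T.S x) = x)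
    (hsim : ∀ x y, (form C).b (T.S x) (T.S y) = μ * C.σ ((form C).b x y)) :
    ∃ A B : Mn, IsPair A B ∧ (form C).Skew A ∧ (form C).Skew B ∧ T.Comm A ∧ T.Comm B := by
  have h2 := two_ne_zero' (F := F) p hp
  have hσσ : C.σ * C.σ = 1 := RingEquiv.ext C.invol
  have hne := conj_ne C
  have hΦσ : ∀ r : F, (form (n := n) C).σ r = C.σ r := fun _ => rfl
  have hfixμ : C.σ μ = μ := by rcases mul_self_eq_one_iff.1 hμ2 with h | h <;> simp [h]
  have hμ0 : μ ≠ 0 := left_ne_zero_of_mul_eq_one hμ2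
  have hinv : μ⁻¹ = μ := inv_eq_of_mul_eq_one_right hμ2
  have hperp : ∀ x y : Vn, T.S x = x → (form C).b x y = 0 → (form C).b x (T.S y) = 0 :=
    fun x y hx hxy => by rw [← hx, hsim, hxy, map_zero, mul_zero]
  have houtside : ∀ W : Submodule F Vn, (∃ u, u ∉ W) → ∃ w, w ∉ W ∧ T.S w = w := fun W ⟨u, hu⟩ => by
    obtain ⟨w, -, hw⟩ := T.exists_fixed_outside h2 hσσ hne ⊤ W (fun _ _ => trivial) (fun u _ => hTT u)
      fun h => hu (h (Submodule.mem_top (x := u)))
    exact ⟨w, hw⟩
  obtain ⟨v, hv, hvv, hvfix⟩ : ∃ v : Vn, v ≠ 0 ∧ (form C).b v v = 0 ∧ T.S v = v := by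
    obtain ⟨x, hx, hxfix⟩ := houtside ⊥ ⟨Pi.single ⟨0, by omega⟩ 1, fun h => by
      simpa using congrFun ((Submodule.mem_bot F).1 h) ⟨0, by omega⟩⟩
    have hx0 : x ≠ 0 := fun e => hx (e ▸ Submodule.zero_mem _)
    have hreal : ∀ u : Vn, C.σ ((form C).b u u) = (form C).b u u := fun u => by
      conv_rhs => rw [(form C).swap u u]
      exact (one_mul _).symm
    rcases mul_self_eq_one_iff.1 hμ2 with hμ | hμ
    swap
    · refine ⟨x, hx0, ?_, hxfix⟩
      have h := hsim x x
      rw [hxfix, hreal, hμ, neg_one_mul] at h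
      exact (mul_eq_zero.1 (show (2 : F) * (form C).b x x = 0 by linear_combination h)).resolve_left h2
    by_cases hxx : (form C).b x x = 0
    · exact ⟨x, hx0, hxx, hxfix⟩
    obtain ⟨y, hy, hy0, hyfix⟩ := T.exists_fixed_outside h2 hσσ hne
      (LinearMap.ker ((form C).lin x)) ⊥ (fun u hu => hperp x u hxfix hu) (fun u _ => hTT u)
      fun h => by
        obtain ⟨u, -, hu, hu0⟩ := Form.exists_ker_outside ![(form C).lin x] ⊤ ⊥ (by
          rw [finrank_top, finrank_V, finrank_bot]; omega)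
        exact hu0 (h (LinearMap.mem_ker.2 (hu 0)))
    have hxy : (form C).b x y = 0 := hy
    by_cases hyy : (form C).b y y = 0
    · exact ⟨y, fun e => hy0 (e ▸ Submodule.zero_mem _), hyy, hyfix⟩
    obtain ⟨z, hz, hz0, hzfix⟩ := T.exists_fixed_outside h2 hσσ hne
      (LinearMap.ker ((form C).lin x) ⊓ LinearMap.ker ((form C).lin y)) ⊥
      (fun u hu => ⟨hperp x u hxfix hu.1, hperp y u hyfix hu.2⟩) (fun u _ => hTT u) fun h => by
        obtain ⟨u, -, hu, hu0⟩ := Form.exists_ker_outside ![(form C).lin x, (form C).lin y] ⊤ ⊥ (by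
          rw [finrank_top, finrank_V, finrank_bot]; omega)
        exact hu0 (h ⟨LinearMap.mem_ker.2 (hu 0), LinearMap.mem_ker.2 (hu 1)⟩)
    by_cases hzz : (form C).b z z = 0
    · exact ⟨z, fun e => hz0 (e ▸ Submodule.zero_mem _), hzz, hzfix⟩
    have hxz : (form C).b x z = 0 := hz.1
    have hyz : (form C).b y z = 0 := hz.2
    obtain ⟨s, t, hs, ht, hst⟩ := exists_fixed_sol h2 C.σ (hreal x) (hreal y) (hreal z) hxx hyy
    refine ⟨s • x + t • y + z, fun e => hzz ?_, ?_, ?_⟩
    · have h := congrArg ((form C).b z) e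
      simpa [(form C).add_right, (form C).smul_right, (form C).zero_right, (form C).eq_zero_comm hxz,
        (form C).eq_zero_comm hyz] using h
    · simp only [(form C).add_left, (form C).add_right, (form C).smul_left, (form C).smul_right, hΦσ,
        hs, ht, hxy, hxz, hyz, (form C).eq_zero_comm hxy, (form C).eq_zero_comm hxz,
        (form C).eq_zero_comm hyz]
      linear_combination hst
    · rw [T.map_add, T.map_add, T.map_smul, T.map_smul, hs, ht, hxfix, hyfix, hzfix]
  obtain ⟨T₂, hT₂⟩ : ∃ T₂, T₂ = T.scale μ hμ0 := ⟨_, rfl⟩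
  have hS₂ : ∀ x, T₂.S x = μ • T.S x := fun x => by rw [hT₂]; rfl
  have hcomm : ∀ u, μ • T.S u = u → T.Comm ((form C).sie v u) := fun u hu =>
    (form C).comm_sie T hμ0 hfixμ (map_one C.σ) hsim one_ne_zero (by rw [hvfix, one_smul])
      (by rw [map_one, one_div, hinv]; exact hu)
  have houtside2 : ∀ W : Submodule F Vn, finrank F W + 1 < n →
      ∃ w, (form C).b v w = 0 ∧ w ∉ W ∧ μ • T.S w = w := fun W hW => by
    obtain ⟨w, hw, hwW, hwfix⟩ := T₂.exists_fixed_outside h2 hσσ hne
      (LinearMap.ker ((form C).lin v)) W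
      (fun u hu => by
        rw [LinearMap.mem_ker, Form.lin_apply] at hu ⊢
        rw [hS₂, (form C).smul_right, hperp v u hvfix hu, mul_zero])
      (fun u _ => by rw [hS₂, hS₂, T.map_smul, hTT, smul_smul, hfixμ, hμ2, one_smul])
      fun h => by
        obtain ⟨u, -, hu, hu0⟩ := Form.exists_ker_outside ![(form C).lin v] ⊤ W (by
          rw [finrank_top, finrank_V]; omega)
        exact hu0 (h (LinearMap.mem_ker.2 (hu 0)))
    exact ⟨w, hw, hwW, hS₂ w ▸ hwfix⟩
  obtain ⟨w, hw, hwv, hwfix⟩ := houtside2 (F ∙ v) (by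
    have := Form.finrank_span_le_one (F := F) v
    omega)
  rcases mul_self_eq_one_iff.1 hμ2 with hμ | hμ
  swap
  · obtain ⟨δ, hδ, hδσ⟩ := exists_imag hσσ hne
    refine ⟨_, _, (form C).pair_sie_self hv hvv hw hwv (r := δ) ?_, (form C).sie_skew _ _,
      (form C).sie_skew _ _, hcomm _ ?_, hcomm w hwfix⟩
    · rw [show (form (n := n) C).ε = 1 from rfl, one_mul, hΦσ, hδσ]
      exact fun e => hδ ((mul_eq_zero.1 (show (2 : F) * δ = 0 by linear_combination -e)).resolve_left h2)
    · rw [T.map_smul, hvfix, hδσ, smul_smul, hμ, neg_one_mul, neg_neg]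
  by_cases h3 : n = 3
  · obtain ⟨t, ht, htj⟩ := exists_gen p (fixedBy C.σ) (by rw [fixedBy_card hF C]; exact hq h3)
    refine ⟨_, _, (form C).pair_sie_smul hv hvv hw hwv htj (Or.inl ht), (form C).sie_skew _ _,
      (form C).sie_skew _ _, hcomm w hwfix, hcomm _ ?_⟩
    rw [T.map_smul, show C.σ t = t from ht, smul_comm, hwfix]
  · obtain ⟨w', hw', hwv', hwfix'⟩ := houtside2 ((F ∙ v) ⊔ (F ∙ w)) (by
      have := Submodule.finrank_add_le_finrank_add_finrank (F ∙ v) (F ∙ w)
      have := Form.finrank_span_le_one (F := F) v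
      have := Form.finrank_span_le_one (F := F) w
      omega)
    refine ⟨_, _, (form C).pair_sie hvv hw hw' ?_ ((form C).sie_ne_zero hv hwv) (fun j => ?_),
      (form C).sie_skew _ _, (form C).sie_skew _ _, hcomm w hwfix, hcomm w' hwfix'⟩
    · rw [hμ, one_smul] at hwfix hwfix'
      have h := hsim w w'
      rw [hwfix, hwfix', hμ, one_mul] at h
      rw [(form C).swap w w', show (form (n := n) C).ε = 1 from rfl, one_mul]
      exact h
    · refine (form C).sie_ne_zero hv fun hm => hwv' ?_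
      have := sub_mem ((le_sup_left : F ∙ v ≤ (F ∙ v) ⊔ (F ∙ w)) hm)
        ((le_sup_right : F ∙ w ≤ (F ∙ v) ⊔ (F ∙ w))
          ((F ∙ w).smul_of_tower_mem j (Submodule.mem_span_singleton_self w)))
      rwa [add_sub_cancel_right] at this

theorem twoFix_semi (p : ℕ) [Fact p.Prime] [CharP F p] (hp : p ≠ 2) (hn : 3 ≤ n)
    (hF : Fintype.card F = q ^ 2) (hpq : p ≤ q) (hq : n = 3 → p < q) (C : AutPSU.Conj F q)
    {g : GUn} {τ : F ≃+* F} (h : (AutPSU.semi g τ : MulAut PSUn) * AutPSU.semi g τ = 1) :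
    TwoFix p (AutPSU.semi g τ : MulAut PSUn) := by
  rw [AutPSU.semi_mul] at h
  obtain ⟨hττ, a, hax⟩ := (AutPSU.semi_eq_one_iff hn hF).1 h
  obtain ⟨T, hT⟩ : ∃ T, T = Semi.ofGL (g : GL (Fin n) F) τ := ⟨_, rfl⟩
  have hTT : ∀ x, T.S (T.S x) = a • x := fun x => by
    subst hT
    show AutPSU.sm (g : GL (Fin n) F) τ (AutPSU.sm (g : GL (Fin n) F) τ x) = _
    rw [AutPSU.sm_comp, hττ, AutPSU.sm]
    exact hax x
  have hsim : ∀ x y, (form C).b (T.S x) (T.S y) = τ ((form C).b x y) := fun x y => by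
    subst hT
    exact AutPSU.sm_pres g.2 τ y x
  have hΦσ : ∀ r : F, (form (n := n) C).σ r = C.σ r := fun _ => rfl
  obtain ⟨e0, he0⟩ : ∃ e : Vn, e ≠ 0 := ⟨Pi.single ⟨0, by omega⟩ 1, fun e => by
    simpa using congrFun e ⟨0, by omega⟩⟩
  obtain ⟨w0, hw0⟩ := (form C).exists_one he0
  have hnorm : C.σ a * a = 1 := by
    have e := hsim (T.S e0) (T.S w0)
    rw [hTT, hTT, hsim, hw0, map_one, map_one, (form C).smul_left, (form C).smul_right, hw0, mul_one,
      hΦσ] at e
    exact e
  have ha : a ≠ 0 := right_ne_zero_of_mul_eq_one hnorm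
  obtain ⟨A, B, hP, hA, hB, hcA, hcB⟩ : ∃ A B : Mn, IsPair A B ∧ (form C).Skew A ∧
      (form C).Skew B ∧ T.Comm A ∧ T.Comm B := by
    by_cases hτ : τ = 1
    · subst hτ
      have hid : ∀ r : F, (1 : F ≃+* F) r = r := fun _ => rfl
      simp only [hid] at hsim
      obtain ⟨c, hc⟩ : IsSquare a := by
        have hchar : ringChar F ≠ 2 := by rw [ringChar.eq F p]; exact hp
        rw [FiniteField.isSquare_iff hchar ha, hF]
        have hodd := FiniteField.odd_card_of_char_ne_two hchar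
        rw [hF] at hodd
        obtain ⟨k, rfl⟩ : Odd q := by
          rw [← Nat.odd_pow_iff (by norm_num : (2 : ℕ) ≠ 0), Nat.odd_iff]
          exact hodd
        rw [show (2 * k + 1) ^ 2 / 2 = (2 * k + 1 + 1) * k by
          rw [show (2 * k + 1) ^ 2 = 1 + ((2 * k + 1 + 1) * k) * 2 by ring,
            Nat.add_mul_div_right _ _ (by norm_num : 0 < 2)]
          simp, pow_mul, pow_succ, ← C.apply_eq, hnorm, one_pow]
      have hc0 : c ≠ 0 := fun e => ha (by rw [hc, e, zero_mul])
      obtain ⟨A, B, hP, hA, hB, hcA, hcB⟩ := exists_pair_linear p hp hn hF hpq hq C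
        (T.scale c⁻¹ (inv_ne_zero hc0)) (μ := C.σ c⁻¹ * c⁻¹)
        (by rw [map_mul, C.invol, mul_comm])
        (fun x => by
          show c⁻¹ • T.S (c⁻¹ • T.S x) = x
          rw [T.map_smul, hid, hTT, smul_smul, smul_smul, show c⁻¹ * c⁻¹ * a = 1 by
            rw [hc]; field_simp, one_smul])
        (fun x y => by
          show (form C).b (c⁻¹ • T.S x) (c⁻¹ • T.S y) = _
          rw [(form C).smul_left, (form C).smul_right, hsim, hΦσ]
          ring)
      exact ⟨A, B, hP, hA, hB, Semi.Comm.of_scale T _ hcA, Semi.Comm.of_scale T _ hcB⟩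
    · obtain rfl := AutPSU.sigma_unique C (by rw [sq]; exact hττ) hτ
      have haσ : C.σ a = a := by
        have h' := (congrArg T.S (hTT e0)).symm.trans (hTT (T.S e0))
        rw [T.map_smul] at h'
        exact smul_left_injective F (fun e => he0 (T.inj (e.trans T.map_zero.symm))) h'
      have ha2 : a * a = 1 := by rwa [haσ] at hnorm
      obtain ⟨b, hb⟩ := AutPSU.exists_norm C haσ
      have hb0 : b ≠ 0 := fun e => ha (by rw [← hb, e, zero_mul])
      obtain ⟨A, B, hP, hA, hB, hcA, hcB⟩ := exists_pair_conj p hp hn hF hq C (T.scale b hb0) (μ := a)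
        ha2
        (fun x => by
          show b • T.S (b • T.S x) = x
          rw [T.map_smul, hTT, smul_smul, smul_smul, hb, ha2, one_smul])
        (fun x y => by
          show (form C).b (b • T.S x) (b • T.S y) = _
          rw [(form C).smul_left, (form C).smul_right, hsim, hΦσ, ← hb]
          ring)
      exact ⟨A, B, hP, hA, hB, Semi.Comm.of_scale T _ hcA, Semi.Comm.of_scale T _ hcB⟩
  exact twoFix p hp (by omega) hF C hP hA hB (hT ▸ hcA) (hT ▸ hcB)

end Cfsg.Agent.InvRankP.Unitary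

namespace Cfsg.Agent.InvRankP

theorem psuStmt_holds : PSUStmt := by
  intro F _ _ p _ _ n q hp hF hn hex φ hφ
  have hpr : p.Prime := Fact.out
  obtain ⟨k, -, hk⟩ := FiniteField.card F p
  have hdvd : p ∣ q := hpr.dvd_of_dvd_pow (n := 2) (by rw [← hF, hk]; exact dvd_pow_self p k.ne_zero)
  have hq0 : q ≠ 0 := fun e => by
    have h := Fintype.card_pos (α := F)
    rw [hF, e] at h
    simp at h
  have hpq : p ≤ q := Nat.le_of_dvd (Nat.pos_of_ne_zero hq0) hdvd
  obtain ⟨C⟩ := AutPSU.exists_conj hF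
  obtain ⟨g, τ, rfl⟩ := AutPSU.exists_semi' hn hF (fun h => hp (by
    rw [h.2] at hdvd
    exact (Nat.prime_dvd_prime_iff_eq hpr Nat.prime_two).1 hdvd)) φ
  exact Unitary.twoFix_semi p hp hn hF hpq
    (fun h3 => lt_of_le_of_ne hpq fun e => hex ⟨h3, e.symm⟩) C hφ

end Cfsg.Agent.InvRankP
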