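import Cfsg.Agent.Lib.InvRankP.Defs
import Cfsg.Agent.Lib.Components.FStar

/-!
S2876 from the statements by family.
-/

set_option autoImplicit false
set_option linter.style.haveILetI false

namespace Cfsg.Agent.InvRankP

open Subgroup

universe u

/-- A pair of independent commuting elements of order dividing `p` gives rank two. -/
theorem pRankAtLeast_two {p : ℕ} [Fact p.Prime] {H : Type u} [Group H] [Finite H] {a b : H}
    (ha : a ^ p = 1) (hb : b ^ p = 1) (hab : a * b = b * a) (ha1 : a ≠ 1) (hbz : b ∉ zpowers a) :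
    Cfsg.PRankAtLeast p 2 H := by
  have hp : p.Prime := Fact.out
  have hc : ∀ x ∈ ({a, b} : Set H), ∀ y ∈ ({a, b} : Set H), x * y = y * x := by
    simp only [Set.mem_insert_iff, Set.mem_singleton_iff]
    rintro x (rfl | rfl) y (rfl | rfl) <;> simp [hab]
  haveI hcomm : IsMulCommutative ↥(closure ({a, b} : Set H)) :=
    Subgroup.isMulCommutative_closure hc
  refine ⟨closure {a, b}, hcomm, fun x hx => ?_, ?_⟩
  · induction hx using closure_induction with
    | mem x hx => rcases hx with rfl | rfl <;> assumption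
    | one => exact one_pow p
    | mul x y hx hy h1 h2 =>
      rw [Commute.mul_pow (congrArg Subtype.val (hcomm.is_comm.comm ⟨x, hx⟩ ⟨y, hy⟩)), h1, h2, one_mul]
    | inv x _ h => rw [inv_pow, h, inv_one]
  · have hoa : orderOf a = p := orderOf_eq_prime ha ha1
    have hle : zpowers a ≤ closure ({a, b} : Set H) := zpowers_le.2 (subset_closure (Set.mem_insert a _))
    have hd : Nat.card (zpowers a) ∣ Nat.card ↥(closure ({a, b} : Set H)) := card_dvd_of_le hle
    obtain ⟨k, hk⟩ := hd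
    rw [Nat.card_zpowers, hoa] at hk
    have hk1 : k ≠ 1 := fun h => hbz ((eq_of_le_of_card_ge hle
      (by rw [Nat.card_zpowers, hoa, hk, h, mul_one])) ▸ subset_closure (by simp))
    have hk0 : k ≠ 0 := fun h => by
      rw [h, mul_zero] at hk
      exact Nat.card_pos.ne' hk
    have hbig : ∀ q, q.Prime → q ∣ Nat.card ↥(closure ({a, b} : Set H)) → q = p := by
      intro q hq hqd
      haveI : Fact q.Prime := ⟨hq⟩
      obtain ⟨x, hx⟩ := exists_prime_orderOf_dvd_card' q hqd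
      have hxp : (x : H) ^ p = 1 := by
        have : ∀ y ∈ closure ({a, b} : Set H), y ^ p = 1 := by
          intro y hy
          induction hy using closure_induction with
          | mem x hx => rcases hx with rfl | rfl <;> assumption
          | one => exact one_pow p
          | mul x y hx hy h1 h2 =>
            rw [Commute.mul_pow (congrArg Subtype.val (hcomm.is_comm.comm ⟨x, hx⟩ ⟨y, hy⟩)), h1, h2, one_mul]
          | inv x _ h => rw [inv_pow, h, inv_one]
        exact this _ x.2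
      exact (Nat.prime_dvd_prime_iff_eq hq hp).1 (hx ▸ orderOf_dvd_of_pow_eq_one (Subtype.ext hxp))
    obtain ⟨q, hq, hqk⟩ := Nat.exists_prime_and_dvd hk1
    obtain rfl := hbig q hq (hk ▸ hqk.mul_left p)
    rw [hk, pow_two]
    exact Nat.mul_le_mul_left _ (Nat.le_of_dvd (Nat.pos_of_ne_zero hk0) hqk)

/-- The statement S2876 from the families. -/
theorem S2876_of (hA1 : PSLStmt) (hA2 : PSpStmt) (hA3 : PSUStmt) (hB1 : POmegaOddStmt)
    (hB2 : POmegaPlusStmt) (hB3 : POmegaMinusStmt) (hC : ExceptionalStmt) (hD1 : TwistedStmt)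
    (hD2 : ReeStmt.{u}) {X : Type u} [Group X] [Finite X] {p : ℕ} [Fact p.Prime] (hp : p ≠ 2)
    (hK : Cfsg.IsChevSimple p ↥(Cfsg.generalizedFittingSubgroup X)) :
    (∀ x : X, orderOf x = 2 → Cfsg.PRankAtLeast p 2 ↥(Subgroup.centralizer ({x} : Set X))) ∨
      (∃ (F : Type) (_ : Field F) (_ : Fintype F) (n : ℕ), 1 ≤ n ∧ Fintype.card F = p ^ n ∧
        Nonempty (↥(Cfsg.generalizedFittingSubgroup X) ≃* Matrix.ProjectiveSpecialLinearGroup (Fin 2) F)) ∨
      (∃ (F : Type) (_ : Field F) (_ : Fintype F), Fintype.card F = p ∧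
        (Nonempty (↥(Cfsg.generalizedFittingSubgroup X) ≃* Matrix.ProjectiveSpecialLinearGroup (Fin 3) F) ∨
          Nonempty (↥(Cfsg.generalizedFittingSubgroup X) ≃* Cfsg.PSp 2 F))) ∨
      (∃ (F : Type) (_ : Field F) (_ : Fintype F), Fintype.card F = p ^ 2 ∧
        Nonempty (↥(Cfsg.generalizedFittingSubgroup X) ≃* Cfsg.PSU 3 F p)) ∨
      (∃ (F : Type) (_ : Field F) (_ : Fintype F), Fintype.card F = 8 ∧
        Nonempty (↥(Cfsg.generalizedFittingSubgroup X) ≃* Matrix.ProjectiveSpecialLinearGroup (Fin 2) F)) := by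
  set K := Cfsg.generalizedFittingSubgroup X with hKdef
  haveI : K.Normal := Components.generalizedFitting_normal
  have main : Rank2 p ↥K → ∀ x : X, orderOf x = 2 →
      Cfsg.PRankAtLeast p 2 ↥(Subgroup.centralizer ({x} : Set X)) := by
    intro hR x hx
    have hx2 : x * x = 1 := by rw [← pow_two, ← hx, pow_orderOf_eq_one]
    obtain ⟨a, b, ha, hb, hab, hfa, hfb, ha1, hbz⟩ := hR (MulAut.conjNormal x)
      (by rw [← map_mul, hx2, map_one])
    have hmem : ∀ {c : K}, MulAut.conjNormal x c = c → (c : X) ∈ centralizer ({x} : Set X) := fun {c} h => by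
      have h' := congrArg Subtype.val h
      rw [MulAut.conjNormal_apply] at h'
      exact mem_centralizer_singleton_iff.2 (mul_inv_eq_iff_eq_mul.1 h').symm
    refine pRankAtLeast_two (a := (⟨a, hmem hfa⟩ : centralizer ({x} : Set X))) (b := ⟨b, hmem hfb⟩)
      (Subtype.ext (congrArg Subtype.val ha :)) (Subtype.ext (congrArg Subtype.val hb :))
      (Subtype.ext (congrArg Subtype.val hab :)) (fun e => ha1 (Subtype.ext (congrArg Subtype.val e :)))
      fun hz => hbz ?_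
    obtain ⟨k, hk⟩ := mem_zpowers_iff.1 hz
    exact mem_zpowers_iff.2 ⟨k, Subtype.ext (congrArg Subtype.val hk :)⟩
  rcases hK with h | ⟨rfl, -⟩ | ⟨-, F, i1, i2, hF, he⟩
  · rcases h with ⟨F, i1, i2, i3, n, hn, -, ⟨e⟩⟩ | ⟨F, i1, i2, i3, m, hm, -, ⟨e⟩⟩ |
      ⟨F, i1, i2, i3, n, q, hq, hn, -, ⟨e⟩⟩ | ⟨F, i1, i2, i3, m, hm, -, ⟨e⟩⟩ | ⟨F, i1, i2, i3, m, hm, ⟨e⟩⟩ |
      ⟨F, i1, i2, i3, m, a, b, hm, hab, ⟨e⟩⟩ | ⟨F, i1, i2, i3, h⟩ | ⟨F, i1, i2, i3, q, hq, h⟩ | ⟨rfl, -⟩ |
      ⟨rfl, -⟩ | ⟨rfl, h⟩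
    · rcases (by omega : n = 2 ∨ 3 ≤ n) with rfl | h3
      · obtain ⟨f, -, hf⟩ := FiniteField.card F p
        exact Or.inr (Or.inl ⟨F, i1, i2, f, f.pos, hf, ⟨e⟩⟩)
      · by_cases hex : n = 3 ∧ Fintype.card F = p
        · obtain ⟨rfl, hc⟩ := hex
          exact Or.inr (Or.inr (Or.inl ⟨F, i1, i2, hc, Or.inl ⟨e⟩⟩))
        · exact Or.inl (main ((hA1 F p n hp h3 hex).congr e))
    · by_cases hex : m = 2 ∧ Fintype.card F = p
      · obtain ⟨rfl, hc⟩ := hex
        exact Or.inr (Or.inr (Or.inl ⟨F, i1, i2, hc, Or.inr ⟨e⟩⟩))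
      · exact Or.inl (main ((hA2 F p m hp hm hex).congr e))
    · by_cases hex : n = 3 ∧ q = p
      · obtain ⟨rfl, rfl⟩ := hex
        exact Or.inr (Or.inr (Or.inr (Or.inl ⟨F, i1, i2, hq, ⟨e⟩⟩)))
      · exact Or.inl (main ((hA3 F p n q hp hq hn hex).congr e))
    · exact Or.inl (main ((hB1 F p m hp hm).congr e))
    · exact Or.inl (main ((hB2 F p m hp hm).congr e))
    · exact Or.inl (main ((hB3 F p m a b hp hm hab).congr e))
    · obtain ⟨h1, h2, h3, h4, h5⟩ := hC F p hp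
      rcases h with ⟨-, ⟨e⟩⟩ | ⟨⟨e⟩⟩ | ⟨⟨e⟩⟩ | ⟨⟨e⟩⟩ | ⟨⟨e⟩⟩
      exacts [Or.inl (main (h1.congr e)), Or.inl (main (h2.congr e)), Or.inl (main (h3.congr e)),
        Or.inl (main (h4.congr e)), Or.inl (main (h5.congr e))]
    · rcases h with ⟨hc, ⟨e⟩⟩ | ⟨hc, ⟨e⟩⟩
      exacts [Or.inl (main (((hD1 F p q hp hq).1 hc).congr e)), Or.inl (main (((hD1 F p q hp hq).2 hc).congr e))]
    · exact absurd rfl hp
    · exact absurd rfl hp
    · exact Or.inl (main (hD2 _ h))
  · exact absurd rfl hp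
  · exact Or.inr (Or.inr (Or.inr (Or.inr ⟨F, i1, i2, hF, he⟩)))

end Cfsg.Agent.InvRankP
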